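import Cfsg.Agent.N2.L3U3.Hess
import Cfsg.Agent.N2.L2.Main
import Cfsg.Agent.Lib.Cores

/-!
# N2 (S3519), `PSL₃(q)` and `PSU₃(q)`: subgroups with a normal elementary abelian subgroup (helper11)
-/

set_option autoImplicit false
set_option maxHeartbeats 400000
set_option linter.unusedSectionVars false

namespace Cfsg.Agent.N2.L3

open Matrix Subgroup Cfsg.Agent.FP3
open Cfsg.Agent.H890.B3 (NEA)

theorem exists_char {A : Type} [Group A] [Finite A] (h : ¬ NEA A) : ∃ (p : ℕ) (Z : Subgroup A), p.Prime ∧ Z.Characteristic ∧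
    Z ≠ ⊥ ∧ (∀ a ∈ Z, ∀ b ∈ Z, a * b = b * a) ∧ ∀ a ∈ Z, a ^ p = 1 := by
  unfold NEA at h
  push Not at h
  obtain ⟨N, hN, -, ⟨p, hp', h1⟩, h2⟩ := h
  have : Fact p.Prime := ⟨hp'⟩
  have hO : pCore p A ≠ ⊥ := fun e => h2 (le_bot_iff.1 (e ▸ Lib.Cores.le_pCore hN fun x =>
    ⟨1, Subtype.ext (by simpa using h1 x x.2)⟩))
  have hc := Lib.Cores.pCore_characteristic (G := A) p
  have hp := Lib.Cores.pCore_isPGroup (G := A) p
  generalize pCore p A = O at hO hc hp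
  let Z : Subgroup A :=
    { carrier := {a | a ∈ O ∧ (∀ b ∈ O, a * b = b * a) ∧ a ^ p = 1}
      mul_mem' := fun {a b} ha hb => ⟨O.mul_mem ha.1 hb.1, fun c hc => by
        rw [mul_assoc, hb.2.1 c hc, ← mul_assoc, ha.2.1 c hc, mul_assoc], by
        rw [Commute.mul_pow (ha.2.1 b hb.1), ha.2.2, hb.2.2, one_mul]⟩
      one_mem' := ⟨O.one_mem, fun b _ => by rw [one_mul, mul_one], one_pow p⟩
      inv_mem' := fun {a} ha => ⟨O.inv_mem ha.1, fun b hb => Commute.inv_left (ha.2.1 b hb), by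
        rw [inv_pow, ha.2.2, inv_one]⟩ }
  refine ⟨p, Z, hp', characteristic_iff_le_comap.2 fun φ a ha => ⟨characteristic_iff_le_comap.1 hc φ ha.1, fun b hb => ?_, ?_⟩,
    fun h0 => ?_, fun a ha b hb => ha.2.1 b hb.1, fun a ha => ha.2.2⟩
  · have h1 := congrArg φ (ha.2.1 (φ.symm b) (characteristic_iff_le_comap.1 hc φ.symm hb))
    rwa [map_mul, map_mul, φ.apply_symm_apply] at h1
  · rw [← map_pow, ha.2.2, map_one]
  · have := (nontrivial_iff_ne_bot O).2 hO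
    have := hp.center_nontrivial
    obtain ⟨k, hk, h1⟩ := (hp.to_subgroup (center O)).nontrivial_iff_card.1 inferInstance
    obtain ⟨z, hz⟩ := exists_prime_orderOf_dvd_card' (G := center O) p (h1 ▸ dvd_pow_self p hk.ne')
    have h2 : orderOf ((z : O) : A) = p := by rw [orderOf_coe, orderOf_coe, hz]
    have h3 : ((z : O) : A) ∈ Z := ⟨(z : O).2, fun b hb => (congrArg Subtype.val (mem_center_iff.1 z.2 ⟨b, hb⟩)).symm,
      h2 ▸ pow_orderOf_eq_one _⟩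
    rw [h0, mem_bot] at h3
    rw [h3, orderOf_one] at h2
    exact hp'.one_lt.ne h2

theorem Nm.hess {q c m D : ℕ} (h : Nm q c m D) (hq : 3 ≤ q) (h3 : 3 ∣ m) :
    32 * m ^ 6 ≤ D ∨ (m = 6 ∧ D = 378000) ∨ (m = 9 ∧ D = 16547328) := by
  rcases Nat.lt_or_ge q 10 with k | k
  · interval_cases q <;> rcases h with ⟨-, rfl, rfl⟩ | ⟨-, rfl, rfl⟩ <;> omega
  · have e1 := h.rq
    have e2 : m ^ 2 ≤ c := by
      rcases h with ⟨rfl, rfl, -⟩ | ⟨rfl, rfl, -⟩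
      · exact (Nat.pow_le_pow_left (Nat.sub_le q 1) 2).trans (by omega)
      · exact le_rfl
    refine Or.inl (le_trans (Nat.mul_le_mul (le_trans (by norm_num) (Nat.mul_le_mul k (show 4 ≤ q - 6 by omega))) ?_) e1)
    rw [show 6 = 2 * 3 from rfl, pow_mul]
    exact Nat.pow_le_pow_left e2 3

variable {K G T : Type} [Field K] [Group G] [Group T]

/-- elements which commute modulo scalars and do not commute -/
def Pr (π : G →* T) (x y : G) : Prop := π x * π y = π y * π x ∧ x * y ≠ y * x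

theorem Pr.symm {π : G →* T} {x y : G} (h : Pr π x y) : Pr π y x := ⟨h.1.symm, h.2.symm⟩

theorem ker_cm {π : G →* T} {x y : G} (h : π y * π x = π x * π y) : π (y * x * y⁻¹ * x⁻¹) = 1 := by
  rw [map_mul, map_mul, map_mul, h, map_inv, map_inv]
  group

namespace Ax

variable {q c m : ℕ} {ρ : G →* Mt K} {π : G →* T} (h : Ax q c m ρ π)
include h

theorem cj_pow' {x y : G} (e : π y * π x = π x * π y) (n : ℕ) : y ^ n * x * (y ^ n)⁻¹ = (y * x * y⁻¹ * x⁻¹) ^ n * x := by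
  induction n with
  | zero => simp
  | succ n ih =>
    have e1 : π ((y * x * y⁻¹ * x⁻¹) ^ n) = 1 := by rw [map_pow, ker_cm e, one_pow]
    calc y ^ (n + 1) * x * (y ^ (n + 1))⁻¹ = y * (y ^ n * x * (y ^ n)⁻¹) * y⁻¹ := by group
      _ = (y * x * y⁻¹ * x⁻¹) ^ n * (y * x * y⁻¹ * x⁻¹) * x := by
        rw [ih, ← mul_assoc, ← h.ker_comm e1]
        group
      _ = _ := by rw [pow_succ]

theorem pr_three {x y : G} (e : Pr π x y) : 3 ∣ m :=
  by_contra fun k => e.2 (by simpa [mul_inv_eq_one, mul_inv_eq_iff_eq_mul] using h.ker_triv k (ker_cm e.1))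

theorem pr_rg {x y : G} (e : Pr π x y) (hx : x ∈ dg ρ) :
    Rg ρ x ∧ ∃ w, Mon ρ y w ∧ (∀ i, w i ≠ i) ∧ (∀ i j, i = j ∨ w i = j ∨ w j = i) ∧ ∀ i, i ≠ w (w i) := by
  have z1 := ker_cm e.1.symm
  obtain ⟨a, ha⟩ := (h.ker _).1 z1
  have a1 : a ≠ 1 := fun k => e.2 (by
    have : y * x * y⁻¹ * x⁻¹ = 1 := h.inj (by rw [ha, k, one_smul, map_one])
    rwa [mul_inv_eq_one, mul_inv_eq_iff_eq_mul, eq_comm] at this)
  have a3 := h.sc_cube ha
  have e1 : y * x * y⁻¹ ∈ dg ρ := inv_mul_cancel_right (y * x * y⁻¹) x ▸ mul_mem (h.ker_dg z1) hx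
  have e2 : ∀ i j, ρ y i j ≠ 0 → a * ρ x i i = ρ x j j := fun i j k => by
    rw [← dg_conj hx e1 rfl k, ← inv_mul_cancel_right (y * x * y⁻¹) x, map_mul, ha, smul_mul_assoc, one_mul]
    rfl
  obtain ⟨w, hw⟩ := exists_perm (A := ρ y) (by rw [h.det]; exact one_ne_zero)
  have e3 : ∀ i, ρ x i i ≠ ρ x (w i) (w i) := fun i k =>
    a1 (mul_right_cancel₀ (h.dg_ne hx i) (by rw [one_mul, k, e2 _ _ (hw i), k]))
  have e4 : ∀ i, w i ≠ i := fun i k => e3 i (by rw [k])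
  obtain ⟨-, -, e5, e6⟩ := ((perm_cases w).resolve_left fun k => e4 0 (by rw [k]; rfl)).resolve_left
    fun ⟨_, _, l, _, k, _⟩ => e4 l k
  have rg : Rg ρ x := ⟨hx, fun i j k => by
    rcases e5 i j with rfl | rfl | rfl
    exacts [rfl, absurd k (e3 i), absurd k.symm (e3 j)]⟩
  have a0 : a ≠ 0 := fun k => by simp [k] at a3
  exact ⟨rg, w, fun i j k => rg.2 _ _ (mul_left_cancel₀ a0 ((e2 _ _ k).trans (e2 _ _ (hw j)).symm)), e4, e5, e6⟩

theorem cyc_scal {x t : G} {w : Equiv.Perm (Fin 3)} (hx : x ∈ dg ρ) (hz : π (x ^ 3) = 1) (rg : Rg ρ x) (ht : Mon ρ t w)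
    (hd : t * x * t⁻¹ ∈ dg ρ) (e0 : ∀ i, w i ≠ i) (e1 : ∀ i j, i = j ∨ w i = j ∨ w j = i) (e2 : ∀ i, i ≠ w (w i)) :
    π t * π x = π x * π t := by
  have cu := h.rg_cube rg hz
  have e4 : ∀ j, ρ (t * x * t⁻¹) (w j) (w j) = ρ x j j := fun j => dg_conj hx hd rfl (h.mon_ne ht j)
  have e5 : ∀ j, ρ (t * x * t⁻¹ * x ^ 2) j j = ρ (t * x * t⁻¹) j j * ρ x j j ^ 2 := fun j => by
    rw [map_mul, dmul hd, dg_pow hx]
  have e6 : ∀ j, ρ (t * x * t⁻¹ * x ^ 2) (w (w j)) (w (w j)) = ρ (t * x * t⁻¹ * x ^ 2) (w j) (w j) := fun j => by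
    have e7 := (prod3 (fun i => ρ x i i) (e0 j).symm (e2 j) (e0 _).symm).trans (h.prod hx)
    have e10 := cu (w (w j))
    rw [e5, e5, e4, e4]
    generalize ρ x j j = a, ρ x (w j) (w j) = b, ρ x (w (w j)) (w (w j)) = d at *
    linear_combination (-(b * d ^ 2)) * e7 + a * b ^ 2 * e10
  have e7 := h.ker_of (mul_mem hd (pow_mem hx 2)) fun i j => by
    obtain ⟨i, rfl⟩ := w.surjective i
    obtain ⟨j, rfl⟩ := w.surjective j
    rcases e1 (w i) (w j) with e | e | e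
    exacts [e ▸ rfl, e ▸ (e6 i).symm, e ▸ e6 j]
  rw [map_mul, map_mul, map_mul, map_inv, map_pow] at e7
  rw [map_pow, pow_succ'] at hz
  exact mul_inv_eq_iff_eq_mul.1 (mul_right_cancel (e7.trans hz.symm))

theorem cm_comm {a b x : G} (ha : π a * π x = π x * π a) (hb : π b * π x = π x * π b) :
    a * b * x * (a * b)⁻¹ = b * a * x * (b * a)⁻¹ := by
  have k : ∀ {a b : G}, π b * π x = π x * π b → a * b * x * (a * b)⁻¹ = b * x * b⁻¹ * x⁻¹ * (a * x * a⁻¹ * x⁻¹) * x :=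
    fun {a b} hb => calc a * b * x * (a * b)⁻¹ = a * (b * x * b⁻¹ * x⁻¹) * x * a⁻¹ := by group
      _ = _ := by rw [← h.ker_comm (ker_cm hb)]; group
  rw [k hb, k ha, h.ker_comm (ker_cm hb)]

theorem comm_zp {a b u : G} (ha : π a ∈ zpowers (π u)) (hb : π b ∈ zpowers (π u)) : a * b = b * a := by
  obtain ⟨i, hi⟩ := ha
  obtain ⟨j, hj⟩ := hb
  have e1 : π (a * (u ^ i)⁻¹) = 1 := by rw [map_mul, map_inv, map_zpow, show π u ^ i = _ from hi, mul_inv_cancel]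
  have e2 : π (b * (u ^ j)⁻¹) = 1 := by rw [map_mul, map_inv, map_zpow, show π u ^ j = _ from hj, mul_inv_cancel]
  rw [← inv_mul_cancel_right a (u ^ i), ← inv_mul_cancel_right b (u ^ j)]
  exact (Commute.mul_left (h.ker_comm e1 _) (Commute.mul_right (h.ker_comm e2 _).symm (Commute.zpow_zpow_self u i j))).eq

variable [Finite G]

theorem cn_le (x : G) : cn (π x) ≤ cn x := by
  have c : ∀ g : (centralizer {π x}).comap π, π g * π x = π x * π g := fun g => mem_centralizer_singleton_iff.1 g.2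
  have e := card_le_two (β := π.ker) (γ := centralizer {x}) (fun g : (centralizer {π x}).comap π => ⟨_, ker_cm (c g)⟩)
    (fun a b e => ⟨a.1⁻¹ * b, mem_centralizer_singleton_iff.2 (by
      have e1 := mul_right_cancel (Subtype.mk.inj e)
      calc a.1⁻¹ * b * x = a.1⁻¹ * (b * x * b.1⁻¹) * b := by group
        _ = x * (a.1⁻¹ * b) := by rw [e1]; group)⟩)
    fun a b d _ _ e => Subtype.ext (mul_left_cancel (Subtype.mk.inj e))
  rw [h.card_comap] at e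
  exact Nat.le_of_mul_le_mul_left e Nat.card_pos

theorem pr_ker {x y : G} (e : Pr π x y) : zpowers (y * x * y⁻¹ * x⁻¹) = π.ker ∧ Nat.card π.ker = 3 := by
  have e1 := ker_cm e.1.symm
  have e2 : Nat.card (zpowers (y * x * y⁻¹ * x⁻¹)) = 3 := by
    rw [Nat.card_zpowers, orderOf_eq_prime (h.ker_cube e1) fun k => e.2 ?_]
    rwa [mul_inv_eq_one, mul_inv_eq_iff_eq_mul, eq_comm] at k
  have e3 := eq_of_le_of_card_ge (zpowers_le.2 (show _ ∈ π.ker from e1)) (e2 ▸ h.card_ker_le)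
  exact ⟨e3, e3 ▸ e2⟩

theorem pr_fix {x y g : G} (e : Pr π x y) (hg : π g * π x = π x * π g) : ∃ i : ℕ, y ^ i * g * x = x * (y ^ i * g) := by
  have e1 := ker_cm hg
  obtain ⟨i, hi⟩ := mem_powers_iff_mem_zpowers.2 ((h.pr_ker e).1.ge (inv_mem (show _ ∈ π.ker from e1)))
  refine ⟨i, mul_inv_eq_iff_eq_mul.1 ?_⟩
  calc y ^ i * g * x * (y ^ i * g)⁻¹ = y ^ i * (g * x * g⁻¹ * x⁻¹) * x * (y ^ i)⁻¹ := by group
    _ = (g * x * g⁻¹ * x⁻¹) * (y ^ i * x * (y ^ i)⁻¹) := by rw [← h.ker_comm e1]; group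
    _ = x := by rw [h.cj_pow' e.1.symm, show (y * x * y⁻¹ * x⁻¹) ^ i = _ from hi, mul_inv_cancel_left]

variable [IsAlgClosed K] (hm : (m : K) ≠ 0)
include hm

theorem pr_frame {x y : G} (e : Pr π x y) (hx : π (x ^ 3) = 1) : ∃ θ : G →* Mt K, Ax q c m θ π ∧ x ∈ dg θ := by
  obtain ⟨j, rfl⟩ := h.pr_three e
  rw [Nat.cast_mul] at hm
  obtain ⟨θ, g, k⟩ := h.frame (fun _ : Unit => x) (fun _ _ => rfl) (n := 3 * 3)
    (by rw [Nat.cast_mul]; exact mul_ne_zero (left_ne_zero_of_mul hm) (left_ne_zero_of_mul hm))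
    fun _ => by rw [pow_mul, h.ker_cube hx]
  exact ⟨θ, g, k ()⟩

theorem pr_one {x y t : G} (e : Pr π x y) (hx : π (x ^ 3) = 1) (h1 : t * x = x * t) (h2 : t * y = y * t) : π t = 1 := by
  obtain ⟨θ, g, k⟩ := h.pr_frame hm e hx
  obtain ⟨rg, w, hw, -, e1, -⟩ := g.pr_rg e k
  have e2 : t ∈ dg θ := g.cent_rg rg ▸ mem_centralizer_singleton_iff.2 h1
  have e3 : ∀ j, θ t (w j) (w j) = θ t j j := fun j => dg_conj e2 e2 (by rw [← h2, mul_inv_cancel_right]) (g.mon_ne hw j)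
  refine g.ker_of e2 fun i j => ?_
  rcases e1 i j with rfl | rfl | rfl
  exacts [rfl, (e3 i).symm, e3 j]

theorem pr_pow {x y t : G} (e : Pr π x y) (hx : π (x ^ 3) = 1) (h1 : t * x = x * t) (h2 : π t * π y = π y * π t) :
    ∃ a : ℕ, π t = π x ^ a := by
  obtain ⟨j, hj⟩ := h.pr_fix e.symm h2
  have e1 := h.pr_one hm e hx (t := x ^ j * t) (((Commute.pow_self x j).mul_left h1).eq) hj
  refine ⟨2 * j, ?_⟩
  rw [map_mul, map_pow] at e1
  rw [eq_inv_of_mul_eq_one_right e1, inv_eq_iff_mul_eq_one, ← pow_add, show j + 2 * j = 3 * j by ring, pow_mul, ← map_pow, hx,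
    one_pow]

theorem pr_cen {x y t : G} (e : Pr π x y) (hx : π (x ^ 3) = 1) (hy : π (y ^ 3) = 1) (h1 : π t * π x = π x * π t)
    (h2 : π t * π y = π y * π t) : ∃ a b : ℕ, π t = π x ^ a * π y ^ b := by
  obtain ⟨i, hi⟩ := h.pr_fix e h1
  obtain ⟨a, ha⟩ := h.pr_pow hm e hx hi (by rw [map_mul, map_pow]; exact ((Commute.pow_self _ i).mul_left h2).eq)
  refine ⟨a, 2 * i, ?_⟩
  rw [map_mul, map_pow] at ha
  rw [(Commute.pow_pow e.1 a (2 * i)).eq, ← ha, ← mul_assoc, ← pow_add, show 2 * i + i = 3 * i by ring, pow_mul, ← map_pow, hy,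
    one_pow, one_mul]

theorem pr_cn {x y : G} (e : Pr π x y) (hx : π (x ^ 3) = 1) : cn (π x) ≤ m ^ 2 := by
  obtain ⟨θ, g, k⟩ := h.pr_frame hm e hx
  obtain ⟨rg, -⟩ := g.pr_rg e k
  obtain ⟨j, hj⟩ := h.pr_three e
  refine (h.cn_le x).trans ?_
  rw [cn, g.cent_rg rg]
  exact g.card_dg (Nat.pos_of_ne_zero fun e => hm (by simp [e])) fun t ht => ((g.split' (fun i l hil =>
    ⟨x, k, fun e => hil (rg.2 _ _ e), fun k => by rw [hj, pow_mul, g.rg_cube rg hx, one_pow]⟩) _).1 ⟨t, dg_eq ht⟩).1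

theorem pr_conj {x y t : G} (e : Pr π x y) (hx : π (x ^ 3) = 1) (h1 : t * x = x * t) (h2 : IsConj (π x) (π t)) :
    π y * π t = π t * π y := by
  obtain ⟨θ, g, k⟩ := h.pr_frame hm e hx
  obtain ⟨rg, w, hw, e0, e1, e2⟩ := g.pr_rg e k
  have e3 : t ∈ dg θ := g.cent_rg rg ▸ mem_centralizer_singleton_iff.2 h1
  obtain ⟨s, hs⟩ := isConj_iff.1 h2
  obtain ⟨s, rfl⟩ := h.surj s
  have e4 : π (s * x * s⁻¹ * t⁻¹) = 1 := by rw [map_mul, map_mul, map_mul, map_inv, map_inv, hs, mul_inv_cancel]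
  have e5 : s * x * s⁻¹ ∈ dg θ := inv_mul_cancel_right (s * x * s⁻¹) t ▸ mul_mem (g.ker_dg e4) e3
  have e6 : π (s * x * s⁻¹) = π t := by rw [map_mul, map_mul, map_inv, hs]
  rw [← e6]
  refine g.cyc_scal e5 (by rw [conj_pow, map_mul, map_mul, hx, mul_one, map_inv, mul_inv_cancel])
    (g.rg_conj rg e5 (isConj_iff.2 ⟨s, rfl⟩)) hw ?_ e0 e1 e2
  obtain ⟨W, hW, hk⟩ := g.exists_W (B := zpowers y) (by
    rintro _ hu
    obtain ⟨n, rfl⟩ := mem_powers_iff_mem_zpowers.2 hu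
    induction n with
    | zero => exact ⟨1, mon_one.2 (by simp)⟩
    | succ n ih =>
      obtain ⟨v, hv⟩ := ih (pow_mem (mem_zpowers y) n)
      exact ⟨_, by simpa only [pow_succ] using hv.mul hw⟩)
  have e7 := (hw.mul (mon_one.2 e5)).mul (hW (⟨y, mem_zpowers y⟩ : zpowers y)⁻¹)
  have e8 : W ⟨y, mem_zpowers y⟩ = w := Equiv.ext fun j => (hW ⟨y, mem_zpowers y⟩ _ _ (g.mon_ne hw j)).symm
  rwa [map_inv, e8, mul_one, mul_inv_cancel, mon_one] at e7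

omit hm

variable [IsSimpleGroup T] {A : Subgroup T} {Γ : Subgroup (MulAut T)} (hA : MI A Γ) (hN : Nm q c m (Nat.card G)) (hq : 3 ≤ q)
  (hqK : (q : K) = 0) (h2 : (2 : K) ≠ 0 → 2 ∣ m)
include hA hN hq hqK h2

theorem ab2' {E : Subgroup T} (hi : Inv Γ E) (hle : E ≤ A) (h1 : E ≠ ⊥) {r : ℕ} (hr : r.Prime) (hrK : (r : K) ≠ 0)
    (hp : ∀ a ∈ E, a ^ r = 1) (hc : ∀ a b, π a ∈ E → π b ∈ E → a * b = b * a) : Good A := by
  refine (good_comap π h.surj A).1 (h.ab2 hN hq hqK h2 (E := E.comap π) hr hrK (fun a ha b hb => hc a b ha hb)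
    (fun a ha => (map_pow π a r).trans (hp _ ha)) ?_ ?_ ?_)
  · obtain ⟨⟨a, ha⟩, a1⟩ := ne_bot_iff_exists_ne_one.1 h1
    obtain ⟨a, rfl⟩ := h.surj a
    exact ⟨a, ha, fun e => a1 (Subtype.ext e)⟩
  · rw [← comap_normalizer_eq_of_surjective E h.surj, mi_norm hA hi h1 fun e => hA.ne_top (top_le_iff.1 (e ▸ hle))]
  · rw [← comap_normalizer_eq_of_surjective A h.surj, mi_self hA]

/-- **a normal elementary abelian subgroup of order prime to the characteristic** -/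
theorem ab {E : Subgroup T} (hi : Inv Γ E) (hle : E ≤ A) (h1 : E ≠ ⊥) {r : ℕ} (hr : r.Prime) (hrK : (r : K) ≠ 0)
    (hp : ∀ a ∈ E, a ^ r = 1) (hc : ∀ a ∈ E, ∀ b ∈ E, a * b = b * a) : Good A := by
  have := h.fin
  by_cases k : ∀ a b, π a ∈ E → π b ∈ E → a * b = b * a
  · exact h.ab2' hA hN hq hqK h2 hi hle h1 hr hrK hp k
  push Not at k
  obtain ⟨x₀, y₀, hx₀, hy₀, k⟩ := k
  have p0 : Pr π x₀ y₀ := ⟨hc _ hx₀ _ hy₀, k⟩
  have hm : (m : K) ≠ 0 := by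
    rcases hN with ⟨-, rfl, -⟩ | ⟨-, rfl, -⟩
    · simp [Nat.cast_sub (show 1 ≤ q by omega), hqK]
    · simp [hqK]
  obtain ⟨z1, z2⟩ := h.pr_ker p0
  obtain rfl : r = 3 := by
    have e1 := h.cj_pow' p0.1.symm r
    rw [h.ker_comm ((map_pow π y₀ r).trans (hp _ hy₀)), mul_inv_cancel_right, eq_comm, mul_eq_right,
      ← orderOf_dvd_iff_pow_eq_one, ← Nat.card_zpowers, z1, z2] at e1
    exact ((Nat.prime_dvd_prime_iff_eq Nat.prime_three hr).1 e1).symm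
  have c3 : ∀ {a}, π a ∈ E → π (a ^ 3) = 1 := fun {a} ha => (map_pow π a 3).trans (hp _ ha)
  have nA : normalizer (E : Set T) = A := mi_norm hA hi h1 fun e => hA.ne_top (top_le_iff.1 (e ▸ hle))
  have pa : ∀ u, π u ∈ E → π u ≠ 1 → ∃ v, π v ∈ E ∧ Pr π u v := fun u hu u1 => by
    by_contra e
    push Not at e
    exact u1 (h.pr_one hm p0 (c3 hx₀) (by_contra fun k => e _ hx₀ ⟨hc _ hu _ hx₀, k⟩)
      (by_contra fun k => e _ hy₀ ⟨hc _ hu _ hy₀, k⟩))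
  have pb : ∀ u v, π u ∈ E → π u ≠ 1 → π v ∈ E → π v ∉ zpowers (π u) → Pr π u v := fun u v hu u1 hv v1 =>
    ⟨hc _ hu _ hv, fun e => by
      obtain ⟨w, hw, pw⟩ := pa u hu u1
      obtain ⟨a, ha⟩ := h.pr_pow hm pw (c3 hu) e.symm (hc _ hv _ hw)
      exact v1 (ha ▸ pow_mem (mem_zpowers _) a)⟩
  have nr : ∀ a ∈ A, ∀ e ∈ E, a * e * a⁻¹ ∈ E := fun a ha e he => (mem_normalizer_iff.1 (nA ▸ ha) e).1 he
  have H : Hs A E := by
    refine ⟨hle, nr, hc, hp, fun x _ => ?_, fun x hx x1 y hy y1 g g1 g2 => ?_, fun x hx x1 g hg g1 y hy => ?_⟩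
    · obtain ⟨x, rfl⟩ := h.surj x
      by_contra e
      push Not at e
      exact k (h.comm_zp (e _ hx₀) (e _ hy₀))
    · obtain ⟨x, rfl⟩ := h.surj x
      obtain ⟨y, rfl⟩ := h.surj y
      obtain ⟨g, rfl⟩ := h.surj g
      exact h.pr_cen hm (pb x y hx x1 hy y1) (c3 hx) (c3 hy) g1 g2
    · obtain ⟨x, rfl⟩ := h.surj x
      obtain ⟨y, rfl⟩ := h.surj y
      obtain ⟨g, rfl⟩ := h.surj g
      obtain ⟨w, hw, pw⟩ := pa x hx x1
      have e1 := h.cm_comm (a := g⁻¹) (b := y⁻¹) (x := x) (by rw [map_inv]; exact (Commute.inv_left g1).eq)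
        (by rw [map_inv]; exact (Commute.inv_left (hc _ hy _ hx)).eq)
      have e2 : π (g * y * g⁻¹ * y⁻¹) = π g * π y * (π g)⁻¹ * (π y)⁻¹ := by simp
      obtain ⟨a, ha⟩ := h.pr_pow hm pw (c3 hx) (t := g * y * g⁻¹ * y⁻¹)
        (calc g * y * g⁻¹ * y⁻¹ * x = g * y * (g⁻¹ * y⁻¹ * x * (g⁻¹ * y⁻¹)⁻¹) * (g⁻¹ * y⁻¹) := by group
          _ = x * (g * y * g⁻¹ * y⁻¹) := by rw [e1]; group)
        (hc _ (e2 ▸ mul_mem (nr _ hg _ hy) (inv_mem hy)) _ hw)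
      exact e2 ▸ ha ▸ pow_mem (mem_zpowers _) a
  have cT := h.card_top'
  have num := hN.hess hq (h.pr_three p0)
  rw [z2] at cT
  by_cases c1 : ∀ e ∈ E, e ≠ 1 → ∀ g ∈ A, g * e = e * g → g ∈ E
  · have x1 : π x₀ ≠ 1 := fun e => k (h.ker_comm e _)
    have e1 := rel_card E A
    rw [inf_eq_left.2 hle, H.card_E] at e1
    have e2 : E.relIndex A ≠ 1 := fun e => L2.not_ab hA (r := 3)
      (fun a => ⟨1, Subtype.ext (by simpa using hp _ (relIndex_eq_one.1 e a.2))⟩)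
      fun a ha b hb => hc _ (relIndex_eq_one.1 e ha) _ (relIndex_eq_one.1 e hb)
    have e3 : E.relIndex A ≠ 0 := index_ne_zero_of_finite
    refine good_of_cc (hle hx₀) (h.pr_cn hm p0 (c3 hx₀)) (H.cc_le8 hx₀ x1 c1)
      (le_trans ?_ (Nat.mul_le_mul_left _ (Nat.pow_le_pow_left (show 18 ≤ Nat.card A by omega) 2)))
    rw [mul_pow, ← pow_mul, show 2 * 3 = 6 from rfl]
    rcases num with e | ⟨rfl, e⟩ | ⟨rfl, e⟩ <;> omega
  push Not at c1
  obtain ⟨x, hx, x1, t, t1, t2, t3⟩ := c1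
  obtain ⟨x, rfl⟩ := h.surj x
  by_cases c2 : ∀ y ∈ E, ∀ s ∈ A, s * y = y * s → s ∉ E → y ∈ zpowers (π x)
  · refine h.ab2' hA hN hq hqK h2 (E := zpowers (π x)) (fun σ hσ u hu => ?_) (zpowers_le.2 (hle hx))
      (zpowers_ne_bot.2 x1) hr hrK (fun a ha => hp a (zpowers_le.2 hx ha)) fun a b => h.comm_zp
    obtain ⟨n, rfl⟩ := hu
    rw [map_zpow]
    exact zpow_mem (c2 _ (hi σ hσ _ hx) _ (mi_inv hA σ hσ t t1) (by rw [← map_mul, t2, map_mul])
      fun e => t3 ((hi.iff hσ t).1 e)) n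
  push Not at c2
  obtain ⟨y, hy, s, s1, s2, s3, y1⟩ := c2
  have e1 := H.card216 hx x1 t1 t2 t3 hy y1 s1 s2 s3
  have e2 := H.card27 hx x1 t1 t2 t3
  obtain ⟨y, rfl⟩ := h.surj y
  obtain ⟨t, rfl⟩ := h.surj t
  have p1 := pb x y hx x1 hy y1
  obtain ⟨i, hi'⟩ := h.pr_fix p1 t2
  have e3 : π (y ^ i * t) ∉ E := by rwa [map_mul, map_pow, mul_mem_cancel_left (pow_mem hy i)]
  have e4 : π (y ^ i * t) * π x = π x * π (y ^ i * t) := by rw [← map_mul, hi', map_mul]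
  have e5 := H.cc_le79 hx x1 (t := π (y ^ i * t)) (by rw [map_mul, map_pow]; exact mul_mem (pow_mem (hle hy) i) t1) e4 e3
    fun e => e3 (H.cen_le hx x1 hy y1 e4 (h.pr_conj hm p1 (c3 hx) hi' e).symm)
  have e6 := (fx_mul A (π x)).trans_le (Nat.mul_le_mul (h.pr_cn hm p1 (c3 hx)) e5)
  have e7 : 27 ∣ Nat.card T := e2 ▸ card_subgroup_dvd_card _
  refine good_of_le (hle hx) le_rfl ?_
  have e8 := (Nat.mul_le_mul_left (fx A (π x)) e1).trans e6
  generalize fx A (π x) = f at *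
  have e9 : f ^ 3 * Nat.card A ≤ f * f * (m ^ 2 * 79) := by
    rw [pow_three', mul_assoc]
    exact Nat.mul_le_mul_left _ e6
  rcases num with e | ⟨rfl, e⟩ | ⟨rfl, e⟩
  · have e10 := Nat.mul_le_mul (Nat.mul_le_mul e8 e8) (le_refl (m ^ 2 * 79))
    have e11 : m ^ 2 * 79 * (m ^ 2 * 79) * (m ^ 2 * 79) = 493039 * m ^ 6 := by ring
    have e12 : f * 216 * (f * 216) * (m ^ 2 * 79) = 46656 * (f * f * (m ^ 2 * 79)) := by ring
    omega
  · omega
  · have e10 : f ≤ 29 := by omega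
    have e11 := Nat.mul_le_mul e10 e10
    omega

end Ax

end Cfsg.Agent.N2.L3
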