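import Cfsg.Agent.N2.L3U3.Ax

/-!
# N2 (S3519), `PSL₃(q)` and `PSU₃(q)`: the fixed points of the two Frobenius maps satisfy `Ax` (helper11)
-/

set_option autoImplicit false
set_option maxHeartbeats 400000
set_option linter.unusedSectionVars false
set_option linter.unusedSimpArgs false

namespace Cfsg.Agent.N2.L3

open Matrix Cfsg.Agent.FP3

variable {K G T : Type} [Field K] [Group G] [Group T]

theorem card_lin {q : ℕ} (hq : 2 ≤ q) (η c : K) :
    Finite {x : K // x ^ q + η * x = c} ∧ Nat.card {x : K // x ^ q + η * x = c} ≤ q := by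
  have h := card_poly (Polynomial.X ^ q + Polynomial.C η * Polynomial.X - Polynomial.C c) (fun e => by
    have := congrArg (Polynomial.coeff · q) e
    simp [Polynomial.coeff_X, Polynomial.coeff_C, show 1 ≠ q by omega, show q ≠ 0 by omega] at this)
    (fun x => x ^ q + η * x = c) fun x hx => by simp [hx]
  refine ⟨h.1, h.2.trans ?_⟩
  refine (Polynomial.natDegree_sub_le _ _).trans (max_le ((Polynomial.natDegree_add_le _ _).trans (max_le (by simp) ?_))
    (by simp))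
  exact (Polynomial.natDegree_C_mul_le _ _).trans (by simp; omega)

theorem card_sol {q : ℕ} (hq : 2 ≤ q) (η : K) (f : K → K) :
    Finite {x : K × K // x.1 ^ q + (-1) * x.1 = 0 ∧ x.2 ^ q + η * x.2 = f x.1} ∧
      Nat.card {x : K × K // x.1 ^ q + (-1) * x.1 = 0 ∧ x.2 ^ q + η * x.2 = f x.1} ≤ q ^ 2 := by
  let e : {x : K × K // x.1 ^ q + (-1) * x.1 = 0 ∧ x.2 ^ q + η * x.2 = f x.1} ≃
      Σ b : {x : K // x ^ q + (-1) * x = 0}, {y : K // y ^ q + η * y = f b.1} :=
    ⟨fun x => ⟨⟨x.1.1, x.2.1⟩, ⟨x.1.2, x.2.2⟩⟩, fun y => ⟨(y.1.1, y.2.1), y.1.2, y.2.2⟩, fun _ => rfl, fun _ => rfl⟩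
  obtain ⟨f1, k1⟩ := card_lin hq (-1 : K) 0
  have f2 := fun b : {x : K // x ^ q + (-1) * x = 0} => (card_lin hq η (f b.1)).1
  have := Fintype.ofFinite {x : K // x ^ q + (-1) * x = 0}
  refine ⟨Finite.of_equiv _ e.symm, ?_⟩
  rw [Nat.card_congr e, Nat.card_sigma]
  refine (Finset.sum_le_card_nsmul _ _ q fun b _ => (card_lin hq η (f b.1)).2).trans ?_
  rw [Finset.card_univ, ← Nat.card_eq_fintype_card, smul_eq_mul, pow_two]
  exact Nat.mul_le_mul_right _ k1

theorem det_hom (l s : K) (v φ : Fin 3 → K) : (l • (1 : Mt K) + s • vecMulVec v φ).det = l ^ 2 * (l + s * (φ ⬝ᵥ v)) := by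
  simp [det_fin_three, vecMulVec_apply, dotProduct, Fin.sum_univ_three, one_apply]
  ring

theorem vv_mul {v φ : Fin 3 → K} (h : φ ⬝ᵥ v = 1) : vecMulVec v φ * vecMulVec v φ = vecMulVec v φ := by
  rw [vecMulVec_mul_vecMulVec, h, one_smul]

theorem dot_ne {v φ : Fin 3 → K} (h : φ ⬝ᵥ v = 1) : v ≠ 0 ∧ φ ≠ 0 :=
  ⟨fun e => by simp [e] at h, fun e => by simp [e] at h⟩

theorem idem_eq {v φ : Fin 3 → K} (h : φ ⬝ᵥ v = 1) {e : Mt K} {α β : K} (h1 : e = α • 1 + β • vecMulVec v φ)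
    (h2 : e * e = e) (h3 : e.trace = 1) (h4 : e.det = 0) : e = vecMulVec v φ := by
  have k1 : ∀ a b : K, a • (1 : Mt K) + b • vecMulVec v φ = 0 → a = 0 ∧ b = 0 := fun a b k => by
    have k2 : (0 : K) • (1 : Mt K) + (-b) • vecMulVec v φ = a • 1 + (0 : K) • vecMulVec v φ := by
      rw [zero_smul, zero_smul, zero_add, add_zero, neg_smul, eq_neg_of_add_eq_zero_left k]
    have k3 := congrArg det k2
    rw [det_hom, det_hom] at k3
    have k4 : a = 0 := pow_eq_zero_iff three_ne_zero |>.1 (by linear_combination -k3)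
    rw [k4, zero_smul, zero_add] at k
    exact ⟨k4, (smul_eq_zero.1 k).resolve_right (vecMulVec_ne_zero (dot_ne h).1 (dot_ne h).2)⟩
  obtain ⟨k2, k3⟩ := k1 (α * α - α) (2 * α * β + β * β - β) (by
    rw [← sub_eq_zero, h1] at h2
    rw [← h2]
    simp only [add_mul, mul_add, smul_mul_assoc, mul_smul_comm, one_mul, mul_one, vv_mul h]
    module)
  rw [h1, trace_add, trace_smul, trace_smul, trace_one, trace_vecMulVec, dotProduct_comm, h] at h3
  rw [h1, det_hom, h] at h4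
  simp only [Fintype.card_fin, smul_eq_mul, Nat.cast_ofNat, mul_one] at h3 h4
  have k4 : α = 0 := by
    by_contra k
    have k5 : α = 1 := mul_left_cancel₀ k (by linear_combination k2)
    subst k5
    exact one_ne_zero (α := K) (by linear_combination h3 - h4)
  subst k4
  have k5 : β = 1 := by linear_combination h3
  rw [h1, k5, zero_smul, zero_add, one_smul]

theorem exists_col {v φ : Fin 3 → K} (h : φ ⬝ᵥ v = 1) :
    ∃ k, (fun i => (1 - vecMulVec v φ : Mt K) i k) ≠ 0 ∧ φ ⬝ᵥ (fun i => (1 - vecMulVec v φ : Mt K) i k) = 0 := by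
  obtain ⟨k, hk⟩ : ∃ k, (fun i => (1 - vecMulVec v φ : Mt K) i k) ≠ 0 := by
    by_contra k
    push Not at k
    have k1 : (1 : Mt K) = vecMulVec v φ := sub_eq_zero.1 (Matrix.ext fun i j => congrFun (k j) i)
    exact one_ne_zero (α := K) (by rw [← det_one (n := Fin 3), k1, det_vecMulVec])
  refine ⟨k, hk, ?_⟩
  have k1 : φ ᵥ* (1 - vecMulVec v φ : Mt K) = 0 := by rw [vecMul_sub, vecMul_one, vecMul_vecMulVec, h, one_smul, sub_self]
  exact congrFun k1 k

theorem det_tv {z ψ : Fin 3 → K} (h : ψ ⬝ᵥ z = 0) : (1 + vecMulVec z ψ : Mt K).det = 1 := by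
  have := det_hom 1 1 z ψ
  simpa [h] using this

section lin

variable {q : ℕ} (φ : K →+* K) (hφ : ∀ x, φ x = x ^ q) (hq : 2 ≤ q) {ρ : G →* Mt K} {π : G →* T}

theorem gr_lin (rng : ∀ M, (∃ g, ρ g = M) ↔ M.det = 1 ∧ M.map φ = M) : Gr ρ φ := fun P => by
  let R : GL (Fin 3) K := GeneralLinearGroup.map φ P
  have r1 : P.1.map φ = R.1 := rfl
  have r2 : P⁻¹.1.map φ = R⁻¹.1 := rfl
  refine ⟨(P⁻¹ * R).1, ((isUnit_iff_isUnit_det _).1 (P⁻¹ * R).isUnit).ne_zero, fun t ht => ?_⟩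
  simp only [fr_eq]
  rw [rng, det_units_conj, det_dg, Matrix.map_mul, Matrix.map_mul, r1, r2, diagonal_map (map_zero φ)]
  have e1 : R.1 * (diagonal fun i => φ (t i)) * R⁻¹.1 = P.1 * diagonal t * P⁻¹.1 ↔
      (P⁻¹ * R).1 * (diagonal fun i => φ (t i)) = diagonal t * (P⁻¹ * R).1 := by
    rw [Units.mul_inv_eq_iff_eq_mul, Units.val_mul, mul_assoc P⁻¹.1, Units.inv_mul_eq_iff_eq_mul]
    simp only [mul_assoc]
  rw [e1, and_iff_right ht, ← Matrix.ext_iff]
  refine forall₂_congr fun i j => ?_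
  rw [mul_diagonal, diagonal_mul, mul_comm (t i)]
  exact ⟨fun e k => (mul_left_cancel₀ k e).symm, fun e => by
    by_cases k : (P⁻¹ * R).1 i j = 0
    · rw [k, zero_mul, zero_mul]
    · rw [e k]⟩

include hφ hq in
theorem ax_lin (inj : Function.Injective ρ) (rng : ∀ M, (∃ g, ρ g = M) ↔ M.det = 1 ∧ M.map φ = M)
    (surj : Function.Surjective π) (ker : ∀ g, π g = 1 ↔ ∃ a : K, ρ g = a • 1) :
    Ax q (q ^ 2 + q + 1) (q - 1) ρ π := by
  have hd : ∀ g, (ρ g).det = 1 := fun g => ((rng _).1 ⟨g, rfl⟩).1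
  have hf : ∀ g, (ρ g).map φ = ρ g := fun g => ((rng _).1 ⟨g, rfl⟩).2
  have h1 : ∀ n, 1 ≤ n → ∀ t : K, t ≠ 0 → (t = t ^ n ↔ t ^ (n - 1) = 1) := fun n hn t ht => by
    obtain ⟨n, rfl⟩ := Nat.exists_eq_add_of_le' hn
    rw [pow_succ, Nat.add_sub_cancel, eq_comm, mul_eq_right₀ ht]
  have h2 : ∀ t : K, t ≠ 0 → (t = φ t ↔ t ^ (q - 1) = 1) := fun t ht => by rw [hφ, h1 q (by omega) t ht]
  have h4 : 4 ≤ q ^ 2 := by nlinarith
  have sm : ∀ (a : K) (M : Mt K), (a • M).map φ = φ a • M.map φ := fun a M => by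
    ext i j
    simp
  refine ⟨inj, hd, surj, ker, fun g a e => ?_, tor_of (gr_lin φ rng) inj hd (m := q - 1) (m₂ := q ^ 2 - 1)
    (m₃ := q ^ 2 + q + 1) (by omega) (by omega) (by omega) (fun t ht e => (h2 t ht).1 e) (fun t ht e => ?_)
    (fun t e => ?_) ?_ (by omega) le_rfl, split_of (gr_lin φ rng) hd h2, fun u k3 k2 => ?_, fun x l μ v ψ k1 k2 k3 => ?_⟩
  · have k1 := congrFun (congrFun (hf g) 0) 0
    have k2 := hd g
    rw [e] at k1 k2
    refine (h2 a fun k => ?_).1 (by simpa using k1.symm)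
    simp [k] at k2
  · rwa [hφ, hφ, ← pow_mul, ← pow_two, h1 _ (by omega) t ht] at e
  · rw [← e, hφ, hφ]
    ring
  · exact (Nat.pow_le_pow_left (Nat.sub_le _ _) 2).trans (by omega)
  · obtain ⟨f, k⟩ := card_sol hq (-1 : K) fun _ => 0
    refine (uni_of surj ker k3 k2 _ fun g a b c ha e => ?_).trans k
    have e1 : (ρ u - 1).map φ = ρ u - 1 := by rw [Matrix.map_sub _ (map_sub φ), hf, Matrix.map_one _ (map_zero φ) (map_one φ)]
    have e2 := hf g
    rw [e, Matrix.map_add _ (map_add φ), Matrix.map_add _ (map_add φ), sm, sm, sm, pow_two, Matrix.map_mul, e1,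
      Matrix.map_one _ (map_zero φ) (map_one φ), ← pow_two] at e2
    obtain ⟨e3, e4, e5⟩ := nil_ind k3 k2 (a := φ a - a) (b := φ b - b) (c := φ c - c) (by
      rw [← sub_eq_zero.2 e2]
      module)
    simp only [← hφ, map_div₀, sub_eq_zero.1 e3, sub_eq_zero.1 e4, sub_eq_zero.1 e5]
    constructor <;> ring
  · have e0 : φ (μ - l) ≠ 0 := (map_ne_zero φ).2 (sub_ne_zero.2 k2.symm)
    have e1 : (vecMulVec v ψ).map φ = vecMulVec v ψ := by
      refine idem_eq k1 (α := (l - φ l) / φ (μ - l)) (β := (μ - l) / φ (μ - l)) ?_ (by rw [← Matrix.map_mul, vv_mul k1])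
        ?_ (by rw [← RingHom.mapMatrix_apply, ← RingHom.map_det, det_vecMulVec, map_zero])
      · have e2 := hf x
        rw [k3, Matrix.map_add _ (map_add φ), sm, sm, Matrix.map_one _ (map_zero φ) (map_one φ)] at e2
        refine smul_right_injective _ e0 ?_
        simp only [smul_add, smul_smul, mul_div_cancel₀ _ e0]
        rw [eq_sub_of_add_eq' e2]
        module
      · rw [← AddMonoidHom.map_trace, trace_vecMulVec, dotProduct_comm, k1, map_one]
    obtain ⟨k, hk, hk'⟩ := exists_col k1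
    obtain ⟨j, hj⟩ := Function.ne_iff.1 (dot_ne k1).2
    set z : Fin 3 → K := fun i => (1 - vecMulVec v ψ : Mt K) i k with hz
    have e2 : ∀ i, φ (z i) = z i := fun i => by
      have : (1 - vecMulVec v ψ : Mt K).map φ = 1 - vecMulVec v ψ := by
        rw [Matrix.map_sub _ (map_sub φ), e1, Matrix.map_one _ (map_zero φ) (map_one φ)]
      exact congrFun (congrFun this i) k
    have e3 : ∀ i, φ ((ψ j • v) i) = (ψ j • v) i := fun i => by
      have := congrFun (congrFun e1 i) j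
      simpa [vecMulVec_apply, mul_comm] using this
    generalize hw : ψ j • v = w at e3
    have e4 : ∀ i, φ ((w ⨯₃ z) i) = (w ⨯₃ z) i := fun i => by
      fin_cases i <;> simp [cross_apply, e2, e3]
    have e5 : (w ⨯₃ z) ⬝ᵥ z = 0 := by rw [dotProduct_comm, dot_cross_self]
    obtain ⟨u, hu⟩ := (rng (1 + vecMulVec z (w ⨯₃ z))).2 ⟨det_tv e5, by
      ext a b
      simp [vecMulVec_apply, e2, e4, one_apply]⟩
    refine ⟨u, z, w ⨯₃ z, hk, crossProduct_ne_zero_iff_linearIndependent.2 (LinearIndependent.pair_iff.2 fun s t e => ?_),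
      e5, ?_, hk', hu⟩
    · have e6 := congrArg (ψ ⬝ᵥ ·) e
      simp only [← hw, dotProduct_add, dotProduct_smul, k1, hk', smul_eq_mul, mul_zero, add_zero, mul_one,
        dotProduct_zero] at e6
      have e7 := (mul_eq_zero.1 e6).resolve_right hj
      rw [e7, zero_smul, zero_add] at e
      exact ⟨e7, (smul_eq_zero.1 e).resolve_right hk⟩
    · have e6 := dot_self_cross w z
      rw [dotProduct_comm] at e6
      nth_rewrite 2 [← hw] at e6
      rw [dotProduct_smul] at e6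
      exact (smul_eq_zero.1 e6).resolve_left hj

end lin

section uni

variable {q : ℕ} (φ : K →+* K) (hφ : ∀ x, φ x = x ^ q) (hq : 2 ≤ q) {ρ : G →* Mt K} {π : G →* T}

theorem gr_uni (rng : ∀ M, (∃ g, ρ g = M) ↔ M.det = 1 ∧ (M.map φ)ᵀ * M = 1) : Gr ρ fun t => (φ t)⁻¹ := fun P => by
  let R : GL (Fin 3) K := GeneralLinearGroup.map φ P
  have r1 : P.1.map φ = R.1 := rfl
  have r2 : P⁻¹.1.map φ = R⁻¹.1 := rfl
  have r3 : R.1ᵀ * R⁻¹.1ᵀ = 1 := by rw [← transpose_mul, Units.inv_mul, transpose_one]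
  have r4 : R⁻¹.1ᵀ * R.1ᵀ = 1 := by rw [← transpose_mul, Units.mul_inv, transpose_one]
  refine ⟨(R.1ᵀ * P.1)ᵀ, ?_, fun t ht => ?_⟩
  · rw [det_transpose, det_mul, det_transpose]
    exact mul_ne_zero ((isUnit_iff_isUnit_det _).1 R.isUnit).ne_zero ((isUnit_iff_isUnit_det _).1 P.isUnit).ne_zero
  simp only [fr_eq]
  rw [rng, det_units_conj, det_dg, Matrix.map_mul, Matrix.map_mul, r1, r2, diagonal_map (map_zero φ), transpose_mul,
    transpose_mul, diagonal_transpose]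
  have e1 : R⁻¹.1ᵀ * ((diagonal fun i => φ (t i)) * R.1ᵀ) * (P.1 * diagonal t * P⁻¹.1) = 1 ↔
      (diagonal fun i => φ (t i)) * (R.1ᵀ * P.1) * diagonal t = R.1ᵀ * P.1 := by
    constructor
    · intro e
      have e2 := congrArg (fun M => R.1ᵀ * M * P.1) e
      simp only [mul_assoc, Units.inv_mul, mul_one, one_mul] at e2 ⊢
      rwa [← mul_assoc R.1ᵀ, r3, one_mul] at e2
    · intro e
      have e2 := congrArg (fun M => R⁻¹.1ᵀ * M * P⁻¹.1) e
      simp only [mul_assoc, Units.mul_inv, mul_one] at e2 ⊢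
      rw [e2, r4]
  rw [e1, and_iff_right ht, ← Matrix.ext_iff, forall_comm]
  refine forall₂_congr fun i j => ?_
  rw [mul_diagonal, diagonal_mul, transpose_apply]
  have e2 : φ (t j) ≠ 0 := (map_ne_zero φ).2 (ne0 ht j)
  exact ⟨fun e k => eq_inv_of_mul_eq_one_right (mul_left_cancel₀ k (by linear_combination e)), fun e => by
    by_cases k : (R.1ᵀ * P.1) j i = 0
    · rw [k, mul_zero, zero_mul]
    · rw [e k, mul_right_comm, mul_inv_cancel₀ e2, one_mul]⟩

include hφ hq in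
theorem exists_iso [IsAlgClosed K] {v ψ : Fin 3 → K} (h : ψ ⬝ᵥ v = 1)
    (e : ∀ i j, φ (φ (vecMulVec v ψ i j)) = vecMulVec v ψ i j) :
    ∃ z : Fin 3 → K, z ≠ 0 ∧ ψ ⬝ᵥ z = 0 ∧ (φ ∘ z) ⬝ᵥ z = 0 ∧ ∀ i, φ (φ (z i)) = z i := by
  obtain ⟨k, hk, hk'⟩ := exists_col h
  obtain ⟨j, hj⟩ := Function.ne_iff.1 (dot_ne h).1
  set a : Fin 3 → K := fun i => (1 - vecMulVec v ψ : Mt K) i k with ha
  have e1 : ∀ i, φ (φ (a i)) = a i := fun i => by
    simp only [ha, Matrix.sub_apply, map_sub, e, one_apply]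
    split_ifs <;> simp
  have e2 : ∀ i, φ (φ ((v j • ψ) i)) = (v j • ψ) i := e j
  have e3 : ∀ w, (v j • ψ) ⬝ᵥ w = 0 → ψ ⬝ᵥ w = 0 := fun w hw => by
    rw [smul_dotProduct] at hw
    exact (smul_eq_zero.1 hw).resolve_left hj
  have e4 : (v j • ψ) ⬝ᵥ a = 0 := by rw [smul_dotProduct, hk', smul_zero]
  have e5 : v j • ψ ≠ 0 := smul_ne_zero hj (dot_ne h).2
  generalize v j • ψ = r at e2 e3 e4 e5
  have e6 : ∀ x y : Fin 3 → K, (∀ i, φ (φ (x i)) = x i) → φ ((φ ∘ x) ⬝ᵥ y) = (φ ∘ y) ⬝ᵥ x := fun x y hx => by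
    simp [dotProduct, hx, mul_comm]
  by_cases h1 : (φ ∘ a) ⬝ᵥ a = 0
  · exact ⟨a, hk, hk', h1, e1⟩
  set b := r ⨯₃ (φ ∘ a) with hb
  have e7 : ∀ i, φ (φ (b i)) = b i := fun i => by
    fin_cases i <;> simp [hb, cross_apply, e1, e2]
  have e8 : (φ ∘ a) ⬝ᵥ b = 0 := dot_cross_self _ _
  have e9 : (φ ∘ b) ⬝ᵥ a = 0 := by rw [← e6 a b e1, e8, map_zero]
  have e10 : ψ ⬝ᵥ b = 0 := e3 _ (dot_self_cross _ _)
  by_cases h2 : (φ ∘ b) ⬝ᵥ b = 0
  · refine ⟨b, crossProduct_ne_zero_iff_linearIndependent.2 (LinearIndependent.pair_iff.2 fun s t e => ?_), e10, h2, e7⟩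
    have k1 := congrArg (· ⬝ᵥ a) e
    simp only [add_dotProduct, smul_dotProduct, e4, smul_eq_mul, mul_zero, zero_add, zero_dotProduct] at k1
    have k2 := (mul_eq_zero.1 k1).resolve_right h1
    rw [k2, zero_smul, add_zero] at e
    exact ⟨(smul_eq_zero.1 e).resolve_right e5, k2⟩
  obtain ⟨s, hs⟩ := IsAlgClosed.exists_pow_nat_eq (-((φ ∘ a) ⬝ᵥ a) / ((φ ∘ b) ⬝ᵥ b)) (n := q + 1) (by omega)
  rw [pow_succ, ← hφ] at hs
  have k0 : φ s * s ≠ 0 := hs ▸ div_ne_zero (neg_ne_zero.2 h1) h2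
  have k1 : φ (φ s) = s := by
    have k2 := congrArg φ hs
    rw [map_mul, map_div₀, map_neg, e6 a a e1, e6 b b e7, ← hs, mul_comm (φ s)] at k2
    exact mul_right_cancel₀ (left_ne_zero_of_mul k0) k2
  have k2 : φ ∘ (a + s • b) = φ ∘ a + φ s • (φ ∘ b) := by
    ext i
    simp
  refine ⟨a + s • b, fun e => h1 ?_, by rw [dotProduct_add, dotProduct_smul, hk', e10, smul_zero, add_zero], ?_,
    fun i => by simp [e1, e7, k1]⟩
  · have k3 := congrArg ((φ ∘ a) ⬝ᵥ ·) e
    simpa only [dotProduct_add, dotProduct_smul, e8, smul_zero, add_zero, dotProduct_zero] using k3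
  · simp only [k2, dotProduct_add, add_dotProduct, dotProduct_smul, smul_dotProduct, e8, e9, smul_eq_mul]
    rw [eq_div_iff h2] at hs
    linear_combination hs

include hφ hq in
theorem ax_uni [IsAlgClosed K] (inj : Function.Injective ρ) (rng : ∀ M, (∃ g, ρ g = M) ↔ M.det = 1 ∧ (M.map φ)ᵀ * M = 1)
    (surj : Function.Surjective π) (ker : ∀ g, π g = 1 ↔ ∃ a : K, ρ g = a • 1) : Ax q ((q + 1) ^ 2) (q + 1) ρ π := by
  have hd : ∀ g, (ρ g).det = 1 := fun g => ((rng _).1 ⟨g, rfl⟩).1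
  have hf : ∀ g, ((ρ g).map φ)ᵀ * ρ g = 1 := fun g => ((rng _).1 ⟨g, rfl⟩).2
  have h2 : ∀ t : K, t ≠ 0 → (t = (φ t)⁻¹ ↔ t ^ (q + 1) = 1) := fun t ht => by
    rw [pow_succ, ← hφ]
    exact ⟨fun e => by
      nth_rewrite 2 [e]
      exact mul_inv_cancel₀ ((map_ne_zero φ).2 ht), eq_inv_of_mul_eq_one_right⟩
  have h4 : 2 * q ≤ q ^ 2 := by nlinarith
  have h5 : (q + 1) ^ 2 = q ^ 2 + 2 * q + 1 := by ring
  have sm : ∀ (a : K) (M : Mt K), ((a • M).map φ)ᵀ = φ a • (M.map φ)ᵀ := fun a M => by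
    ext i j
    simp
  have ad : ∀ M N : Mt K, ((M + N).map φ)ᵀ = (M.map φ)ᵀ + (N.map φ)ᵀ := fun M N => by
    rw [Matrix.map_add _ (map_add φ), transpose_add]
  have on : ((1 : Mt K).map φ)ᵀ = 1 := by rw [Matrix.map_one _ (map_zero φ) (map_one φ), transpose_one]
  have mu : ∀ M N : Mt K, ((M * N).map φ)ᵀ = (N.map φ)ᵀ * (M.map φ)ᵀ := fun M N => by rw [Matrix.map_mul, transpose_mul]
  refine ⟨inj, hd, surj, ker, fun g a e => ?_, tor_of (gr_uni φ rng) inj hd (m := q + 1) (m₂ := q ^ 2 - 1)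
    (m₃ := q ^ 2 - q + 1) (by omega) (by omega) (by omega) (fun t ht e => (h2 t ht).1 e) (fun t ht e => ?_)
    (fun t e => ?_) le_rfl (by omega) (by omega), split_of (gr_uni φ rng) hd h2, fun u k3 k2 => ?_,
    fun x l μ v ψ k1 k2 k3 => ?_⟩
  · have k1 := hf g
    rw [e, sm, on, smul_mul_assoc, one_mul, smul_smul] at k1
    have k2 := congrFun (congrFun k1 0) 0
    simpa [hφ, pow_succ] using k2
  · rw [map_inv₀, inv_inv, hφ, hφ, ← pow_mul, ← pow_two] at e
    refine mul_right_cancel₀ ht ?_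
    rw [← pow_succ, Nat.sub_add_cancel (by omega), one_mul, ← e]
  · have k1 : φ t ≠ 0 := fun k => by simp [k] at e
    rw [map_inv₀, inv_inv, mul_right_comm, mul_inv_eq_one₀ k1, hφ, hφ, ← pow_mul, ← pow_two] at e
    rw [hφ] at k1
    refine mul_right_cancel₀ k1 ?_
    rw [← pow_add, one_mul, show q ^ 2 - q + 1 + q = q ^ 2 + 1 by omega, pow_succ', e]
  · obtain ⟨f, k⟩ := card_sol hq (1 : K) fun b => b * b - b
    refine (uni_of surj ker k3 k2 _ fun g a b c ha e => ?_).trans k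
    have e0 := hf u
    obtain ⟨N, hN⟩ : ∃ N, ρ u = 1 + N := ⟨ρ u - 1, (add_sub_cancel _ _).symm⟩
    rw [hN, add_sub_cancel_left] at k3 k2 e
    have n3 : N * N * N = 0 := by rw [← k3, pow_three']
    have n3' : N * (N * N) = 0 := by rw [← mul_assoc, n3]
    have n4 : N * N * (N * N) = 0 := by rw [← mul_assoc, n3, zero_mul]
    have e1 : (N.map φ)ᵀ = N * N - N := by
      have e2 : (1 + N) * (1 - N + N * N) = 1 := by
        simp only [mul_add, add_mul, mul_sub, one_mul, mul_one, n3']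
        abel
      rw [hN, ad, on] at e0
      have e3 := left_inv_eq_right_inv e0 e2
      rw [eq_sub_of_add_eq' e3]
      abel
    have e2 := hf g
    rw [e, ad, ad, sm, sm, sm, pow_two, mu, e1, on] at e2
    obtain ⟨e3, e4, e5⟩ := nil_ind k3 k2 (a := φ a * a - 1) (b := φ a * b - φ b * a)
      (c := φ a * c - φ b * b + (φ b + φ c) * a) (by
      rw [← sub_eq_zero.2 e2]
      simp only [pow_two, mul_add, add_mul, mul_sub, sub_mul, smul_mul_assoc, mul_smul_comm, one_mul, mul_one, n3, n3', n4,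
        smul_zero, zero_mul, sub_zero, zero_sub, neg_mul]
      module)
    have e6 : φ a = a⁻¹ := eq_inv_of_mul_eq_one_left (sub_eq_zero.1 e3)
    have e7 : φ b = b / a / a := by
      rw [e6] at e4
      field_simp
      field_simp at e4
      linear_combination -e4
    simp only [← hφ, map_div₀, e6, e7] at e5 ⊢
    constructor
    · field_simp
      ring
    · field_simp
      field_simp at e5
      linear_combination e5
  · have e0 : φ (μ - l) ≠ 0 := (map_ne_zero φ).2 (sub_ne_zero.2 k2.symm)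
    have d1 := hd x
    rw [k3, det_hom, k1, mul_one, add_sub_cancel] at d1
    have hl : l ≠ 0 := fun e => by simp [e] at d1
    have hμ : μ ≠ 0 := right_ne_zero_of_mul_eq_one d1
    have e1 : ((vecMulVec v ψ).map φ)ᵀ = vecMulVec v ψ := by
      refine idem_eq k1 (α := (l⁻¹ - φ l) / φ (μ - l)) (β := (μ⁻¹ - l⁻¹) / φ (μ - l)) ?_ (by rw [← mu, vv_mul k1])
        ?_ (by rw [det_transpose, ← RingHom.mapMatrix_apply, ← RingHom.map_det, det_vecMulVec, map_zero])
      · have e2 := hf x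
        have e3 : ρ x * (l⁻¹ • 1 + (μ⁻¹ - l⁻¹) • vecMulVec v ψ) = 1 := by
          simp only [k3, mul_add, add_mul, smul_mul_assoc, mul_smul_comm, one_mul, mul_one, vv_mul k1]
          match_scalars <;> field_simp <;> ring
        have e4 := left_inv_eq_right_inv e2 e3
        rw [k3, ad, sm, sm, on] at e4
        refine smul_right_injective _ e0 ?_
        simp only [smul_add, smul_smul, mul_div_cancel₀ _ e0]
        rw [eq_sub_of_add_eq' e4]
        module
      · rw [trace_transpose, ← AddMonoidHom.map_trace, trace_vecMulVec, dotProduct_comm, k1, map_one]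
    have e2 : ∀ i j, φ (vecMulVec v ψ j i) = vecMulVec v ψ i j := fun i j => congrFun (congrFun e1 i) j
    obtain ⟨z, hz, z1, z2, z3⟩ := exists_iso φ hφ hq k1 fun i j => by rw [e2, e2]
    obtain ⟨a, ha⟩ := IsAlgClosed.exists_pow_nat_eq (-1 : K) (n := q - 1) (by omega)
    have a0 : a ≠ 0 := fun e => by
      rw [e, zero_pow (by omega)] at ha
      exact one_ne_zero (neg_eq_zero.1 ha.symm)
    have a1 : φ a = -a := by rw [hφ, ← Nat.sub_add_cancel (show 1 ≤ q by omega), pow_succ, ha, neg_one_mul]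
    have z4 : (a • (φ ∘ z)) ⬝ᵥ z = 0 := by rw [smul_dotProduct, z2, smul_zero]
    obtain ⟨u, hu⟩ := (rng (1 + vecMulVec z (a • (φ ∘ z)))).2 ⟨det_tv z4, by
      have e3 : ((vecMulVec z (a • (φ ∘ z))).map φ)ᵀ = -vecMulVec z (a • (φ ∘ z)) := by
        ext i j
        simp only [transpose_apply, map_apply, vecMulVec_apply, Matrix.neg_apply, Pi.smul_apply, Function.comp, smul_eq_mul,
          map_mul, a1, z3]
        ring
      rw [ad, on, e3, add_mul, mul_add, mul_add, neg_mul, neg_mul, vecMulVec_mul_vecMulVec, z4]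
      simp⟩
    refine ⟨u, z, a • (φ ∘ z), hz, smul_ne_zero a0 fun e => hz (funext fun i => (map_eq_zero φ).1 (congrFun e i)), z4, ?_,
      z1, hu⟩
    obtain ⟨j, hj⟩ := Function.ne_iff.1 (dot_ne k1).2
    have e3 : (φ ∘ z) ⬝ᵥ v * ψ j = φ (ψ ⬝ᵥ z * v j) := by
      have e4 : ∀ i, v i * ψ j = φ (v j) * φ (ψ i) := fun i => by rw [← map_mul, ← vecMulVec_apply, ← e2, vecMulVec_apply]
      simp only [dotProduct, Fin.sum_univ_three, Function.comp, map_mul, map_add, add_mul, mul_assoc, e4]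
      ring
    rw [z1, zero_mul, map_zero] at e3
    rw [smul_dotProduct, (mul_eq_zero.1 e3).resolve_right hj, smul_zero]

end uni

end Cfsg.Agent.N2.L3
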