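import Cfsg.Agent.N2.L3U3.Ab1

/-!
# N2 (S3519), `PSL₃(q)` and `PSU₃(q)`: the criteria `Cy` and `Four` (helper11)
-/

set_option autoImplicit false
set_option maxHeartbeats 400000
set_option linter.unusedSectionVars false

namespace Cfsg.Agent.N2.L3

open Matrix Subgroup Cfsg.Agent.FP3

variable {K G T : Type} [Field K] [Group G] [Group T]

theorem blk_mul {ρ : G →* Mt K} {l : Fin 3} {g : G} (h : Blk ρ l g) (g' : G) : ρ (g * g') l l = ρ g l l * ρ g' l l := by
  rw [map_mul, mul_apply]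
  exact Finset.sum_eq_single l (fun i _ hi => by rw [(h i hi).2, zero_mul]) fun k => absurd (Finset.mem_univ l) k

theorem pow_fix {x : G} {i j : ℕ} (ho : orderOf x = 3 ^ j) (e : x ^ (1 + i + i ^ 2) = 1) : x ^ i = x := by
  have e1 := orderOf_dvd_of_pow_eq_one e
  rw [ho] at e1
  obtain ⟨u, hu⟩ : ∃ u, i = 3 * u ∨ i = 3 * u + 1 ∨ i = 3 * u + 2 := ⟨i / 3, by omega⟩
  have k : ∀ {n a : ℕ}, n % 3 = 1 → 3 ^ j ∣ a * n → 3 ^ j ∣ a := fun {n a} hn =>
    ((Nat.prime_three.coprime_iff_not_dvd.2 (by omega)).pow_left j).dvd_of_dvd_mul_right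
  rcases hu with rfl | rfl | rfl
  · have e2 := k (n := 3 * (u + 3 * u ^ 2) + 1) (a := 1) (by omega) (by convert e1 using 1; ring)
    rw [← ho, Nat.dvd_one, orderOf_eq_one_iff] at e2
    rw [e2, one_pow]
  · have e2 := k (n := 3 * (u + u ^ 2) + 1) (a := 3) (by omega) (by convert e1 using 1; ring)
    rw [← ho, orderOf_dvd_iff_pow_eq_one] at e2
    rw [pow_succ, pow_mul, e2, one_pow, one_mul]
  · have e2 := k (n := 3 * (2 + 5 * u + 3 * u ^ 2) + 1) (a := 1) (by omega) (by convert e1 using 1; ring)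
    rw [← ho, Nat.dvd_one, orderOf_eq_one_iff] at e2
    rw [e2, one_pow]

namespace Ax

variable {q c m : ℕ} {ρ : G →* Mt K} {π : G →* T} (h : Ax q c m ρ π)
include h

theorem rg_of_conj {x g : G} (hx : x ∈ dg ρ) (hy : g * x * g⁻¹ ∈ dg ρ)
    (e : ∀ i j, ρ x i i = ρ x j j → ρ (g * x * g⁻¹) i i = ρ (g * x * g⁻¹) j j) (hk : g * x * g⁻¹ ≠ x) : Rg ρ x := by
  refine ⟨hx, fun i j hij => ?_⟩
  by_contra hne
  obtain ⟨l, l1, l2, l3⟩ := third hne
  obtain ⟨w, hw⟩ := h.conj_perm hx hy rfl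
  by_cases e1 : ρ x l l = ρ x i i
  · refine hk ?_
    rw [← h.ker_comm (h.ker_of hx fun a b => ?_) g, mul_inv_cancel_right]
    rcases l3 a with rfl | rfl | rfl <;> rcases l3 b with rfl | rfl | rfl <;> simp only [hij, e1]
  · have e2 : ∀ a, a ≠ l → ρ x a a = ρ x i i := fun a ha => by
      rcases l3 a with rfl | rfl | rfl
      exacts [rfl, hij.symm, absurd rfl ha]
    have e3 : w l = l := by
      by_contra e4
      obtain ⟨a, a1, a2⟩ : ∃ a, a ≠ l ∧ w a ≠ l := by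
        by_cases e5 : w i = l
        · exact ⟨j, l2, fun e6 => hne (w.injective (e5.trans e6.symm))⟩
        · exact ⟨i, l1, e5⟩
      exact e1 (by rw [← hw l, e _ _ ((e2 _ e4).trans (e2 _ a2).symm), hw, e2 _ a1])
    refine hk (h.dg_ext hy hx fun a => ?_)
    obtain ⟨a, rfl⟩ := w.surjective a
    rw [hw]
    by_cases e4 : a = l
    · rw [e4, e3]
    · rw [e2 _ e4, e2 _ fun e5 => e4 (w.injective (e5.trans e3.symm))]

theorem inv_idx (h2 : (2 : K) ≠ 0) {t : G} (ht : t ∈ dg ρ) (e : t ^ 2 = 1) :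
    t = 1 ∨ ∃ l, ρ t l l = 1 ∧ ∀ i, i ≠ l → ρ t i i = -1 := by
  have e1 : ∀ i, ρ t i i = 1 ∨ ρ t i i = -1 := fun i => mul_self_eq_one_iff.1 (by
    rw [← pow_two, ← dg_pow ht, e, map_one, one_apply_eq])
  have e2 := h.prod ht
  rcases e1 0 with a | a <;> rcases e1 1 with b | b <;> rcases e1 2 with d | d <;> rw [a, b, d] at e2
  · exact Or.inl (h.dg_ext ht (one_mem _) fun i => by fin_cases i <;> simpa)
  · exact absurd (by linear_combination -e2) h2
  · exact absurd (by linear_combination -e2) h2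
  · exact Or.inr ⟨0, a, fun i hi => by fin_cases i <;> first | exact absurd rfl hi | assumption⟩
  · exact absurd (by linear_combination -e2) h2
  · exact Or.inr ⟨1, b, fun i hi => by fin_cases i <;> first | exact absurd rfl hi | assumption⟩
  · exact Or.inr ⟨2, d, fun i hi => by fin_cases i <;> first | exact absurd rfl hi | assumption⟩
  · exact absurd (by linear_combination -e2) h2

variable [Finite G] [IsAlgClosed K]

/-- **cyclic Sylow `3`-subgroups** -/
theorem syl3 {A L : Subgroup T} {y : T} (hy : y ∈ A) {k b : ℕ} (ho : orderOf y = k) (hA : Nat.card A = k * b) (hsk : 3 ∣ k)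
    (hsb : ¬ 3 ∣ b) (hp : (3 : K) ≠ 0) (hL : L ≤ A) (hc : commutator L = ⊤) (hLi : ¬ 3 ∣ L.relIndex A)
    (hX : 3 * (c ^ 3 * Nat.card A) ≤ k ^ 3 * Nat.card G) : Good A := by
  have := h.fin
  have hs := Nat.prime_three
  have k0 : k ≠ 0 := ho ▸ (orderOf_pos y).ne'
  obtain ⟨j, k', hk', e⟩ := Nat.exists_eq_pow_mul_and_not_dvd k0 3 hs.ne_one
  have k1 : k' ≠ 0 := fun e1 => hk' (e1 ▸ dvd_zero 3)
  have o1 : orderOf (y ^ k') = 3 ^ j := by
    rw [orderOf_pow_of_dvd k1 (ho ▸ e ▸ Dvd.intro_left _ rfl), ho, e, Nat.mul_div_cancel _ (Nat.pos_of_ne_zero k1)]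
  have hc1 : y ^ k' ∈ zpowers y := pow_mem (mem_zpowers y) _
  obtain ⟨x, e0⟩ := h.surj (y ^ k')
  rw [← e0] at o1 hc1
  have ha : π x ∈ A := zpowers_le.2 hy hc1
  obtain ⟨θ, g, hx⟩ := h.frame (fun _ : Unit => x) (fun _ _ => rfl) (n := 3 ^ j * 3) (by simp [hp])
    fun _ => by rw [pow_mul, h.ker_cube (by rw [map_pow, ← o1, pow_orderOf_eq_one])]
  replace hx := hx ()
  have hR : zpowers (π x) ≤ A := zpowers_le.2 ha
  have c1 : Nat.card (zpowers (π x)) = 3 ^ j := by rw [Nat.card_zpowers, o1]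
  have hP : IsPGroup 3 (zpowers (π x)) := IsPGroup.of_card c1
  have hi : ¬ 3 ∣ (zpowers (π x)).relIndex A := by
    have e2 := rel_card (zpowers (π x)) A
    rw [inf_eq_left.2 hR, c1, hA, e, mul_assoc, mul_comm] at e2
    rw [Nat.eq_of_mul_eq_mul_left (pow_pos hs.pos j) e2, hs.dvd_mul]
    exact fun k => k.elim hk' hsb
  have h1 : zpowers (π x) ≠ ⊥ := fun e2 => by
    rw [e2, card_bot] at c1
    rw [← c1, one_mul] at e
    exact hk' (e ▸ hsk)
  have hb := burn hs hR hP hi h1 hL hc hLi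
  rw [cent_zp] at hb
  have key : ∀ t, π t ∈ normalizer (zpowers (π x) : Set T) → ∃ (z : G) (i : ℕ), π z = 1 ∧ t * x * t⁻¹ = z * x ^ i := fun t ht => by
    obtain ⟨i, hi⟩ := norm_pow ht
    exact ⟨t * x * t⁻¹ * (x ^ i)⁻¹, i, by simp [hi], by simp⟩
  have kd : ∀ t, π t ∈ normalizer (zpowers (π x) : Set T) → t * x * t⁻¹ ∈ dg θ := fun t ht => by
    obtain ⟨z, i, e1, e2⟩ := key t ht
    exact e2 ▸ mul_mem (g.ker_dg e1) (pow_mem hx i)
  obtain ⟨n, hn1, hn2⟩ := SetLike.not_le_iff_exists.1 hb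
  obtain ⟨n, rfl⟩ := h.surj n
  have hn3 : n * x ≠ x * n := fun e2 => hn2 (mem_centralizer_singleton_iff.2 (by rw [← map_mul, e2, map_mul]))
  have rg : Rg θ x := g.rg_of_conj hx (kd n hn1.1) (fun a b e1 => by
    obtain ⟨z, i, e2, e3⟩ := key n hn1.1
    rw [e3, map_mul, dmul (g.ker_dg e2), dmul (g.ker_dg e2), dg_pow hx, dg_pow hx, e1, g.ker_ent e2 a b])
    fun e1 => hn3 (mul_inv_eq_iff_eq_mul.1 e1)
  obtain ⟨W, hW, hk⟩ := g.exists_W (B := (normalizer (zpowers (π x) : Set T)).comap π) fun t ht => by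
    obtain ⟨w, hw⟩ := exists_perm (A := θ t) (by rw [g.det]; exact one_ne_zero)
    exact ⟨w, fun i j e1 => (g.rg_conj rg (kd t ht) (isConj_iff.2 ⟨t, rfl⟩)).2 _ _
      ((dg_conj hx (kd t ht) rfl e1).trans (dg_conj hx (kd t ht) rfl (hw j)).symm)⟩
  obtain ⟨i1, i2⟩ := rel_W hk
  have b0 : (dg θ).relIndex ((normalizer (zpowers (π x) : Set T)).comap π) ≤ 2 * Nat.card π.ker := by
    by_cases k : ∀ z, π z = 1 → z = 1
    · have e1 : IsPGroup 2 W.range := by
        rintro ⟨_, t, rfl⟩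
        refine ⟨1, Subtype.ext ?_⟩
        rcases perm_cases (W t) with e1 | ⟨e1, -⟩ | ⟨-, e1, -, e2⟩
        · simp [e1]
        · exact e1
        obtain ⟨z, i, e3, e4⟩ := key t t.2
        rw [k z e3, one_mul] at e4
        have e5 : ∀ a, θ x (W t a) (W t a) ^ i = θ x a a := fun a => by
          rw [← dg_pow hx, dg_conj hx (pow_mem hx i) e4 (g.mon_ne (hW t) a)]
        have e6 : x ^ (1 + i + i ^ 2) = 1 := g.dg_ext (pow_mem hx _) (one_mem _) fun a => by
          obtain ⟨a, rfl⟩ := (W t).surjective a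
          obtain ⟨a, rfl⟩ := (W t).surjective a
          rw [dg_pow hx, pow_add, pow_add, pow_two, pow_mul, e5, e5, pow_one, map_one, one_apply_eq,
            prod3 (fun a => θ x a a) (e1 _) (e2 _).symm (e1 _), g.prod hx]
        rw [pow_fix ((orderOf_injective π ((injective_iff_map_eq_one π).2 k) x).symm.trans o1) e6] at e4
        have e7 : t.1 ∈ dg θ := g.cent_rg rg ▸ mem_centralizer_singleton_iff.2 (mul_inv_eq_iff_eq_mul.1 e4)
        simp [show W t = 1 from (hk.ge e7 :)]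
      obtain ⟨n, hn⟩ := IsPGroup.iff_card.1 e1
      have e2 : 0 < Nat.card π.ker := Nat.card_pos
      have := Nat.le_of_dvd two_pos (((Nat.Coprime.pow_right n (by norm_num : Nat.Coprime 3 2)).symm.coprime_dvd_left
        (dvd_of_eq (i1.trans hn))).dvd_of_dvd_mul_left i2)
      omega
    · push Not at k
      obtain ⟨z, e1, e2⟩ := k
      have e3 := Nat.le_of_dvd Nat.card_pos (orderOf_dvd_natCard π.ker (show z ∈ π.ker from e1))
      rw [orderOf_eq_prime (h.ker_cube e1) e2] at e3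
      have := Nat.le_of_dvd (by norm_num) i2
      omega
  have b3 := fs_sylow hs hR hP hi
  have b4 := fx_le_fs A (le_refl (zpowers (π x)))
  have b5 : (zpowers y).comap π ≤ dg θ ⊓ (normalizer (zpowers (π x) : Set T) ⊓ A).comap π := fun t ht => by
    have e1 := h.comm_zp (u := (h.surj y).choose) (a := t) (b := x) (by rwa [(h.surj y).choose_spec])
      (by rwa [(h.surj y).choose_spec])
    refine ⟨g.cent_rg rg ▸ mem_centralizer_singleton_iff.2 e1, centralizer_le_normalizer _ ?_, zpowers_le.2 hy ht⟩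
    rw [cent_zp, mem_centralizer_singleton_iff, ← map_mul, e1, map_mul]
  replace b5 := card_le_of_le b5
  rw [h.card_comap, Nat.card_zpowers, ho] at b5
  have b9 : (dg θ).relIndex ((normalizer (zpowers (π x) : Set T) ⊓ A).comap π) ≠ 1 := fun e1 =>
    hn3 (mem_centralizer_singleton_iff.1 (g.cent_rg rg ▸ relIndex_eq_one.1 e1 hn1))
  generalize normalizer (zpowers (π x) : Set T) = N at *
  have b6 := rel_card (dg θ) (N.comap π)
  have b7 := rel_card (dg θ) ((N ⊓ A).comap π)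
  have b8 : (dg θ).relIndex ((N ⊓ A).comap π) ≠ 0 := index_ne_zero_of_finite
  have b10 : Nat.card ↥(dg θ ⊓ N.comap π) ≤ c := (card_le_of_le inf_le_left).trans g.tor'
  rw [h.card_comap] at b6 b7
  have d0 : 0 < Nat.card π.ker := Nat.card_pos
  have b11 : fs A (zpowers (π x)) * k ≤ c := by
    refine Nat.le_of_mul_le_mul_left ?_ (Nat.mul_pos two_pos d0)
    calc 2 * Nat.card π.ker * (fs A (zpowers (π x)) * k) = fs A (zpowers (π x)) * (2 * (Nat.card π.ker * k)) := by ring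
      _ ≤ fs A (zpowers (π x)) * (Nat.card π.ker * Nat.card ↥(N ⊓ A)) :=
        Nat.mul_le_mul_left _ (b7 ▸ Nat.mul_le_mul (by omega) b5)
      _ = _ := by rw [mul_left_comm, b3, ← b6]
      _ ≤ _ := Nat.mul_le_mul b0 b10
  refine good_of_le ha b4 (Nat.le_of_mul_le_mul_left ?_ (Nat.mul_pos three_pos (pow_pos (Nat.pos_of_ne_zero k0) 3)))
  rw [h.card_top'] at hX
  calc 3 * k ^ 3 * (fs A (zpowers (π x)) ^ 3 * Nat.card A) = 3 * ((fs A (zpowers (π x)) * k) ^ 3 * Nat.card A) := by ring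
    _ ≤ 3 * (c ^ 3 * Nat.card A) := Nat.mul_le_mul_left _ (Nat.mul_le_mul_right _ (Nat.pow_le_pow_left b11 3))
    _ ≤ k ^ 3 * (3 * Nat.card T) := hX.trans (Nat.mul_le_mul_left _ (Nat.mul_le_mul_right _ h.card_ker_le))
    _ = _ := by ring

theorem four_ne (h2 : (2 : K) ≠ 0) {a s x y : T} (ha : orderOf a = 4) (hs : orderOf s = 2) (h1 : s ≠ a ^ 2)
    (h3 : s * a ^ 2 = a ^ 2 * s) (x1 : IsConj a x) (x2 : x ^ 2 = a ^ 2) (y1 : IsConj a y) (y2 : y ^ 2 = a ^ 2) :
    x ≠ s * y := by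
  intro e
  obtain ⟨a, rfl, a4⟩ := h.lift (ha ▸ pow_orderOf_eq_one a) (by norm_num)
  obtain ⟨s, rfl, s2⟩ := h.lift (hs ▸ pow_orderOf_eq_one s) (by norm_num)
  have t2 : (a ^ 2) ^ 2 = 1 := by rw [← pow_mul, a4]
  have cm : ∀ u, π u * π a ^ 2 * (π u)⁻¹ = π a ^ 2 → u * a ^ 2 * u⁻¹ = a ^ 2 := fun u hu =>
    h.uniq (n := 2) (by simp [hu]) (by rw [conj_pow, t2, mul_one, mul_inv_cancel]) t2 (by norm_num)
  have c1 := mul_inv_eq_iff_eq_mul.1 (cm s (mul_inv_eq_iff_eq_mul.2 h3))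
  obtain ⟨θ, g, hd⟩ := h.frame (fun b : Bool => if b then s else a ^ 2) (fun b d => by cases b <;> cases d <;> simp [c1])
    (n := 2) (by exact_mod_cast h2) fun b => by cases b <;> simp [s2, t2]
  have d1 : s ∈ dg θ := hd true
  have d2 : a ^ 2 ∈ dg θ := hd false
  obtain ⟨l, l1, l2⟩ := (g.inv_idx h2 d2 t2).resolve_left fun k => by
    have := orderOf_dvd_of_pow_eq_one ((map_pow π a 2).symm.trans (k ▸ map_one π))
    rw [ha] at this
    omega
  have bl : ∀ u, u * a ^ 2 * u⁻¹ = a ^ 2 → Blk θ l u := fun u hu i hi =>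
    ⟨by_contra fun k => h2 (by have := dg_conj d2 d2 hu k; rw [l1, l2 i hi] at this; linear_combination -this),
      by_contra fun k => h2 (by have := dg_conj d2 d2 hu k; rw [l1, l2 i hi] at this; linear_combination this)⟩
  have ba := bl a (by group)
  have lf : ∀ {x}, IsConj (π a) x → x ^ 2 = π a ^ 2 → ∃ u, π u = x ∧ θ u l l = θ a l l := fun {x} k1 k2 => by
    obtain ⟨u, rfl⟩ := isConj_iff.1 k1
    obtain ⟨u, rfl⟩ := h.surj u
    have e1 := bl u (cm u (by rwa [conj_pow] at k2))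
    have e2 := blk_mul e1 u⁻¹
    rw [mul_inv_cancel, map_one, one_apply_eq] at e2
    refine ⟨u * (a * u⁻¹), by simp [mul_assoc], ?_⟩
    rw [blk_mul e1, blk_mul ba, mul_left_comm, ← e2, mul_one]
  obtain ⟨x, rfl, x3⟩ := lf x1 x2
  obtain ⟨y, rfl, y3⟩ := lf y1 y2
  have z1 : π (x * (s * y)⁻¹) = 1 := by rw [map_mul, map_inv, map_mul, e, mul_inv_cancel]
  have z2 : θ (x * (s * y)⁻¹) l l ^ 3 = 1 := by rw [← dg_pow (g.ker_dg z1), g.ker_cube z1, map_one, one_apply_eq]
  have a0 : θ a l l ≠ 0 := fun k => by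
    have := blk_mul ba a
    rw [← pow_two, l1, k, zero_mul] at this
    exact one_ne_zero this
  rw [← inv_mul_cancel_right x (s * y), map_mul, dmul (g.ker_dg z1), map_mul θ s, dmul d1, y3, ← mul_assoc,
    mul_eq_right₀ a0] at x3
  rcases g.inv_idx h2 d1 s2 with k | ⟨l', k1, k2⟩
  · rw [k, map_one, orderOf_one] at hs
    omega
  by_cases k : l = l'
  · subst k
    refine h1 ?_
    rw [← map_pow, g.dg_ext d1 d2 fun i => ?_]
    by_cases hi : i = l
    · rw [hi, k1, l1]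
    · rw [k2 i hi, l2 i hi]
  · rw [k2 l k] at x3
    rw [show θ (x * (s * y)⁻¹) l l = -1 by linear_combination -x3] at z2
    exact h2 (by linear_combination -z2)

theorem four (h2 : (2 : K) ≠ 0) {A : Subgroup T} (hA : Four A) : ∃ a ∈ A, 2 * (Nat.card π.ker * fx A a) < c := by
  have := h.fin
  obtain ⟨-, a, s, n, ha, hn, hs, h1, h3, h4⟩ := hA
  refine ⟨a, a.2, ?_⟩
  have a4 : orderOf a.1 = 4 := by rw [orderOf_coe, ha]
  have s2 : orderOf s.1 = 2 := by rw [orderOf_coe, hs]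
  have b1 : Nat.card π.ker * cn a.1 ≤ c := by
    obtain ⟨x, e0, e1⟩ := h.lift (a4 ▸ pow_orderOf_eq_one a.1) (by norm_num)
    obtain ⟨θ, g, hx⟩ := h.frame (fun _ : Unit => x) (fun _ _ => rfl) (n := 4)
      (by rw [show 4 = 2 * 2 from rfl, Nat.cast_mul]; exact_mod_cast mul_ne_zero h2 h2) fun _ => e1
    obtain ⟨u, hu⟩ := h.surj n
    have e2 : π x ^ 3 = (π x)⁻¹ := eq_inv_of_mul_eq_one_left (by rw [← pow_succ, ← map_pow, e1, map_one])
    refine e0 ▸ g.cn_rg (g.rg_of_pow (hx ()) (g := u) (k := 3) (g.uniq (n := 4) ?_ ?_ ?_ (by norm_num)) fun e => ?_) e1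
      (by norm_num)
    · rw [map_mul, map_mul, map_inv, map_pow, e2, hu, e0]
      exact congrArg Subtype.val hn
    · rw [conj_pow, e1, mul_one, mul_inv_cancel]
    · rw [← pow_mul, mul_comm, pow_mul, e1, one_pow]
    · rw [pow_succ, mul_eq_right] at e
      have := orderOf_dvd_of_pow_eq_one ((map_pow π x 2).symm.trans (e ▸ map_one π))
      rw [e0, a4] at this
      omega
  have o4 : ∀ {x : T}, IsConj a.1 x → orderOf x = 4 := fun {x} e => by
    obtain ⟨u, rfl⟩ := isConj_iff.1 e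
    exact ((MulAut.conj u).orderOf_eq a.1).trans a4
  choose u hu using fun g : {g : T // IsConj a.1 g ∧ g ∈ A} =>
    isConj_iff.1 (h4 ⟨g, g.2.2⟩ ((orderOf_coe _).symm.trans (o4 g.2.1)))
  have b2 := card_le_two (β := A ⧸ centralizer {a ^ 2}) (γ := {x : A // IsConj a.1 x ∧ x ^ 2 = a ^ 2}) (fun g => u g)
    (fun g₀ g e => ⟨(u g₀)⁻¹ * ⟨g, g.2.2⟩ * u g₀, g.2.1.trans (isConj_iff.2 ⟨(u g₀)⁻¹, by simp⟩), by
      have e1 := mem_centralizer_singleton_iff.1 (QuotientGroup.eq.1 e.symm)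
      calc _ = (u g₀)⁻¹ * (⟨g, g.2.2⟩ : A) ^ 2 * u g₀ := by simp only [pow_two, mul_assoc, mul_inv_cancel_left]
        _ = (u g₀)⁻¹ * u g * a ^ 2 * ((u g₀)⁻¹ * u g)⁻¹ := by rw [← hu]; group
        _ = _ := by rw [e1, mul_inv_cancel_right]⟩)
    fun g₀ a b _ _ e => Subtype.ext (mul_left_cancel (a := (u g₀).1⁻¹) (mul_right_cancel (b := (u g₀).1) (congrArg (·.1.1) e)))
  have cm : ∀ x : {x : A // IsConj a.1 x ∧ x ^ 2 = a ^ 2}, x.1 ∈ centralizer {a ^ 2} := fun x =>
    mem_centralizer_singleton_iff.2 (by have := (Commute.self_pow x.1 2).eq; rwa [x.2.2] at this)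
  have cs : s ∈ centralizer {a ^ 2} := mem_centralizer_singleton_iff.2 h3
  let f : Option ({x : A // IsConj a.1 x ∧ x ^ 2 = a ^ 2} × Bool) → centralizer {a ^ 2} := fun x => match x with
    | none => 1
    | some (x, true) => ⟨x, cm x⟩
    | some (x, false) => ⟨s * x, mul_mem cs (cm x)⟩
  have n1 : ∀ (x : {x : A // IsConj a.1 x ∧ x ^ 2 = a ^ 2}) i, f none ≠ f (some (x, i)) := fun x i e => by
    have e1 := o4 x.2.1
    cases i
    · rw [eq_inv_of_mul_eq_one_right (congrArg (·.1.1) e.symm), orderOf_inv, s2] at e1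
      omega
    · rw [show x.1.1 = 1 from congrArg (·.1.1) e.symm, orderOf_one] at e1
      omega
  have n2 : ∀ x y : {x : A // IsConj a.1 x ∧ x ^ 2 = a ^ 2}, x.1.1 ≠ s * y.1.1 := fun x y =>
    h.four_ne h2 a4 s2 (fun e => h1 (Subtype.ext e)) (congrArg Subtype.val h3) x.2.1 (congrArg Subtype.val x.2.2) y.2.1
      (congrArg Subtype.val y.2.2)
  have hf : Function.Injective f := by
    rintro (_ | ⟨x, i⟩) (_ | ⟨y, j⟩) e
    · rfl
    · exact absurd e (n1 _ _)
    · exact absurd e.symm (n1 _ _)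
    · cases i <;> cases j
      · rw [show x = y from Subtype.ext (mul_left_cancel (Subtype.mk.inj e))]
      · exact absurd (congrArg (·.1.1) e.symm) (n2 _ _)
      · exact absurd (congrArg (·.1.1) e) (n2 _ _)
      · rw [show x = y from Subtype.ext (Subtype.mk.inj e)]
  have b3 := Nat.card_le_card_of_injective f hf
  rw [Finite.card_option, Nat.card_prod, show Nat.card Bool = 2 by simp] at b3
  have b4 := (centralizer {a ^ 2}).index_mul_card
  have b5 := fx_mul A a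
  have b6 : 0 < (centralizer {a ^ 2}).index := Nat.pos_of_ne_zero index_ne_zero_of_finite
  have b7 : 2 * cc A a < Nat.card A := by
    have := Nat.mul_le_mul_left (centralizer {a ^ 2}).index b3
    rw [b4, mul_add, ← mul_assoc] at this
    have b8 : cc A a ≤ (centralizer {a ^ 2}).index * _ := b2
    omega
  have b8 : 0 < Nat.card π.ker * cn a.1 := Nat.mul_pos Nat.card_pos Nat.card_pos
  refine Nat.lt_of_mul_lt_mul_right (a := Nat.card A) ?_
  calc 2 * (Nat.card π.ker * fx A a) * Nat.card A = Nat.card π.ker * cn a.1 * (2 * cc A a) := by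
        rw [mul_assoc, mul_assoc, b5]; ring
    _ < Nat.card π.ker * cn a.1 * Nat.card A := Nat.mul_lt_mul_of_pos_left b7 b8
    _ ≤ _ := Nat.mul_le_mul_right _ b1

theorem good_cy {A : Subgroup T} {p : ℕ} [CharP K p] (hp : p.Prime) (hA : Cy A p c (Nat.card G)) : Good A := by
  obtain ⟨k, s, ⟨y, b, L, h1, h2, h3, h4, h5, h6, h7⟩, h8, h9⟩ := hA
  have e1 : (s : K) ≠ 0 := fun e => h8 ((Nat.prime_dvd_prime_iff_eq hp h3).1 ((CharP.cast_eq_zero_iff K p s).1 e)).symm
  have e2 := perf_congr (L.equivMapOfInjective A.subtype A.subtype_injective) h6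
  have e3 : (L.map A.subtype).relIndex A = L.index := by
    rw [relIndex, subgroupOf, comap_map_eq_self_of_injective A.subtype_injective]
  by_cases k : s = 3
  · subst k
    exact h.syl3 y.2 ((orderOf_coe y).trans h1) h2 h4 h5 (by exact_mod_cast e1) (map_subtype_le L) e2 (e3 ▸ h7)
      (h9.resolve_left fun e => e.1 rfl)
  · exact h.syl y.2 ((orderOf_coe y).trans h1) h2 h3 h4 h5 k e1 (map_subtype_le L) e2 (e3 ▸ h7)
      (h9.elim (·.2) (le_trans (Nat.le_mul_of_pos_left _ three_pos)))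

theorem good_four (h2 : (2 : K) ≠ 0) (hN : Nm q c m (Nat.card G)) {A : Subgroup T} (hA : Four A)
    (hq : 25 ≤ q ∨ c = 36 ∧ Nat.card T = 126000 ∧ Nat.card G = 378000) : Good A := by
  have := h.fin
  obtain ⟨a, ha, e⟩ := h.four h2 hA
  have e1 := h.card_top'
  refine good_of_le ha le_rfl ((Nat.mul_le_mul_left _ hA.1).trans ?_)
  rcases hq with k | ⟨rfl, k1, k2⟩
  · have e2 := (Nat.mul_le_mul_right _ (Nat.mul_le_mul k (show 19 ≤ q - 6 by omega))).trans hN.rq
    have e3 := Nat.pow_le_pow_left e.le 3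
    have d0 : 0 < Nat.card π.ker := Nat.card_pos
    refine Nat.le_of_mul_le_mul_left ?_ d0
    have e4 := Nat.mul_le_mul_right (fx A a ^ 3) (Nat.le_self_pow three_ne_zero (Nat.card π.ker))
    rw [mul_pow, mul_pow] at e3
    rw [← mul_assoc]
    omega
  · rw [k1, k2] at e1
    rw [show Nat.card π.ker = 3 by omega] at e
    have e2 : fx A a ≤ 5 := by omega
    have e3 := Nat.pow_le_pow_left e2 3
    omega

end Ax

end Cfsg.Agent.N2.L3
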