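import Cfsg.Agent.N2.L3U3.Box
import Cfsg.Agent.N2.L3U3.Frob
import Cfsg.Agent.N2.L3U3.Ab1
import Cfsg.Agent.N2.L3U3.Nea
import Cfsg.Agent.N2.Par.Main
import Cfsg.Agent.N2.L2.Main
import Cfsg.Agent.N2.Cl.Defs
import Cfsg.Agent.H160.PSLTwo
import Cfsg.Agent.H803.OC.RowPSL
import Cfsg.Agent.H929.UThreeGeo
import Cfsg.Agent.LieRecognition.PSUThreeSylow
import Cfsg.Agent.S0255

/-!
# N2 (S3519): the box `AS` for `PSL₃(q)` and `PSU₃(q)` (helper11)
-/

set_option autoImplicit false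
set_option maxHeartbeats 400000
set_option linter.unusedSectionVars false

namespace Cfsg.Agent.N2.L3

open Matrix Subgroup Cfsg.Agent.FP3
open Cfsg.Agent.H890.B3 (NEA)

theorem Ax.asRow {K G T : Type} [Field K] [IsAlgClosed K] [Group G] [Finite G] [Group T] [IsSimpleGroup T] {q c m p : ℕ}
    [hp : Fact p.Prime] [CharP K p] {ρ : G →* Mt K} {π : G →* T} (h : Ax q c m ρ π) (hN : Nm q c m (Nat.card G)) (hq : 3 ≤ q)
    {a : ℕ} (ha : q = p ^ a) (hn : ¬ IsMulCommutative T) (hT : IsLieTypeChar p T)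
    (box : ∀ A : Subgroup T, A ≠ ⊥ → A ≠ ⊤ → NEA A → Cy A p c (Nat.card G) ∨
      (p = 5 ∧ Four A ∧ (25 ≤ q ∨ c = 36 ∧ Nat.card T = 126000 ∧ Nat.card G = 378000))) : ASRow T := fun A Γ hA => by
  have := Finite.of_surjective π h.surj
  have k : ∀ r : ℕ, r.Prime → r ≠ p → (r : K) ≠ 0 := fun r hr e e' =>
    e ((Nat.prime_dvd_prime_iff_eq hp.out hr).1 ((CharP.cast_eq_zero_iff K p r).1 e')).symm
  by_cases h1 : NEA A
  · rcases box A hA.ne_bot hA.ne_top h1 with b | ⟨b, b1, b2⟩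
    · exact h.good_cy hp.out b
    · exact h.good_four (by exact_mod_cast k 2 Nat.prime_two (by omega)) hN b1 b2
  obtain ⟨r, Z, hr, _, h2, h3, h4⟩ := exists_char h1
  have h5 : Z.map A.subtype ≠ ⊥ := fun e => h2 ((map_eq_bot_iff_of_injective Z A.subtype_injective).1 e)
  have h6 : ∀ x ∈ Z.map A.subtype, x ^ r = 1 := by
    rintro _ ⟨x, hx, rfl⟩
    rw [← map_pow, h4 x hx, map_one]
  by_cases h7 : r = p
  · subst h7
    exact Par.good_of_inv hn hT hA (mi_char hA Z) (fun x => ⟨1, Subtype.ext (by rw [pow_one]; exact h6 x.1 x.2)⟩) h5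
  have h8 : p ∣ q := ha ▸ dvd_pow_self p fun e => by
    rw [e, pow_zero] at ha
    omega
  refine h.ab hA hN hq ((CharP.cast_eq_zero_iff K p q).2 h8) (fun e => ?_) (mi_char hA Z) (map_subtype_le Z) h5 hr (k r hr h7) h6 ?_
  · have h9 : Odd q := ha ▸ (hp.out.odd_of_ne_two fun e' => e (by subst e'; exact CharP.cast_eq_zero K 2)).pow
    obtain ⟨n, hn⟩ := h9
    rcases hN with ⟨-, b, -⟩ | ⟨-, b, -⟩ <;> omega
  · rintro _ ⟨x, hx, rfl⟩ _ ⟨y, hy, rfl⟩
    rw [← map_mul, h3 x hx y hy, map_mul]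

section ext

variable (F K : Type) [Field F] [Fintype F] [Field K] [Algebra F K]

/-- extension of scalars -/
def ext3 : SpecialLinearGroup (Fin 3) F →* Mt K :=
  (RingHom.mapMatrix (algebraMap F K)).toMonoidHom.comp SpecialLinearGroup.coeMonoidHom

theorem ext3_apply (g : SpecialLinearGroup (Fin 3) F) : ext3 F K g = g.1.map (algebraMap F K) := rfl

theorem ext3_inj : Function.Injective (ext3 F K) := fun _ _ e => Subtype.ext (map_injective (algebraMap F K).injective e)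

theorem ext3_rng (M : Mt K) : (∃ g, ext3 F K g = M) ↔ M.det = 1 ∧ ∀ i j, M i j ^ Fintype.card F = M i j := by
  have k : ∀ N : Matrix (Fin 3) (Fin 3) F, (N.map (algebraMap F K)).det = algebraMap F K N.det := fun N =>
    ((algebraMap F K).map_det N).symm
  constructor
  · rintro ⟨g, rfl⟩
    exact ⟨by rw [ext3_apply, k, g.2, map_one], fun i j => by rw [ext3_apply, map_apply, ← map_pow, FiniteField.pow_card]⟩
  · rintro ⟨h1, h2⟩
    choose N hN using fun i j => H160.PSLTwo.mem_range_of_pow_card (h2 i j)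
    have e : (of N).map (algebraMap F K) = M := Matrix.ext hN
    exact ⟨⟨of N, (algebraMap F K).injective (by rw [← k, e, h1, map_one])⟩, e⟩

theorem ext3_ker (g : SpecialLinearGroup (Fin 3) F) : g ∈ center (SpecialLinearGroup (Fin 3) F) ↔ ∃ a : K, ext3 F K g = a • 1 := by
  constructor
  · intro h
    obtain ⟨r, -, hr⟩ := Matrix.SpecialLinearGroup.mem_center_iff.1 h
    refine ⟨algebraMap F K r, ?_⟩
    rw [ext3_apply, ← hr, scalar_apply, diagonal_map (map_zero _), smul_one_eq_diagonal]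
  · rintro ⟨a, ha⟩
    refine Subgroup.mem_center_iff.2 fun x => ext3_inj F K ?_
    rw [map_mul, map_mul, ha, Matrix.mul_smul, Matrix.smul_mul, mul_one, one_mul]

theorem ext3_uni {q : ℕ} (hF : Fintype.card F = q ^ 2) {σ : F →+* F} (hσ : ∀ x, σ x = x ^ q) {φ : K →+* K} (hφ : ∀ x, φ x = x ^ q)
    (M : Mt K) : (∃ g, (ext3 F K).comp (SU 3 F q).subtype g = M) ↔ M.det = 1 ∧ (M.map φ)ᵀ * M = 1 := by
  have k : ∀ g : SpecialLinearGroup (Fin 3) F, g ∈ SU 3 F q ↔ ((ext3 F K g).map φ)ᵀ * ext3 F K g = 1 := fun g => by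
    have e : (g.1ᵀ * g.1.map σ).map (algebraMap F K) = (((ext3 F K g).map φ)ᵀ * ext3 F K g)ᵀ := by
      rw [Matrix.map_mul, transpose_mul, transpose_transpose, ext3_apply, transpose_map]
      congr 1
      ext i j
      simp only [map_apply, hσ, hφ, map_pow]
    rw [LieRecognition.PSUThreeSylow.mem_SU_iff hσ, ← transpose_eq_one (M := _ * ext3 F K g), ← e,
      ← Matrix.map_one (algebraMap F K) (map_zero _) (map_one _), (map_injective (algebraMap F K).injective).eq_iff]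
  constructor
  · rintro ⟨g, rfl⟩
    exact ⟨((ext3_rng F K _).1 ⟨g.1, rfl⟩).1, (k g.1).1 g.2⟩
  · rintro ⟨h1, h2⟩
    have h3 : (M.map φ)ᵀ * (M.map φ).map φ = 1 := by
      rw [← transpose_map, ← Matrix.map_mul, ← transpose_transpose (Mᵀ * M.map φ), transpose_mul, transpose_transpose, h2,
        transpose_one, Matrix.map_one _ (map_zero φ) (map_one φ)]
    have h4 : (M.map φ).map φ = M := by rw [← inv_eq_right_inv h3, inv_eq_right_inv h2]
    obtain ⟨g, rfl⟩ := (ext3_rng F K M).2 ⟨h1, fun i j => by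
      rw [hF, sq, pow_mul, ← hφ, ← hφ]
      exact congrFun (congrFun h4 i) j⟩
    exact ⟨⟨g, (k g).2 h2⟩, rfl⟩

end ext

theorem as_l3 (F : Type) [Field F] [Fintype F] (hn : ¬ IsMulCommutative (ProjectiveSpecialLinearGroup (Fin 3) F)) :
    ASRow (ProjectiveSpecialLinearGroup (Fin 3) F) := by
  have h1 := Fintype.one_lt_card (α := F)
  by_cases h2 : Fintype.card F = 2
  · have : Fact (Nat.Prime 7) := ⟨by norm_num⟩
    obtain ⟨e⟩ := S0255.result (F := ZMod 7) (ZMod.card 7) h2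
    exact asRow_congr e (as_psl2 (ZMod 7) (by rw [ZMod.card]; norm_num))
  obtain ⟨p, _⟩ := CharP.exists F
  obtain ⟨a, hp, ha⟩ := FiniteField.card F p
  have : Fact p.Prime := ⟨hp⟩
  have := S0249.result (F := F) 3 le_rfl
  have hφ : ∀ x, iterateFrobenius (AlgebraicClosure F) p a x = x ^ Fintype.card F := fun x => by rw [ha, iterateFrobenius_def]
  have hc := H803.OC.RowPSL.card_SL3 (F := F)
  refine (ax_lin _ hφ h1 (ext3_inj F _) (fun M => (ext3_rng F _ M).trans (and_congr_right fun _ => ?_))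
    (QuotientGroup.mk'_surjective _) fun g => (QuotientGroup.eq_one_iff g).trans (ext3_ker F _ g)).asRow
      (Or.inl ⟨rfl, rfl, hc⟩) (by omega) ha hn (Or.inl ⟨F, _, inferInstance, inferInstance, 3, by norm_num, by norm_num, ⟨MulEquiv.refl _⟩⟩)
      fun A a1 a2 a3 => ?_
  · simp only [← Matrix.ext_iff, map_apply, hφ]
  · rw [hc]
    exact (boxL F p _ rfl (by omega) A a1 a2 a3).imp_right fun k => ⟨k.1, k.2.2, Or.inl k.2.1⟩

theorem as_u3 (F : Type) [Field F] [Fintype F] {q : ℕ} (hF : Fintype.card F = q ^ 2) (h2 : q ≠ 2)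
    (hn : ¬ IsMulCommutative (PSU 3 F q)) : ASRow (PSU 3 F q) := by
  obtain ⟨p, _⟩ := CharP.exists F
  obtain ⟨n, hp, hn'⟩ := FiniteField.card F p
  have : Fact p.Prime := ⟨hp⟩
  obtain ⟨a, -, ha⟩ := (Nat.dvd_prime_pow hp).1 ((dvd_pow_self q two_ne_zero).trans (hF.symm.trans hn').dvd)
  have hq : 3 ≤ q := by
    have h1 := Fintype.one_lt_card (α := F)
    rw [hF, Nat.one_lt_pow_iff two_ne_zero] at h1
    omega
  have := S0283.result hF 3 le_rfl fun k => h2 k.2
  have hφ : ∀ x, iterateFrobenius (AlgebraicClosure F) p a x = x ^ q := fun x => by rw [ha, iterateFrobenius_def]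
  have hσ : ∀ x, iterateFrobenius F p a x = x ^ q := fun x => by rw [ha, iterateFrobenius_def]
  have hc : Nat.card (SU 3 F q) = q ^ 3 * (q ^ 2 - 1) * (q ^ 3 + 1) := by rw [H929.U3.card_SU3 hF, mul_assoc, mul_comm (q ^ 3 + 1)]
  refine (ax_uni (ρ := (ext3 F _).comp (SU 3 F q).subtype) _ hφ (by omega)
    ((ext3_inj F _).comp (SU 3 F q).subtype_injective) (ext3_uni F _ hF hσ hφ)
    (QuotientGroup.mk'_surjective _) fun g => (QuotientGroup.eq_one_iff g).trans ((mem_centerU hF g).trans (ext3_ker F _ g.1))).asRow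
      (Or.inr ⟨rfl, rfl, hc⟩) hq ha hn
      (Or.inr (Or.inr (Or.inl ⟨F, _, inferInstance, inferInstance, 3, q, hF, le_rfl, fun k => h2 k.2, ⟨MulEquiv.refl _⟩⟩))) fun A a1 a2 a3 => ?_
  rw [hc]
  refine (boxU F p q hF hq A a1 a2 a3).imp_right fun k => ⟨k.1, k.2, ?_⟩
  obtain ⟨rfl, -⟩ := k
  rcases Nat.lt_or_ge a 2 with b | b
  · obtain rfl : q = 5 := by interval_cases a <;> omega
    have h3 : 3 * Nat.card (PSU 3 F 5) = 378000 := H680.Six.psu3_card hF
    exact Or.inr ⟨rfl, Nat.eq_of_mul_eq_mul_left three_pos h3, rfl⟩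
  · exact Or.inl (ha ▸ le_trans (by norm_num) (Nat.pow_le_pow_right (by norm_num) b))

/-- **the row `L₃(q)`** -/
theorem row_l3 : Row (N2C.fLn 3) := fun _ _ _ _ hn ⟨F, _, _, _, ⟨e⟩⟩ =>
  asRow_congr e.symm (as_l3 F fun k => hn ⟨⟨fun a b => e.injective (by rw [map_mul, map_mul, k.1.1])⟩⟩)

/-- **the row `U₃(q)`** -/
theorem row_u3 : Row (N2C.fUn 3) := fun _ _ _ _ hn ⟨F, _, _, _, hF, h, ⟨e⟩⟩ =>
  asRow_congr e.symm (as_u3 F hF (fun k => h ⟨rfl, k⟩) fun k => hn ⟨⟨fun a b => e.injective (by rw [map_mul, map_mul, k.1.1])⟩⟩)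

end Cfsg.Agent.N2.L3
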