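import Cfsg.Agent.N2.Tool
import Cfsg.Agent.H890.B3Sol

/-!
# N2 (S3519), `PSL₃(q)` and `PSU₃(q)`: the boxes for subgroups without normal elementary abelian subgroups (helper11)
-/

set_option autoImplicit false
set_option maxHeartbeats 400000
set_option linter.unusedSectionVars false

namespace Cfsg.Agent.N2.L3

open Cfsg.Agent.H890.B3 (NEA)

/-- the numbers: `c` bounds the tori, `m²` is the split torus, `D` the order of `SL₃(q)` or `SU₃(q)` -/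
def Nm (q c m D : ℕ) : Prop :=
  (c = q ^ 2 + q + 1 ∧ m = q - 1 ∧ D = q ^ 3 * (q ^ 2 - 1) * (q ^ 3 - 1)) ∨
    (c = (q + 1) ^ 2 ∧ m = q + 1 ∧ D = q ^ 3 * (q ^ 2 - 1) * (q ^ 3 + 1))

/-- an element of order `k` whose powers give a Sylow `s`-subgroup, and a perfect subgroup of index prime to `s` -/
def Dat (H : Type) [Group H] (k s : ℕ) : Prop :=
  ∃ (g : H) (b : ℕ) (L : Subgroup H), orderOf g = k ∧ Nat.card H = k * b ∧ s.Prime ∧ s ∣ k ∧ ¬ s ∣ b ∧ commutator L = ⊤ ∧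
    ¬ s ∣ L.index

/-- the criterion with cyclic Sylow subgroups -/
def Cy (H : Type) [Group H] (p c D : ℕ) : Prop :=
  ∃ k s, Dat H k s ∧ s ≠ p ∧ (s ≠ 3 ∧ c ^ 3 * Nat.card H ≤ k ^ 3 * D ∨ 3 * (c ^ 3 * Nat.card H) ≤ k ^ 3 * D)

/-- `A₆` and its extensions of degree two -/
def Four (H : Type) [Group H] : Prop :=
  Nat.card H ≤ 720 ∧ ∃ a s n : H, orderOf a = 4 ∧ n * a * n⁻¹ = a⁻¹ ∧ orderOf s = 2 ∧ s ≠ a ^ 2 ∧ s * a ^ 2 = a ^ 2 * s ∧
    ∀ x : H, orderOf x = 4 → IsConj (a ^ 2) (x ^ 2)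

/-- the list in characteristic two -/
def Hart (H : Type) [Group H] (α : ℕ) : Prop :=
  (∃ (K : Type) (_ : Field K) (_ : Fintype K) (β : ℕ), Fintype.card K = 2 ^ β ∧ ∃ L : Subgroup H,
    (L.index = 1 ∧ β ∣ α ∨ L.index = 3 ∧ 3 ∣ 2 ^ β - 1 ∧ 3 * β ∣ α) ∧
      Nonempty (L ≃* Matrix.ProjectiveSpecialLinearGroup (Fin 3) K)) ∨
  (∃ (K : Type) (_ : Field K) (_ : Fintype K) (β : ℕ), Fintype.card K = 2 ^ (2 * β) ∧ 2 ≤ β ∧ ∃ L : Subgroup H,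
    (L.index = 1 ∧ 2 * β ∣ α ∨ L.index = 3 ∧ 3 ∣ 2 ^ β + 1 ∧ 6 * β ∣ α) ∧ Nonempty (L ≃* Cfsg.PSU 3 K (2 ^ β))) ∨
  (∃ (K : Type) (_ : Field K) (_ : Fintype K) (β : ℕ), Fintype.card K = 2 ^ β ∧ 2 ≤ β ∧
    Nonempty (H ≃* Matrix.ProjectiveSpecialLinearGroup (Fin 2) K)) ∨
  Nonempty (H ≃* alternatingGroup (Fin 6))

/-- [L] the subgroups of `PSL₃(q)` -/
def BoxL : Prop := ∀ (F : Type) [Field F] [Fintype F] (p q : ℕ) [CharP F p], Fintype.card F = q → 3 ≤ q →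
  ∀ A : Subgroup (Matrix.ProjectiveSpecialLinearGroup (Fin 3) F), A ≠ ⊥ → A ≠ ⊤ → NEA A →
    Cy A p (q ^ 2 + q + 1) (q ^ 3 * (q ^ 2 - 1) * (q ^ 3 - 1)) ∨ (p = 5 ∧ 25 ≤ q ∧ Four A)

/-- [U] the subgroups of `PSU₃(q)` -/
def BoxU : Prop := ∀ (F : Type) [Field F] [Fintype F] (p q : ℕ) [CharP F p], Fintype.card F = q ^ 2 → 3 ≤ q →
  ∀ A : Subgroup (Cfsg.PSU 3 F q), A ≠ ⊥ → A ≠ ⊤ → NEA A →
    Cy A p ((q + 1) ^ 2) (q ^ 3 * (q ^ 2 - 1) * (q ^ 3 + 1)) ∨ (p = 5 ∧ Four A)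

theorem perf_congr {H H' : Type} [Group H] [Group H'] (e : H ≃* H') (h : commutator H = ⊤) : commutator H' = ⊤ := by
  have h1 := Subgroup.map_commutator ⊤ ⊤ e.toMonoidHom
  rw [← commutator_def, h, Subgroup.map_top_of_surjective _ e.surjective] at h1
  exact h1.symm

/-- overgroups of index prime to `s` -/
theorem Dat.over {H H' : Type} [Group H] [Group H'] {f : H' →* H} (hf : Function.Injective f) {k s : ℕ} (h : Dat H' k s)
    (hi : ¬ s ∣ f.range.index) : Dat H k s := by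
  obtain ⟨g, b, L, h1, h2, h3, h4, h5, h6, h7⟩ := h
  refine ⟨f g, b * f.range.index, L.map f, by rw [orderOf_injective f hf, h1], ?_, h3, h4,
    fun k => (h3.dvd_mul.1 k).elim h5 hi, perf_congr (L.equivMapOfInjective f hf) h6, ?_⟩
  · rw [← f.range.card_mul_index, ← Nat.card_congr (MonoidHom.ofInjective hf).toEquiv, h2, mul_assoc]
  · rw [Subgroup.index_map_of_injective L hf]
    exact fun k => (h3.dvd_mul.1 k).elim h7 hi

theorem Dat.congr {H H' : Type} [Group H] [Group H'] (e : H ≃* H') {k s : ℕ} (h : Dat H' k s) : Dat H k s := by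
  refine h.over (f := e.symm.toMonoidHom) e.symm.injective ?_
  obtain ⟨-, -, -, -, -, h3, -⟩ := h
  rw [MonoidHom.range_eq_top.2 e.symm.surjective, Subgroup.index_top, Nat.dvd_one]
  exact h3.ne_one

theorem Dat.sub {H H' : Type} [Group H] [Group H'] {L : Subgroup H} (e : L ≃* H') {k s : ℕ} (h : Dat H' k s)
    (hi : ¬ s ∣ L.index) : Dat H k s :=
  (h.congr e).over L.subtype_injective (by rwa [Subgroup.range_subtype])

namespace Nm

variable {q c m D : ℕ} (h : Nm q c m D)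
include h

theorem rq : q * (q - 6) * c ^ 3 ≤ D := by
  rcases Nat.lt_or_ge q 6 with k | k
  · simp [Nat.sub_eq_zero_of_le k.le]
  obtain ⟨n, rfl⟩ := Nat.exists_eq_add_of_le' k
  have e1 : (n + 6) ^ 2 - 1 = (n + 5) * (n + 7) := Nat.sub_eq_of_eq_add (by ring)
  have e2 : (n + 6) ^ 3 - 1 = (n + 5) * ((n + 6) ^ 2 + (n + 6) + 1) := Nat.sub_eq_of_eq_add (by ring)
  rw [Nat.add_sub_cancel]
  rcases h with ⟨rfl, -, rfl⟩ | ⟨rfl, -, rfl⟩
  · rw [e1, e2]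
    calc _ = (n + 6) * ((n + 6) ^ 2 + (n + 6) + 1) * (n * ((n + 6) ^ 2 + (n + 6) + 1) ^ 2) := by ring
      _ ≤ (n + 6) * ((n + 6) ^ 2 + (n + 6) + 1) * ((n + 6) ^ 2 * (n + 5) ^ 2 * (n + 7)) :=
        Nat.mul_le_mul_left _ (by ring_nf; omega)
      _ = _ := by ring
  · rw [e1]
    calc _ = (n + 6) * (n + 7) ^ 2 * (n * (n + 7) ^ 4) := by ring
      _ ≤ (n + 6) * (n + 7) ^ 2 * ((n + 6) ^ 2 * (n + 5) * (n ^ 2 + 11 * n + 31)) :=
        Nat.mul_le_mul_left _ (by ring_nf; omega)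
      _ = _ := by ring

theorem r7 (hq : 7 ≤ q) : 21 * c ^ 3 ≤ D := by
  rcases Nat.lt_or_ge q 9 with k | k
  · interval_cases q <;> rcases h with ⟨rfl, -, rfl⟩ | ⟨rfl, -, rfl⟩ <;> norm_num
  · exact (Nat.mul_le_mul_right _ (le_trans (by norm_num) (Nat.mul_le_mul k (show 3 ≤ q - 6 by omega)))).trans h.rq

theorem r5 (hq : 5 ≤ q) : 8 * c ^ 3 ≤ D := by
  rcases Nat.lt_or_ge q 7 with k | k
  · interval_cases q <;> rcases h with ⟨rfl, -, rfl⟩ | ⟨rfl, -, rfl⟩ <;> norm_num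
  · have := h.r7 k
    omega

theorem r4 (hq : 4 ≤ q) : 39 * c ^ 3 ≤ 10 * D := by
  rcases Nat.lt_or_ge q 5 with k | k
  · interval_cases q <;> rcases h with ⟨rfl, -, rfl⟩ | ⟨rfl, -, rfl⟩ <;> norm_num
  · have := h.r5 k
    omega

theorem r3 (hq : 3 ≤ q) : 7 * c ^ 3 ≤ 5 * D := by
  rcases Nat.lt_or_ge q 4 with k | k
  · interval_cases q <;> rcases h with ⟨rfl, -, rfl⟩ | ⟨rfl, -, rfl⟩ <;> norm_num
  · have := h.r4 k
    omega

/-- from `x / y ≤ D / c³` and `n / k³ ≤ x / y` to the inequality of `Cy` -/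
theorem cmp {x y n k : ℕ} (hx : 0 < x) (h1 : x * c ^ 3 ≤ y * D) (h2 : y * n ≤ x * k ^ 3) : c ^ 3 * n ≤ k ^ 3 * D := by
  rcases Nat.eq_zero_or_pos y with rfl | hy
  · have : c ^ 3 = 0 := by
      rw [zero_mul, Nat.le_zero, Nat.mul_eq_zero] at h1
      omega
    simp [this]
  refine Nat.le_of_mul_le_mul_left ?_ (Nat.mul_pos hx hy)
  calc x * y * (c ^ 3 * n) = x * c ^ 3 * (y * n) := by ring
    _ ≤ y * D * (x * k ^ 3) := Nat.mul_le_mul h1 h2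
    _ = _ := by ring

end Nm

end Cfsg.Agent.N2.L3
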