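import Cfsg.Agent.N2.L3U3.Mon
import Cfsg.Agent.N2.L3U3.Defs

/-!
# N2 (S3519), `PSL₃(q)` and `PSU₃(q)`: normalisers of diagonal groups (helper11)
-/

set_option autoImplicit false
set_option maxHeartbeats 400000
set_option linter.unusedSectionVars false

namespace Cfsg.Agent.N2.L3

open Matrix Subgroup Cfsg.Agent.FP3

theorem three {E M : Type} [Group E] [CommGroup M] (α β : E →* M) (hα : ∀ e, α e ^ 2 = 1 → α e = 1)
    (hβ : ∀ e, β e ^ 2 = 1 → β e = 1) {a b c : E} (ha : α a ≠ 1) (hb : β b ≠ 1) (hc : α c * β c ≠ 1) :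
    ∃ e, α e ≠ 1 ∧ β e ≠ 1 ∧ α e * β e ≠ 1 := by
  obtain ⟨e, h1, h2⟩ : ∃ e, α e ≠ 1 ∧ β e ≠ 1 := by
    by_cases k1 : β a = 1
    · by_cases k2 : α b = 1
      · exact ⟨a * b, by rwa [map_mul, k2, mul_one], by rwa [map_mul, k1, one_mul]⟩
      · exact ⟨b, k2, hb⟩
    · exact ⟨a, ha, k1⟩
  by_cases h3 : α e * β e = 1
  swap
  · exact ⟨e, h1, h2, h3⟩
  have k : ∀ d, α (e * d) * β (e * d) = α d * β d := fun d => by rw [map_mul, map_mul, mul_mul_mul_comm, h3, one_mul]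
  have k' : α c⁻¹ * β c⁻¹ ≠ 1 := by rwa [map_inv, map_inv, ← mul_inv, Ne, inv_eq_one]
  by_cases k1 : α c = 1
  · by_cases k2 : β (e * c) = 1
    · refine ⟨e * c⁻¹, by rwa [map_mul, map_inv, k1, inv_one, mul_one], fun k3 => h2 (hβ e ?_), by rwa [k]⟩
      rw [map_mul] at k2 k3
      rw [map_inv, mul_inv_eq_one] at k3
      rw [pow_two, ← k2, ← k3]
    · exact ⟨e * c, by rwa [map_mul, k1, mul_one], k2, by rwa [k]⟩
  by_cases k2 : β c = 1
  · by_cases k3 : α (e * c) = 1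
    · refine ⟨e * c⁻¹, fun k4 => h1 (hα e ?_), by rwa [map_mul, map_inv, k2, inv_one, mul_one], by rwa [k]⟩
      rw [map_mul] at k3 k4
      rw [map_inv, mul_inv_eq_one] at k4
      rw [pow_two, ← k3, ← k4]
    · exact ⟨e * c, k3, by rwa [map_mul, k2, mul_one], by rwa [k]⟩
  · exact ⟨c, k1, k2, hc⟩

theorem card_le_two {α β γ : Type} [Finite α] [Finite β] [Finite γ] (f : α → β) (g : ∀ a₀ a, f a = f a₀ → γ)
    (h : ∀ a₀ a b ha hb, g a₀ a ha = g a₀ b hb → a = b) : Nat.card α ≤ Nat.card β * Nat.card γ := by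
  refine card_le_fib f _ fun b => ?_
  rcases isEmpty_or_nonempty {a // f a = b} with e | ⟨⟨a₀, rfl⟩⟩
  · simp
  · exact Nat.card_le_card_of_injective (fun a => g a₀ a.1 a.2) fun a b e => Subtype.ext (h _ _ _ _ _ e)

variable {K G T : Type} [Field K] [Group G] [Group T]

/-- the diagonal entries -/
def ent (ρ : G →* Mt K) {E : Subgroup G} (hE : E ≤ dg ρ) (i : Fin 3) : E →* K where
  toFun g := ρ g i i
  map_one' := by simp
  map_mul' a b := by rw [coe_mul, map_mul, dmul (hE a.2)]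

theorem cube_one {a b c : K} (h1 : a ≠ b) (h2 : a ≠ c) (h3 : b ≠ c) (e1 : a ^ 3 = b ^ 3) (e2 : a ^ 3 = c ^ 3)
    (e : a * b * c = 1) : a ^ 3 = 1 := by
  have k1 : a ^ 2 + a * b + b ^ 2 = 0 :=
    (mul_eq_zero.1 (by linear_combination e1)).resolve_left (sub_ne_zero.2 h1)
  have k2 : a ^ 2 + a * c + c ^ 2 = 0 :=
    (mul_eq_zero.1 (by linear_combination e2)).resolve_left (sub_ne_zero.2 h2)
  have k3 : a + b + c = 0 := (mul_eq_zero.1 (by linear_combination k1 - k2)).resolve_left (sub_ne_zero.2 h3)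
  linear_combination e + a * k1 - a * b * k3

theorem odd_eq {a b : K} (hb : b ≠ 0) {r : ℕ} (hr : Odd r) (h2 : a ^ 2 = b ^ 2) (h : a ^ r = b ^ r) : a = b := by
  obtain ⟨k, rfl⟩ := hr
  rw [pow_succ, pow_succ, pow_mul, pow_mul, h2] at h
  exact mul_left_cancel₀ (pow_ne_zero _ (pow_ne_zero _ hb)) h

namespace Ax

variable {q c m : ℕ} {ρ : G →* Mt K} {π : G →* T} (h : Ax q c m ρ π)
include h

theorem ker_triv (h3 : ¬ 3 ∣ m) {z : G} (hz : π z = 1) : z = 1 := by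
  obtain ⟨a, e⟩ := (h.ker z).1 hz
  have e1 := pow_gcd_eq_one.2 ⟨h.sc_cube e, h.scal z a e⟩
  rw [(Nat.Prime.coprime_iff_not_dvd Nat.prime_three).2 h3, pow_one] at e1
  exact h.inj (by rw [e, e1, one_smul, map_one])

theorem ker_ent {z : G} (hz : π z = 1) (i j : Fin 3) : ρ z i i = ρ z j j := by
  obtain ⟨a, e⟩ := (h.ker z).1 hz
  simp [e]

theorem pow_ent {x : G} (hx : x ∈ dg ρ) {n : ℕ} (hz : π (x ^ n) = 1) (i j : Fin 3) : ρ x i i ^ n = ρ x j j ^ n := by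
  rw [← dg_pow hx, ← dg_pow hx, h.ker_ent hz]

theorem rg_cube {x : G} (hx : Rg ρ x) (hz : π (x ^ 3) = 1) (i : Fin 3) : ρ x i i ^ 3 = 1 := by
  obtain ⟨j, k, h1, h2, h3, -⟩ := others i
  exact cube_one (fun e => h2 (hx.2 _ _ e).symm) (fun e => h3 (hx.2 _ _ e).symm) (fun e => h1 (hx.2 _ _ e))
    (h.pow_ent hx.1 hz _ _) (h.pow_ent hx.1 hz _ _)
    ((prod3 (fun i => ρ x i i) h2.symm h3.symm h1).trans (h.prod hx.1))

theorem exists_rg {E : Subgroup G} (hE : E ≤ dg ρ) {r : ℕ} (hr : Odd r) (hp : ∀ a ∈ E, π (a ^ r) = 1)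
    (hs : ∀ i j, i ≠ j → ∃ e ∈ E, ρ e i i ≠ ρ e j j) : ∃ x ∈ E, Rg ρ x := by
  let u : Fin 3 → E →* Kˣ := fun i => (ent ρ hE i).toHomUnits
  have hu : ∀ i j e, (u i / u j) e = 1 ↔ ρ e i i = ρ e j j := fun i j e => by
    rw [MonoidHom.div_apply, div_eq_one, Units.ext_iff]
    rfl
  have h2 : ∀ i j e, (u i / u j) e ^ 2 = 1 → (u i / u j) e = 1 := fun i j e k => by
    rw [← map_pow, hu, coe_pow, dg_pow (hE e.2), dg_pow (hE e.2)] at k
    exact (hu _ _ _).2 (odd_eq (h.dg_ne (hE e.2) j) hr k (h.pow_ent (hE e.2) (hp _ e.2) _ _))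
  have h3 : ∀ e, (u 0 / u 1) e * (u 1 / u 2) e = (u 0 / u 2) e := fun e => by simp
  obtain ⟨a, ha, a1⟩ := hs 0 1 (by decide)
  obtain ⟨b, hb, b1⟩ := hs 1 2 (by decide)
  obtain ⟨d, hd, d1⟩ := hs 0 2 (by decide)
  obtain ⟨e, e1, e2, e3⟩ := three (u 0 / u 1) (u 1 / u 2) (h2 _ _) (h2 _ _) (a := ⟨a, ha⟩) (b := ⟨b, hb⟩) (c := ⟨d, hd⟩)
    (mt (hu _ _ _).1 a1) (mt (hu _ _ _).1 b1) (by rw [h3]; exact mt (hu _ _ _).1 d1)
  rw [h3] at e3
  rw [Ne, hu] at e1 e2 e3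
  refine ⟨e, e.2, hE e.2, fun i j k => ?_⟩
  fin_cases i <;> fin_cases j <;>
    first | rfl | exact absurd k e1 | exact absurd k e2 | exact absurd k e3 | exact absurd k.symm e1 |
      exact absurd k.symm e2 | exact absurd k.symm e3

variable [Finite G] {B : Subgroup G}

theorem card_dg {n : ℕ} (hn : 0 < n) (hm : ∀ g ∈ dg ρ, ∀ k, ρ g k k ^ n = 1) : Nat.card (dg ρ) ≤ n ^ 2 := by
  obtain ⟨f, k⟩ := card_root hn (1 : K)
  refine (Nat.card_le_card_of_injective (fun g => ((⟨ρ g.1 0 0, hm _ g.2 0⟩, ⟨ρ g.1 1 1, hm _ g.2 1⟩) :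
    {x : K // x ^ n = 1} × {x : K // x ^ n = 1})) fun g g' e => Subtype.ext (h.dg_ext g.2 g'.2 (congrFun (ext2 (h.prod g.2)
      (h.prod g'.2) zero_ne_one (congrArg (·.1.1) e) (congrArg (·.2.1) e))))).trans ?_
  rw [Nat.card_prod, pow_two]
  exact Nat.mul_le_mul k k

omit h in
theorem rel_W {W : B →* Equiv.Perm (Fin 3)} (hk : W.ker = (dg ρ).subgroupOf B) :
    (dg ρ).relIndex B = Nat.card W.range ∧ (dg ρ).relIndex B ∣ 6 := by
  have e : (dg ρ).relIndex B = Nat.card W.range := by rw [relIndex, ← hk, index_ker]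
  refine ⟨e, e ▸ (card_subgroup_dvd_card _).trans (dvd_of_eq ?_)⟩
  simp [Fintype.card_perm, Nat.factorial]

theorem tr_conj {x g : G} (e : IsConj x g) : (ρ g).trace = (ρ x).trace := by
  obtain ⟨t, rfl⟩ := isConj_iff.1 e
  rw [map_mul, map_mul, trace_mul_cycle, h.im, one_mul]

/-- **version B**: the tori of order sixteen -/
theorem good_B {W : B →* Equiv.Perm (Fin 3)} (hW : ∀ g : B, Mon ρ g (W g)) (hk : W.ker = (dg ρ).subgroupOf B)
    (hB : dg ρ ≤ B) {x : G} (hx : Rg ρ x) (ht : (ρ x).trace ≠ 0) (hm : ∀ g ∈ dg ρ, ∀ k, ρ g k k ^ 4 = 1)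
    (hc : 6048 ≤ Nat.card G) : Good B := by
  obtain ⟨i1, i2⟩ := rel_W hk
  have tr : ∀ (g : B) (l : Fin 3), (∀ i, W g i = i → i = l) → (ρ g).trace = ρ g l l := fun g l e =>
    Finset.sum_eq_single l (fun i _ hi => by_contra fun k => hi (e i (hW g i i k).symm)) fun k => absurd (Finset.mem_univ l) k
  have k1 : ∀ g : {g : {g : G // IsConj x g ∧ g ∈ B} // ¬ g.1 ∈ dg ρ}, W ⟨g.1.1, g.1.2.2⟩ ≠ 1 ∧ W ⟨g.1.1, g.1.2.2⟩ ^ 2 = 1 := by
    rintro ⟨⟨g, hg, hg'⟩, hd⟩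
    refine ⟨fun e => hd (mon_one.1 (e ▸ hW ⟨g, hg'⟩)), ?_⟩
    rcases perm_cases (W ⟨g, hg'⟩) with e | ⟨e, -⟩ | ⟨-, e, -⟩
    · rw [e, one_pow]
    · exact e
    · refine absurd ?_ ht
      rw [← h.tr_conj hg]
      exact Finset.sum_eq_zero fun i _ => by_contra fun k => e i (hW ⟨g, hg'⟩ i i k).symm
  obtain ⟨f4, c4⟩ := card_root (K := K) four_pos 1
  have e0 : ∀ g : {g : {g : G // IsConj x g ∧ g ∈ B} // ¬ g.1 ∈ dg ρ}, ∃ j l, W ⟨g.1.1, g.1.2.2⟩ j ≠ j ∧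
      W ⟨g.1.1, g.1.2.2⟩ l = l ∧ ∀ i, W ⟨g.1.1, g.1.2.2⟩ i = i → i = l := fun g => by
    rcases perm_cases (W ⟨g.1.1, g.1.2.2⟩) with e | ⟨-, e⟩ | ⟨e, -⟩
    · exact absurd e (k1 g).1
    · exact e
    · rw [pow_succ, (k1 g).2, one_mul] at e
      exact absurd e (k1 g).1
  choose j l e1 e2 e3 using e0
  have e5 : ∀ a b : {g : {g : G // IsConj x g ∧ g ∈ B} // ¬ g.1 ∈ dg ρ}, W ⟨b.1.1, b.1.2.2⟩ = W ⟨a.1.1, a.1.2.2⟩ →
      a.1.1⁻¹ * b.1.1 ∈ dg ρ ∧ ρ (a.1.1⁻¹ * b.1.1) (l a) (l a) = 1 := fun a b e => by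
    have e6 := hW ((⟨a.1.1, a.1.2.2⟩ : B)⁻¹ * ⟨b.1.1, b.1.2.2⟩)
    rw [map_mul, map_inv, e, inv_mul_cancel, mon_one] at e6
    replace e6 : a.1.1⁻¹ * b.1.1 ∈ dg ρ := e6
    have e7 := (tr ⟨b.1.1, b.1.2.2⟩ (l a) (e ▸ e3 a)).symm.trans (h.tr_conj b.1.2.1)
    have e8 := (tr ⟨a.1.1, a.1.2.2⟩ (l a) (e3 a)).symm.trans (h.tr_conj a.1.2.1)
    refine ⟨e6, (mul_eq_left₀ ht).1 ?_⟩
    have e9 := muld e6 (ρ a.1.1) (l a) (l a)
    rw [← map_mul, mul_inv_cancel_left, e7, e8] at e9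
    exact e9.symm
  have k2 := card_le_two (β := {w : W.range // w.1 ≠ 1 ∧ w.1 ^ 2 = 1}) (γ := {x : K // x ^ 4 = 1})
    (fun g => ⟨⟨_, ⟨g.1.1, g.1.2.2⟩, rfl⟩, k1 g⟩) (fun a b e => ⟨_, hm _ (e5 a b (congrArg (·.1.1) e)).1 (j a)⟩)
    fun a b d hb hd e => by
      obtain ⟨b1, b2⟩ := e5 a b (congrArg (·.1.1) hb)
      obtain ⟨d1, d2⟩ := e5 a d (congrArg (·.1.1) hd)
      exact Subtype.ext (Subtype.ext (mul_left_cancel (h.dg_ext b1 d1 (congrFun (ext2 (h.prod b1) (h.prod d1)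
        (fun e8 : j a = l a => e1 a (e8 ▸ e2 a)) (congrArg (·.1) e) (b2.trans d2.symm))))))
  replace k2 := k2.trans (Nat.mul_le_mul_left _ c4)
  have k3 : Nat.card {w : W.range // w.1 ≠ 1 ∧ w.1 ^ 2 = 1} ≤ 3 :=
    (Nat.card_le_card_of_injective (fun w => (⟨w.1.1, w.2⟩ : {w : Equiv.Perm (Fin 3) // w ≠ 1 ∧ w ^ 2 = 1}))
      fun a b e => Subtype.ext (Subtype.ext (congrArg (·.1) e))).trans (by rw [Nat.card_eq_fintype_card]; decide)
  have k4 : Nat.card {w : W.range // w.1 ≠ 1 ∧ w.1 ^ 2 = 1} < Nat.card W.range :=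
    Finite.card_subtype_lt (x := 1) fun e => e.1 rfl
  have k5 := h.cc_dg (B := B) hx.1
  have k6 := card_split fun g : {g : G // IsConj x g ∧ g ∈ B} => g.1 ∈ dg ρ
  have k7 := h.fx_rg hx hB
  have k8 := rel_card (dg ρ) B
  have k9 := h.card_dg four_pos hm
  rw [inf_eq_left.2 hB] at k8
  rw [cc, k6] at k7
  refine good_of_le (hB hx.1) le_rfl (le_trans ?_ hc)
  rw [← k8, ← mul_assoc]
  refine (Nat.mul_le_mul_left _ k9).trans ?_
  rw [← i1] at k4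
  have k10 := Nat.le_of_dvd (by norm_num) i2
  generalize fx B x = f, (dg ρ).relIndex B = i, Nat.card {w : W.range // w.1 ≠ 1 ∧ w.1 ^ 2 = 1} = n at *
  have k11 : f * i ≤ 6 + n * 4 := by omega
  have k12 : f ≤ 6 := by interval_cases i <;> omega
  interval_cases i <;> interval_cases f <;> omega

/-- the crude bound -/
theorem good_C {W : B →* Equiv.Perm (Fin 3)} (hk : W.ker = (dg ρ).subgroupOf B) (hB : dg ρ ≤ B) {x : G} (hx : Rg ρ x) {s : ℕ}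
    (hs : Nat.card (dg ρ) ≤ s) (hc : s ^ 3 * (6 * s) ≤ Nat.card G) : Good B := by
  have k8 := rel_card (dg ρ) B
  rw [inf_eq_left.2 hB] at k8
  refine good_of_cn (hB hx.1) (c := s) (by rwa [cn, h.cent_rg hx]) (le_trans (Nat.mul_le_mul_left _ ?_) hc)
  rw [← k8]
  exact Nat.mul_le_mul (Nat.le_of_dvd (by norm_num) (rel_W hk).2) hs

/-- `L₃(3)` -/
theorem good_D {W : B →* Equiv.Perm (Fin 3)} (hW : ∀ g : B, Mon ρ g (W g)) (hk : W.ker = (dg ρ).subgroupOf B)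
    (hB : dg ρ ≤ B) (hm : ∀ g ∈ dg ρ, ∀ k, ρ g k k ^ 2 = 1) (h3 : (3 : K) = 0) (hq : q = 3) (hz : ¬ 3 ∣ m)
    (hG : Nat.card G = 5616) (hs : normalizer (B : Set G) = B) : Good B := by
  obtain ⟨i1, i2⟩ := rel_W hk
  have k8 := rel_card (dg ρ) B
  have k9 := h.card_dg two_pos hm
  rw [inf_eq_left.2 hB] at k8
  have pw : ∀ (g : B) (n : ℕ), W g ^ n = 1 → g.1 ^ n ∈ dg ρ := fun g n e => by
    have := hW (g ^ n)
    rwa [map_pow, e, mon_one] at this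
  have sq : ∀ g ∈ dg ρ, g ^ 2 = 1 := fun g hg => h.dg_ext (pow_mem hg 2) (one_mem _) fun i => by
    rw [dg_pow hg, hm g hg, map_one, one_apply_eq]
  by_cases k : ∀ g, W g ^ 2 = 1
  · have hP : IsPGroup 2 B := fun g => ⟨2, Subtype.ext (by rw [coe_pow, pow_two, pow_mul, sq _ (pw g 2 (k g)), coe_one])⟩
    obtain ⟨n, hn⟩ := IsPGroup.iff_card.1 hP
    have e1 : (dg ρ).relIndex B ∣ 2 := by
      exact ((Nat.Coprime.pow_right n (by norm_num : Nat.Coprime 3 2)).symm.coprime_dvd_left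
        (hn ▸ Dvd.intro _ k8)).dvd_of_dvd_mul_left i2
    have e2 : 2 ^ n ≤ 2 ^ 3 := by
      rw [← hn, ← k8]
      exact (Nat.mul_le_mul (Nat.le_of_dvd two_pos e1) k9).trans (by norm_num)
    rw [Nat.pow_le_pow_iff_right one_lt_two] at e2
    have e3 := Sylow.prime_pow_dvd_card_normalizer (G := G) (p := 2) (n := n)
      ((pow_dvd_pow 2 (show n + 1 ≤ 4 by omega)).trans (by rw [hG]; norm_num)) hn
    rw [hs, hn, Nat.pow_dvd_pow_iff_le_right one_lt_two] at e3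
    omega
  push Not at k
  obtain ⟨g, hg⟩ := k
  obtain ⟨e, e0, e1, e2⟩ := ((perm_cases (W g)).resolve_left fun e => hg (by rw [e, one_pow])).resolve_left fun e => hg e.1
  have e3 : g.1 ^ 3 = 1 := h.ker_triv hz (h.ker_of (pw _ _ e) fun i j => by
    rcases e1 i j with rfl | rfl | rfl
    exacts [rfl, (h.mon_pow (hW g) (pw _ _ e) i).symm, h.mon_pow (hW g) (pw _ _ e) j])
  have e4 : (ρ g - 1) ^ 3 = 0 := by
    have e5 : (ρ g - 1) ^ 3 = ρ g ^ 3 - 1 + (3 : K) • (ρ g - ρ g ^ 2) := by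
      rw [show (3 : K) = 1 + 1 + 1 by norm_num, add_smul, add_smul, one_smul]
      noncomm_ring
    rw [e5, h3, zero_smul, add_zero, ← map_pow, e3, map_one, sub_self]
  have e5 : (ρ g - 1) ^ 2 ≠ 0 := fun e6 => by
    have e7 : (ρ g - 1) ^ 2 = ρ (g * g) - ρ g - ρ g + 1 := by
      rw [map_mul]
      noncomm_ring
    have e8 := congrFun (congrFun (e7.symm.trans e6) 0) 0
    have e9 : ρ g 0 0 = 0 := by_contra fun k => e0 0 (hW g 0 0 k).symm
    have e10 : ρ (g * g) 0 0 = 0 := by_contra fun k => e2 0 ((hW g).mul (hW g) 0 0 k)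
    rw [Matrix.add_apply, Matrix.sub_apply, Matrix.sub_apply, e9, e10] at e8
    simp at e8
  have b1 := h.uni g e4 e5
  have b2 : cn (π g) = cn g.1 :=
    cn_congr (MulEquiv.ofBijective π ⟨(injective_iff_map_eq_one π).2 fun _ => h.ker_triv hz, h.surj⟩) g
  have k1 : ∀ a : {a : G // IsConj g.1 a ∧ a ∈ B}, W ⟨a.1, a.2.2⟩ ≠ 1 ∧ W ⟨a.1, a.2.2⟩ ^ 3 = 1 := by
    rintro ⟨a, ha, ha'⟩
    have e6 : a ^ 3 = 1 := isConj_one_right.1 (e3 ▸ ha.pow 3)
    refine ⟨fun e7 => hg ?_, by rw [← map_pow, show (⟨a, ha'⟩ : B) ^ 3 = 1 from Subtype.ext e6, map_one]⟩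
    rw [pow_succ, sq a (mon_one.1 (e7 ▸ hW ⟨a, ha'⟩)), one_mul] at e6
    rw [show g = 1 from Subtype.ext (isConj_one_left.1 (e6 ▸ ha)), map_one, one_pow]
  have k2 := card_le_two (β := {w : Equiv.Perm (Fin 3) // w ≠ 1 ∧ w ^ 3 = 1}) (γ := dg ρ) (fun a => ⟨_, k1 a⟩)
    (fun a b e => ⟨a.1⁻¹ * b.1, by
      have := hW ((⟨a.1, a.2.2⟩ : B)⁻¹ * ⟨b.1, b.2.2⟩)
      rwa [map_mul, map_inv, Subtype.mk.inj e, inv_mul_cancel, mon_one] at this⟩)
    fun a b d _ _ e => Subtype.ext (mul_left_cancel (Subtype.mk.inj e))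
  have k3 : Nat.card {w : Equiv.Perm (Fin 3) // w ≠ 1 ∧ w ^ 3 = 1} = 2 := by
    rw [Nat.card_eq_fintype_card]
    decide
  have k4 : 3 ∣ (dg ρ).relIndex B := by
    have e6 := orderOf_dvd_natCard W.range ⟨g, rfl⟩
    rwa [orderOf_eq_prime e fun e6 => e0 0 (by rw [e6]; rfl), ← i1] at e6
  have k5 := fx_mul B g
  have k6 : cn g.1 * cc B g ≤ 9 * (2 * Nat.card (dg ρ)) := Nat.mul_le_mul (b2 ▸ b1.trans (by rw [hq]; rfl)) (k3 ▸ k2)
  rw [← k5, ← k8, ← mul_assoc, ← mul_assoc] at k6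
  have k7 := Nat.le_of_mul_le_mul_right k6 Nat.card_pos
  refine good_of_le g.2 le_rfl ?_
  rw [← k8, hG, ← mul_assoc]
  refine (Nat.mul_le_mul_left _ k9).trans ?_
  have k10 := Nat.le_of_dvd (by norm_num) i2
  have k11 : (dg ρ).relIndex B ≠ 0 := index_ne_zero_of_finite
  generalize fx B g = f, (dg ρ).relIndex B = i at *
  have k12 : f ≤ 6 := by interval_cases i <;> omega
  interval_cases i <;> interval_cases f <;> omega

/-- the split torus -/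
theorem good_split [IsAlgClosed K] (hN : Nm q c m (Nat.card G)) (hq : 3 ≤ q) (hqK : (q : K) = 0) (hm : (m : K) ≠ 0)
    {W : B →* Equiv.Perm (Fin 3)} (hW : ∀ g : B, Mon ρ g (W g)) (hk : W.ker = (dg ρ).subgroupOf B) (hB : dg ρ ≤ B)
    (hs : normalizer (B : Set G) = B) (hc : 216 * c ≤ Nat.card G)
    (sp : ∀ i j, i ≠ j → ∃ g ∈ dg ρ, ρ g i i ≠ ρ g j j ∧ ∀ k, ρ g k k ^ m = 1) : Good B := by
  have e1 : ∀ g ∈ dg ρ, ∀ k, ρ g k k ^ m = 1 := fun g hg => ((h.split' sp _).1 ⟨g, dg_eq hg⟩).1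
  have : NeZero (m : K) := ⟨hm⟩
  have : NeZero m := .of_neZero_natCast K
  obtain ⟨ζ, hζ⟩ := HasEnoughRootsOfUnity.exists_primitiveRoot K m
  have z0 : ζ ≠ 0 := hζ.ne_zero (NeZero.ne m)
  obtain ⟨x, hx⟩ := (h.split' sp ![1, ζ, ζ⁻¹]).2 ⟨fun k => by fin_cases k <;> simp [hζ.pow_eq_one], by simp [z0]⟩
  have x1 : x ∈ dg ρ := by
    rw [mem_dg, hx]
    exact isDiag_diagonal _
  have m2 : 2 ≤ m := by rcases hN with ⟨-, e, -⟩ | ⟨-, e, -⟩ <;> omega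
  have rg : ∀ n, 0 < n → 2 * n < m ∨ n < m ∧ ¬ m ∣ 2 * n → Rg ρ (x ^ n) := fun n n0 hn => by
    have a1 : ζ ^ n ≠ 1 := hζ.pow_ne_one_of_pos_of_lt n0.ne' (by omega)
    have a2 : ζ ^ n * ζ ^ n ≠ 1 := by
      rw [← pow_add, ← two_mul, Ne, hζ.pow_eq_one_iff_dvd]
      exact hn.elim (Nat.not_dvd_of_pos_of_lt (by omega)) fun e => e.2
    have a3 : ζ ^ n ≠ (ζ ^ n)⁻¹ := fun e => a2 (by nth_rewrite 2 [e]; exact mul_inv_cancel₀ (pow_ne_zero _ z0))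
    refine ⟨pow_mem x1 n, fun i j => ?_⟩
    rw [dg_pow x1, dg_pow x1, hx, diagonal_apply_eq, diagonal_apply_eq]
    fin_cases i <;> fin_cases j <;> simp [a1, a1.symm, a3, a3.symm]
  rcases Nat.lt_or_ge 4 m with k | k
  · refine h.good_A hW hB x1 (rg 2 two_pos (Or.inl k)) (Or.inl fun e => ?_) hc
    have := h.pow_ent x1 e 1 0
    rw [hx] at this
    exact hζ.pow_ne_one_of_pos_of_lt three_ne_zero (by omega) (by simpa using this)
  have rg1 : 2 < m → Rg ρ x := fun e => pow_one x ▸ rg 1 one_pos (Or.inl e)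
  interval_cases m
  · obtain ⟨rfl, e⟩ : q = 3 ∧ Nat.card G = 5616 := by
      rcases hN with ⟨-, e, e'⟩ | ⟨-, e, -⟩
      · obtain rfl : q = 3 := by omega
        exact ⟨rfl, e'⟩
      · omega
    exact h.good_D hW hk hB e1 (by exact_mod_cast hqK) rfl (by norm_num) e hs
  · refine h.good_C hk hB (rg1 (by norm_num)) (h.card_dg three_pos e1) ?_
    rcases hN with ⟨-, e, e'⟩ | ⟨-, e, -⟩
    · obtain rfl : q = 4 := by omega
      rw [e']
      norm_num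
    · omega
  · refine h.good_B hW hk hB (rg1 (by norm_num)) ?_ e1 ?_
    · have a1 : ζ ^ 2 = -1 := (hζ.pow (by norm_num) (show 4 = 2 * 2 from rfl)).eq_neg_one_of_two_right
      have a2 : ζ⁻¹ = -ζ := inv_eq_of_mul_eq_one_right (by linear_combination -a1)
      simp [hx, Fin.sum_univ_three, a2]
    · rcases hN with ⟨-, e, e'⟩ | ⟨-, e, e'⟩
      · obtain rfl : q = 5 := by omega
        rw [e']
        norm_num
      · obtain rfl : q = 3 := by omega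
        rw [e']
        norm_num

/-- **the normaliser of an abelian group which is elementary modulo scalars** -/
theorem ab2 [IsAlgClosed K] (hN : Nm q c m (Nat.card G)) (hq : 3 ≤ q) (hqK : (q : K) = 0) (h2 : (2 : K) ≠ 0 → 2 ∣ m)
    {E : Subgroup G} {r : ℕ} (hr : r.Prime) (hrK : (r : K) ≠ 0) (hc : ∀ a ∈ E, ∀ b ∈ E, a * b = b * a)
    (hp : ∀ a ∈ E, π (a ^ r) = 1) (h1 : ∃ a ∈ E, π a ≠ 1) (hB : normalizer (E : Set G) = B)
    (hs : normalizer (B : Set G) = B) : Good B := by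
  have hm : (m : K) ≠ 0 := by
    rcases hN with ⟨-, rfl, -⟩ | ⟨-, rfl, -⟩
    · simp [Nat.cast_sub (show 1 ≤ q by omega), hqK]
    · simp [hqK]
  have c216 : 216 * c ≤ Nat.card G := by
    have e1 := hN.r3 hq
    have e2 : 13 ≤ c := by rcases hN with ⟨rfl, -⟩ | ⟨rfl, -⟩ <;> nlinarith
    have e3 : 13 * 13 * c ≤ c ^ 3 := by
      rw [pow_three']
      exact Nat.mul_le_mul_right _ (Nat.mul_le_mul e2 e2)
    omega
  obtain ⟨n, n1, n2⟩ : ∃ n : ℕ, (n : K) ≠ 0 ∧ ∀ a ∈ E, a ^ n = 1 := by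
    by_cases k : 3 ∣ m
    · obtain ⟨j, rfl⟩ := k
      rw [Nat.cast_mul] at hm
      exact ⟨r * 3, by rw [Nat.cast_mul]; exact mul_ne_zero hrK (left_ne_zero_of_mul hm),
        fun a ha => by rw [pow_mul, h.ker_cube (hp a ha)]⟩
    · exact ⟨r, hrK, fun a ha => h.ker_triv k (hp a ha)⟩
  obtain ⟨θ, g, hE⟩ := h.frame (fun a : E => a.1) (fun a b => hc _ a.2 _ b.2) n1 fun a => n2 _ a.2
  replace hE : E ≤ dg θ := fun a ha => hE ⟨a, ha⟩
  have nm : ∀ t ∈ B, ∀ a ∈ E, t * a * t⁻¹ ∈ E := fun t ht a ha => (mem_normalizer_iff.1 (hB ▸ ht) a).1 ha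
  have ce : ∀ t, (∀ a ∈ E, a * t = t * a) → t ∈ B := fun t ht => hB ▸ centralizer_le_normalizer _ ht
  by_cases sep : ∀ i j, i ≠ j → ∃ e ∈ E, θ e i i ≠ θ e j j
  swap
  · push Not at sep
    obtain ⟨i, j, hij, sep⟩ := sep
    obtain ⟨k, k1, k2, k3⟩ := third hij
    obtain ⟨x, hx, x1⟩ := h1
    have e1 : ∀ e ∈ E, ∀ a, a ≠ k → θ e a a = θ e i i := fun e he a ha => by
      rcases k3 a with rfl | rfl | rfl
      exacts [rfl, (sep e he).symm, absurd rfl ha]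
    have e2 : θ x i i ≠ θ x k k := fun e => x1 (g.ker_of (hE hx) fun a b => by
      have e3 : ∀ a, θ x a a = θ x i i := fun a => by
        by_cases ha : a = k
        exacts [ha ▸ e.symm, e1 x hx a ha]
      rw [e3 a, e3 b])
    refine g.good_blk (k := k) (fun t => ⟨fun ht => ?_, fun ht => ce t fun a ha => g.inj ?_⟩) e2 (hE hx) (e1 x hx) rfl
    · have e3 := nm t ht x hx
      obtain ⟨w, hw⟩ := g.conj_perm (hE hx) (hE e3) rfl
      have e4 : w k = k := by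
        by_contra e5
        obtain ⟨a, a1, a2⟩ : ∃ a, a ≠ k ∧ w a ≠ k := by
          by_cases e6 : w i = k
          · exact ⟨j, k2, fun e7 => hij (w.injective (e6.trans e7.symm))⟩
          · exact ⟨i, k1, e6⟩
        exact e2 (by rw [← e1 x hx a a1, ← hw a, ← hw k, e1 _ e3 _ a2, e1 _ e3 _ e5])
      have e5 := hw k
      have e6 := hw i
      rw [e4] at e5
      rw [e1 _ e3 _ fun e => k1 (w.injective (e.trans e4.symm))] at e6
      refine fun a ha => ⟨by_contra fun e => e2 ?_, by_contra fun e => e2 ?_⟩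
      · rw [← dg_conj (hE hx) (hE e3) rfl e, e1 _ e3 a ha, e6]
      · rw [← e5, dg_conj (hE hx) (hE e3) rfl e, e1 x hx a ha]
    · rw [map_mul, map_mul]
      ext a1 a2
      rw [dmul (hE ha), muld (hE ha), mul_comm]
      by_cases c1 : a1 = k <;> by_cases c2 : a2 = k
      · rw [c1, c2]
      · rw [c1, (ht a2 c2).2, zero_mul, zero_mul]
      · rw [c2, (ht a1 c1).1, zero_mul, zero_mul]
      · rw [e1 a ha a1 c1, e1 a ha a2 c2]
  have hd : dg θ ≤ B := fun t ht => ce t fun a ha => g.dg_comm (hE ha) ht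
  obtain ⟨W, hW, hk⟩ := g.exists_W (B := B) fun t ht => by
    obtain ⟨w, hw⟩ := exists_perm (A := θ t) (by rw [g.det]; exact one_ne_zero)
    refine ⟨w, fun i j e => ?_⟩
    obtain ⟨i, rfl⟩ := w.surjective i
    by_contra k
    obtain ⟨a, ha, a1⟩ := sep i j fun e1 => k (by rw [e1])
    exact a1 ((dg_conj (hE ha) (hE (nm t ht a ha)) rfl (hw i)).symm.trans (dg_conj (hE ha) (hE (nm t ht a ha)) rfl e))
  rcases hr.eq_two_or_odd' with rfl | ho
  · obtain ⟨n, rfl⟩ := h2 (by exact_mod_cast hrK)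
    refine g.good_split hN hq hqK hm hW hk hd hs c216 fun i j hij => ?_
    obtain ⟨a, ha, a1⟩ := sep i j hij
    refine ⟨a ^ 3, pow_mem (hE ha) 3, ?_, fun k => ?_⟩
    · rw [dg_pow (hE ha), dg_pow (hE ha)]
      exact fun e => a1 (odd_eq (g.dg_ne (hE ha) j) (by decide) (g.pow_ent (hE ha) (hp a ha) _ _) e)
    · rw [pow_mul, ← dg_pow (pow_mem (hE ha) 3), ← pow_mul, mul_comm, pow_mul, g.ker_cube (hp a ha), map_one, one_apply_eq,
        one_pow]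
  obtain ⟨x, hx, rg⟩ := g.exists_rg hE ho hp sep
  have rg2 : Rg θ (x ^ 2) := ⟨pow_mem rg.1 2, fun i j e => rg.2 _ _ (odd_eq (g.dg_ne rg.1 j) ho
    (by rwa [dg_pow rg.1, dg_pow rg.1] at e) (g.pow_ent rg.1 (hp x hx) _ _))⟩
  by_cases r3 : r = 3
  swap
  · refine g.good_A hW hd rg.1 rg2 (Or.inl fun e => ?_) c216
    have e1 := pow_gcd_eq_one.2 ⟨(map_pow π x r).symm.trans (hp x hx), (map_pow π x 3).symm.trans e⟩
    rw [(Nat.coprime_primes hr Nat.prime_three).2 r3, pow_one] at e1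
    exact zero_ne_one (rg.2 _ _ (g.ker_ent e1 0 1))
  subst r3
  have cu := g.rg_cube rg (hp x hx)
  by_cases k : 3 ∣ m
  · obtain ⟨n, rfl⟩ := k
    exact g.good_split hN hq hqK hm hW hk hd hs c216 fun i j hij =>
      ⟨x, rg.1, fun e => hij (rg.2 _ _ e), fun k => by rw [pow_mul, cu, one_pow]⟩
  refine g.good_A hW hd rg.1 rg2 (Or.inr fun t => ?_) c216
  rcases perm_cases (W t) with e | ⟨e, -⟩ | ⟨-, e0, e1, e2⟩
  · rw [e, one_pow]
  · exact e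
  have e3 := hE (nm t t.2 x hx)
  have e4 : ∀ j, θ (t * x * (t : G)⁻¹) (W t j) (W t j) = θ x j j := fun j => dg_conj rg.1 e3 rfl (g.mon_ne (hW t) j)
  have e5 : ∀ j, θ (t * x * (t : G)⁻¹ * x ^ 2) j j = θ (t * x * (t : G)⁻¹) j j * θ x j j ^ 2 := fun j => by
    rw [map_mul, dmul e3, dg_pow rg.1]
  have e6 : ∀ j, θ (t * x * (t : G)⁻¹ * x ^ 2) (W t (W t j)) (W t (W t j)) = θ (t * x * (t : G)⁻¹ * x ^ 2) (W t j) (W t j) :=
    fun j => by
      have e7 := (prod3 (fun i => θ x i i) (e0 j).symm (e2 j) (e0 _).symm).trans (g.prod rg.1)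
      have e8 := cu j
      have e9 := cu (W t j)
      have e10 := cu (W t (W t j))
      rw [e5, e5, e4, e4]
      generalize θ x j j = a, θ x (W t j) (W t j) = b, θ x (W t (W t j)) (W t (W t j)) = d at *
      linear_combination (-(b * d ^ 2)) * e7 + a * b ^ 2 * e10
  have e7 := g.ker_triv k (g.ker_of (mul_mem e3 (pow_mem rg.1 2)) fun i j => by
    obtain ⟨i, rfl⟩ := (W t).surjective i
    obtain ⟨j, rfl⟩ := (W t).surjective j
    rcases e1 (W t i) (W t j) with e | e | e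
    exacts [e ▸ rfl, e ▸ (e6 i).symm, e ▸ e6 j])
  have e8 : t.1 ∈ dg θ := by
    rw [← g.cent_rg rg, mem_centralizer_singleton_iff, ← mul_inv_eq_iff_eq_mul, eq_inv_of_mul_eq_one_left e7]
    exact inv_eq_of_mul_eq_one_left (by rw [← pow_succ', g.ker_triv k (hp x hx)])
  rw [show W t = 1 from (hk.ge e8 :), one_pow]

end Ax

end Cfsg.Agent.N2.L3
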