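import Cfsg.Agent.N2.Tool

/-!
# N2 (S3519), `PSL₃(q)` and `PSU₃(q)`: the common setting `Ax` (helper11)

`G = SL₃(q)` or `SU₃(q)` inside the matrices over an algebraically closed field, `π : G → T` the projective group.
-/

set_option autoImplicit false
set_option maxHeartbeats 400000
set_option linter.unusedSectionVars false

namespace Cfsg.Agent.N2.L3

open Matrix Cfsg.Agent.FP3

/-- the `3 × 3` matrices -/
abbrev Mt (K : Type) : Type := Matrix (Fin 3) (Fin 3) K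

variable {K G T : Type} [Field K] [Group G] [Group T]

/-- change of the basis -/
def fr (ρ : G →* Mt K) (P : GL (Fin 3) K) : G →* Mt K where
  toFun g := P⁻¹.1 * ρ g * P.1
  map_one' := by rw [map_one, mul_one, Units.inv_mul]
  map_mul' a b := by simp only [map_mul, mul_assoc, Units.mul_inv_cancel_left]

theorem fr_apply (ρ : G →* Mt K) (P : GL (Fin 3) K) (g : G) : fr ρ P g = P⁻¹.1 * ρ g * P.1 := rfl

theorem fr_fr (ρ : G →* Mt K) (P R : GL (Fin 3) K) : fr (fr ρ P) R = fr ρ (P * R) := by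
  ext1 g
  simp only [fr_apply, _root_.mul_inv_rev, Units.val_mul, mul_assoc]

theorem fr_one (ρ : G →* Mt K) : fr ρ 1 = ρ := by
  ext1 g
  simp [fr_apply]

theorem fr_eq {ρ : G →* Mt K} {P : GL (Fin 3) K} {g : G} {M : Mt K} : fr ρ P g = M ↔ ρ g = P.1 * M * P⁻¹.1 := by
  rw [fr_apply]
  constructor
  · rintro rfl
    simp only [mul_assoc, Units.mul_inv, mul_one, Units.mul_inv_cancel_left]
  · intro h
    simp only [h, mul_assoc, Units.inv_mul, mul_one, Units.inv_mul_cancel_left]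

theorem dmul {A : Mt K} (h : A.IsDiag) (X : Mt K) (i j : Fin 3) : (A * X) i j = A i i * X i j := by
  conv_lhs => rw [← h.diagonal_diag, diagonal_mul]
  rfl

theorem muld {A : Mt K} (h : A.IsDiag) (X : Mt K) (i j : Fin 3) : (X * A) i j = X i j * A j j := by
  conv_lhs => rw [← h.diagonal_diag, mul_diagonal]
  rfl

/-- the diagonal elements -/
def dg (ρ : G →* Mt K) : Subgroup G where
  carrier := {g | (ρ g).IsDiag}
  one_mem' := by
    show (ρ 1).IsDiag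
    rw [map_one]
    exact isDiag_one
  mul_mem' {a b} ha hb i j hij := by
    show ρ (a * b) i j = 0
    rw [map_mul, dmul ha, hb hij, mul_zero]
  inv_mem' {a} ha i j hij := by
    have h1 : ρ a⁻¹ * ρ a = 1 := by rw [← map_mul, inv_mul_cancel, map_one]
    have h2 := congrFun (congrFun h1 i) j
    have h3 := congrFun (congrFun h1 j) j
    rw [muld ha, one_apply_ne hij] at h2
    rw [muld ha, one_apply_eq] at h3
    exact (mul_eq_zero.1 h2).resolve_right (right_ne_zero_of_mul_eq_one h3)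

theorem mem_dg {ρ : G →* Mt K} {g : G} : g ∈ dg ρ ↔ (ρ g).IsDiag := Iff.rfl

theorem dg_eq {ρ : G →* Mt K} {g : G} (h : g ∈ dg ρ) : ρ g = diagonal fun i => ρ g i i := (mem_dg.1 h).diagonal_diag.symm

theorem det_dg (t : Fin 3 → K) : (diagonal t).det = t 0 * t 1 * t 2 := by rw [det_diagonal, Fin.prod_univ_three]

theorem exists_perm {A : Mt K} (h : A.det ≠ 0) : ∃ w : Equiv.Perm (Fin 3), ∀ i, A (w i) i ≠ 0 := by
  rw [det_apply] at h
  obtain ⟨w, -, h1⟩ := Finset.exists_ne_zero_of_sum_ne_zero h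
  exact ⟨w, fun i e => h1 (by rw [Finset.prod_eq_zero (f := fun i => A (w i) i) (Finset.mem_univ i) e, smul_zero])⟩

theorem ne0 {t : Fin 3 → K} (h : t 0 * t 1 * t 2 = 1) (i : Fin 3) : t i ≠ 0 := by
  intro e
  fin_cases i <;> simp at e <;> simp [e] at h

theorem prod3 (t : Fin 3 → K) {i j k : Fin 3} (h1 : i ≠ j) (h2 : i ≠ k) (h3 : j ≠ k) : t i * t j * t k = t 0 * t 1 * t 2 := by
  fin_cases i <;> fin_cases j <;> fin_cases k <;> simp at h1 h2 h3 ⊢ <;> ring_nf <;> simp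

theorem third {i j : Fin 3} (h : i ≠ j) : ∃ k, i ≠ k ∧ j ≠ k ∧ ∀ l, l = i ∨ l = j ∨ l = k := by
  revert i j
  decide

theorem ext2 {t s : Fin 3 → K} (ht : t 0 * t 1 * t 2 = 1) (hs : s 0 * s 1 * s 2 = 1) {i j : Fin 3} (h : i ≠ j)
    (hi : t i = s i) (hj : t j = s j) : t = s := by
  obtain ⟨k, h1, h2, h3⟩ := third h
  have h4 := (prod3 t h h1 h2).trans (ht.trans ((prod3 s h h1 h2).trans hs).symm)
  rw [hi, hj] at h4
  have h5 := mul_left_cancel₀ (mul_ne_zero (ne0 hs i) (ne0 hs j)) h4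
  funext l
  rcases h3 l with rfl | rfl | rfl
  exacts [hi, hj, h5]

theorem card_poly (f : Polynomial K) (hf : f ≠ 0) (p : K → Prop) (h : ∀ x, p x → f.IsRoot x) :
    Finite {x // p x} ∧ Nat.card {x // p x} ≤ f.natDegree := by
  classical
  let ι : {x // p x} → f.roots.toFinset := fun x => ⟨x.1, Multiset.mem_toFinset.2 ((Polynomial.mem_roots hf).2 (h _ x.2))⟩
  have hι : Function.Injective ι := fun _ _ e => Subtype.ext (Subtype.mk.inj e)
  refine ⟨Finite.of_injective ι hι, (Nat.card_le_card_of_injective ι hι).trans ?_⟩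
  rw [Nat.card_eq_fintype_card, Fintype.card_coe]
  exact (Multiset.toFinset_card_le _).trans (Polynomial.card_roots' f)

theorem card_root {n : ℕ} (hn : 0 < n) (a : K) : Finite {x : K // x ^ n = a} ∧ Nat.card {x : K // x ^ n = a} ≤ n := by
  have h := card_poly (Polynomial.X ^ n - Polynomial.C a) (Polynomial.X_pow_sub_C_ne_zero hn a) (fun x => x ^ n = a)
    fun x hx => by simp [hx]
  rwa [Polynomial.natDegree_X_pow_sub_C] at h

/-- the setting -/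
structure Ax (q c m : ℕ) (ρ : G →* Mt K) (π : G →* T) : Prop where
  inj : Function.Injective ρ
  det : ∀ g, (ρ g).det = 1
  surj : Function.Surjective π
  ker : ∀ g, π g = 1 ↔ ∃ a : K, ρ g = a • 1
  scal : ∀ g (a : K), ρ g = a • 1 → a ^ m = 1
  tor : ∀ P, Nat.card (dg (fr ρ P)) ≤ c
  split : ∀ P, (∀ i j, i ≠ j → ∃ g ∈ dg (fr ρ P), fr ρ P g i i ≠ fr ρ P g j j ∧ ∀ k, fr ρ P g k k ^ m = 1) →
    ∀ t : Fin 3 → K, (∃ g, fr ρ P g = diagonal t) ↔ (∀ k, t k ^ m = 1) ∧ t 0 * t 1 * t 2 = 1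
  uni : ∀ u, (ρ u - 1) ^ 3 = 0 → (ρ u - 1) ^ 2 ≠ 0 → cn (π u) ≤ q ^ 2
  hom : ∀ x (l μ : K) (v φ : Fin 3 → K), φ ⬝ᵥ v = 1 → l ≠ μ → ρ x = l • 1 + (μ - l) • vecMulVec v φ →
    ∃ (u : G) (z ψ : Fin 3 → K), z ≠ 0 ∧ ψ ≠ 0 ∧ ψ ⬝ᵥ z = 0 ∧ ψ ⬝ᵥ v = 0 ∧ φ ⬝ᵥ z = 0 ∧ ρ u = 1 + vecMulVec z ψ

theorem cj_smul (P : GL (Fin 3) K) (a : K) : P.1 * (a • (1 : Mt K)) * P⁻¹.1 = a • 1 := by
  rw [mul_smul_comm, mul_one, smul_mul_assoc, Units.mul_inv]

theorem cj_pow (P : GL (Fin 3) K) (M : Mt K) (n : ℕ) : (P⁻¹.1 * M * P.1 - 1) ^ n = P⁻¹.1 * (M - 1) ^ n * P.1 := by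
  rw [← Units.conj_pow', mul_sub, sub_mul, mul_one, Units.inv_mul]

theorem cj_zero (P : GL (Fin 3) K) (M : Mt K) : P⁻¹.1 * M * P.1 = 0 ↔ M = 0 := by
  rw [Units.mul_left_eq_zero, Units.mul_right_eq_zero]

theorem dot_cj (P : GL (Fin 3) K) (φ v : Fin 3 → K) : (φ ᵥ* P.1) ⬝ᵥ (P⁻¹.1 *ᵥ v) = φ ⬝ᵥ v := by
  rw [← dotProduct_mulVec, mulVec_mulVec, Units.mul_inv, one_mulVec]

theorem Ax.fr {q c m : ℕ} {ρ : G →* Mt K} {π : G →* T} (h : Ax q c m ρ π) (P : GL (Fin 3) K) : Ax q c m (fr ρ P) π where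
  inj a b e := h.inj ((fr_eq.1 e).trans (fr_eq.1 rfl).symm)
  det g := by rw [fr_apply, det_units_conj', h.det]
  surj := h.surj
  ker g := by simp only [h.ker, fr_eq, cj_smul]
  scal g a e := h.scal g a (by rw [fr_eq.1 e, cj_smul])
  tor R := by rw [fr_fr]; exact h.tor _
  split R := by rw [fr_fr]; exact h.split _
  uni u h3 h2 := by
    rw [fr_apply, cj_pow] at h3 h2
    exact h.uni u ((cj_zero _ _).1 h3) fun e => h2 ((cj_zero _ _).2 e)
  hom x l μ v φ h1 h2 h3 := by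
    obtain ⟨u, z, ψ, hz, hψ, e1, e2, e3, e4⟩ := h.hom x l μ (P.1 *ᵥ v) (φ ᵥ* P⁻¹.1) (by
      have := dot_cj P⁻¹ φ v
      rwa [inv_inv, h1] at this) h2 (by
      rw [fr_eq.1 h3, mul_add, add_mul, cj_smul, mul_smul_comm, smul_mul_assoc, mul_vecMulVec, vecMulVec_mul])
    refine ⟨u, P⁻¹.1 *ᵥ z, ψ ᵥ* P.1, fun e => hz ?_, fun e => hψ ?_, by rw [dot_cj, e1], ?_, ?_, ?_⟩
    · rw [← one_mulVec z, ← P.mul_inv, ← mulVec_mulVec, e, mulVec_zero]
    · rw [← vecMul_one ψ, ← P.mul_inv, ← vecMul_vecMul, e, zero_vecMul]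
    · rw [← dotProduct_mulVec, e2]
    · rw [dotProduct_mulVec, e3]
    · rw [fr_apply, e4, mul_add, add_mul, mul_one, Units.inv_mul, mul_vecMulVec, vecMulVec_mul]

/-! ### tori -/

/-- the Gram matrix of a basis of eigenvectors -/
def Gr (ρ : G →* Mt K) (ψ : K → K) : Prop := ∀ P, ∃ Q : Mt K, Q.det ≠ 0 ∧ ∀ t : Fin 3 → K, t 0 * t 1 * t 2 = 1 →
  ((∃ g, fr ρ P g = diagonal t) ↔ ∀ i j, Q i j ≠ 0 → t i = ψ (t j))

theorem perm3 (w : Equiv.Perm (Fin 3)) :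
    (∀ i, w i = i) ∨ ∃ i, i ≠ w i ∧ (w (w i) = i ∨ (i ≠ w (w i) ∧ w i ≠ w (w i))) := by
  revert w
  decide

theorem tor_of {ρ : G →* Mt K} {ψ : K → K} (hG : Gr ρ ψ) (hi : Function.Injective ρ) (hd : ∀ g, (ρ g).det = 1)
    {m m₂ m₃ c : ℕ} (p1 : 0 < m) (p2 : 0 < m₂) (p3 : 0 < m₃) (h1 : ∀ t, t ≠ 0 → t = ψ t → t ^ m = 1)
    (h2 : ∀ t, t ≠ 0 → t = ψ (ψ t) → t ^ m₂ = 1) (h3 : ∀ t, t * ψ t * ψ (ψ t) = 1 → t ^ m₃ = 1)
    (c1 : m ^ 2 ≤ c) (c2 : m₂ ≤ c) (c3 : m₃ ≤ c) (P : GL (Fin 3) K) : Nat.card (dg (fr ρ P)) ≤ c := by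
  obtain ⟨Q, hQ, h⟩ := hG P
  obtain ⟨w, hw⟩ := exists_perm hQ
  let t : dg (fr ρ P) → Fin 3 → K := fun g i => fr ρ P g i i
  have e1 : ∀ g : dg (fr ρ P), fr ρ P g = diagonal (t g) := fun g => dg_eq g.2
  have e2 : ∀ g, t g 0 * t g 1 * t g 2 = 1 := fun g => by rw [← det_dg, ← e1, fr_apply, det_units_conj', hd]
  have e3 : ∀ g j, t g (w j) = ψ (t g j) := fun g j => (h _ (e2 g)).1 ⟨g, e1 g⟩ _ _ (hw j)
  have e4 : ∀ g g', t g = t g' → g = g' := fun g g' e =>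
    Subtype.ext (hi (by rw [fr_eq.1 (e1 g), fr_eq.1 (e1 g'), e]))
  have e5 : ∀ {n : ℕ}, 0 < n → ∀ i, i ≠ w i → (∀ g, t g i ^ n = 1) → Nat.card (dg (fr ρ P)) ≤ n := fun {n} hn i hi' e => by
    obtain ⟨f, k⟩ := card_root hn (1 : K)
    exact (Nat.card_le_card_of_injective (fun g => (⟨t g i, e g⟩ : {x : K // x ^ n = 1})) fun g g' e' =>
      e4 _ _ (ext2 (e2 _) (e2 _) hi' (Subtype.mk.inj e') (by rw [e3, e3, Subtype.mk.inj e']))).trans k
  rcases perm3 w with k | ⟨i, k, k' | ⟨k1, k2⟩⟩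
  · obtain ⟨f, k'⟩ := card_root p1 (1 : K)
    have e6 : ∀ g j, t g j ^ m = 1 := fun g j => h1 _ (ne0 (e2 g) j) (by rw [← e3, k])
    refine (Nat.card_le_card_of_injective (fun g => ((⟨t g 0, e6 g 0⟩, ⟨t g 1, e6 g 1⟩) :
      {x : K // x ^ m = 1} × {x : K // x ^ m = 1})) fun g g' e' => e4 _ _ (ext2 (e2 _) (e2 _) zero_ne_one
        (Subtype.mk.inj (Prod.mk.inj e').1) (Subtype.mk.inj (Prod.mk.inj e').2))).trans ?_
    rw [Nat.card_prod]
    exact (Nat.mul_le_mul k' k').trans (by rwa [← pow_two])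
  · exact (e5 p2 i k fun g => h2 _ (ne0 (e2 g) i) (by rw [← e3, ← e3, k'])).trans c2
  · exact (e5 p3 i k fun g => h3 _ (by rw [← e3, ← e3, prod3 _ k k1 k2, e2])).trans c3

theorem split_of {ρ : G →* Mt K} {ψ : K → K} (hG : Gr ρ ψ) (hd : ∀ g, (ρ g).det = 1) {m : ℕ}
    (h1 : ∀ t, t ≠ 0 → (t = ψ t ↔ t ^ m = 1)) (P : GL (Fin 3) K)
    (hs : ∀ i j, i ≠ j → ∃ g ∈ dg (fr ρ P), fr ρ P g i i ≠ fr ρ P g j j ∧ ∀ k, fr ρ P g k k ^ m = 1) (t : Fin 3 → K) :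
    (∃ g, fr ρ P g = diagonal t) ↔ (∀ k, t k ^ m = 1) ∧ t 0 * t 1 * t 2 = 1 := by
  obtain ⟨Q, hQ, h⟩ := hG P
  have e1 : ∀ {g s}, fr ρ P g = diagonal s → s 0 * s 1 * s 2 = 1 := fun e => by
    rw [← det_dg, ← e, fr_apply, det_units_conj', hd]
  have e2 : ∀ i j, Q i j ≠ 0 → i = j := fun i j hij => by
    by_contra e
    obtain ⟨g, hg, k1, k2⟩ := hs i j e
    have k3 := e1 (dg_eq hg)
    exact k1 (((h _ k3).1 ⟨g, dg_eq hg⟩ i j hij).trans ((h1 _ (ne0 (t := fun i => fr ρ P g i i) k3 j)).2 (k2 j)).symm)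
  obtain ⟨w, hw⟩ := exists_perm hQ
  constructor
  · rintro ⟨g, hg⟩
    refine ⟨fun k => (h1 _ (ne0 (e1 hg) k)).1 ?_, e1 hg⟩
    have k1 := (h _ (e1 hg)).1 ⟨g, hg⟩ _ _ (hw k)
    rwa [e2 _ _ (hw k)] at k1
  · rintro ⟨k1, k2⟩
    refine (h _ k2).2 fun i j hij => ?_
    rw [e2 _ _ hij]
    exact (h1 _ (ne0 k2 j)).2 (k1 j)

/-! ### regular unipotent elements -/

theorem nil_ind {N : Mt K} (h3 : N ^ 3 = 0) (h2 : N ^ 2 ≠ 0) {a b c : K} (h : a • (1 : Mt K) + b • N + c • N ^ 2 = 0) :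
    a = 0 ∧ b = 0 ∧ c = 0 := by
  have h4 : N ^ 2 * N ^ 2 = 0 := by rw [← pow_add, show 2 + 2 = 3 + 1 from rfl, pow_succ, h3, zero_mul]
  have e1 := congrArg (· * N ^ 2) h
  simp only [add_mul, smul_mul_assoc, one_mul, zero_mul, h4, ← pow_succ', h3, smul_zero, add_zero] at e1
  have ha := (smul_eq_zero.1 e1).resolve_right h2
  have e2 := congrArg (· * N) h
  simp only [ha, zero_smul, zero_add, add_mul, smul_mul_assoc, zero_mul, ← pow_succ, h3, smul_zero, add_zero,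
    ← pow_two] at e2
  have hb := (smul_eq_zero.1 e2).resolve_right h2
  rw [ha, hb, zero_smul, zero_smul, zero_add, zero_add] at h
  exact ⟨ha, hb, (smul_eq_zero.1 h).resolve_right h2⟩

theorem nil_cent {N : Mt K} (h3 : N ^ 3 = 0) (h2 : N ^ 2 ≠ 0) {M : Mt K} (hc : M * N = N * M) :
    ∃ a b c : K, M = a • 1 + b • N + c • N ^ 2 := by
  obtain ⟨v, hv⟩ : ∃ v, N ^ 2 *ᵥ v ≠ 0 := by
    by_contra k
    push Not at k
    exact h2 (ext_of_mulVec_single fun i => by rw [k, zero_mulVec])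
  have e3 : ∀ w, N *ᵥ (N ^ 2 *ᵥ w) = 0 := fun w => by rw [mulVec_mulVec, ← pow_succ', h3, zero_mulVec]
  have e2 : ∀ w, N *ᵥ (N *ᵥ w) = N ^ 2 *ᵥ w := fun w => by rw [mulVec_mulVec, ← pow_two]
  have hl : LinearIndependent K ![v, N *ᵥ v, N ^ 2 *ᵥ v] := by
    rw [Fintype.linearIndependent_iff]
    intro g hg
    rw [Fin.sum_univ_three] at hg
    simp only [cons_val_zero, cons_val_one, cons_val] at hg
    have k1 := congrArg (N *ᵥ ·) hg
    simp only [mulVec_add, mulVec_smul, e2, e3, smul_zero, add_zero, mulVec_zero] at k1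
    have k2 := congrArg (N *ᵥ ·) k1
    simp only [mulVec_add, mulVec_smul, e2, e3, smul_zero, add_zero, mulVec_zero] at k2
    have g0 := (smul_eq_zero.1 k2).resolve_right hv
    rw [g0, zero_smul, zero_add] at k1
    have g1 := (smul_eq_zero.1 k1).resolve_right hv
    rw [g0, g1, zero_smul, zero_smul, zero_add, zero_add] at hg
    have g2 := (smul_eq_zero.1 hg).resolve_right hv
    intro i
    fin_cases i
    exacts [g0, g1, g2]
  have hs : ∀ w, ∃ a b c : K, w = a • v + b • N *ᵥ v + c • N ^ 2 *ᵥ v := fun w => by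
    have k1 : w ∈ Submodule.span K (Set.range ![v, N *ᵥ v, N ^ 2 *ᵥ v]) := by
      rw [hl.span_eq_top_of_card_eq_finrank' (by simp)]
      trivial
    obtain ⟨g, hg⟩ := (Submodule.mem_span_range_iff_exists_fun K).1 k1
    rw [Fin.sum_univ_three] at hg
    exact ⟨g 0, g 1, g 2, hg.symm⟩
  obtain ⟨a, b, c, h⟩ := hs (M *ᵥ v)
  refine ⟨a, b, c, ?_⟩
  have k0 : ∀ w, (a • (1 : Mt K) + b • N + c • N ^ 2) *ᵥ w = a • w + b • N *ᵥ w + c • N ^ 2 *ᵥ w := fun w => by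
    simp only [add_mulVec, smul_mulVec, one_mulVec]
  have k1 : ∀ w, M *ᵥ (N *ᵥ w) = N *ᵥ (M *ᵥ w) := fun w => by rw [mulVec_mulVec, hc, mulVec_mulVec]
  refine ext_of_mulVec_single fun i => ?_
  obtain ⟨x, y, z, hw⟩ := hs (Pi.single i 1)
  rw [hw, k0]
  simp only [← e2, mulVec_add, mulVec_smul, k1, h]
  module

theorem uni_of {ρ : G →* Mt K} {π : G →* T} (hs : Function.Surjective π) (hk : ∀ g, π g = 1 ↔ ∃ a : K, ρ g = a • 1)
    {u : G} (h3 : (ρ u - 1) ^ 3 = 0) (h2 : (ρ u - 1) ^ 2 ≠ 0) (S : K × K → Prop) [Finite {x // S x}]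
    (hS : ∀ g (a b c : K), a ≠ 0 → ρ g = a • 1 + b • (ρ u - 1) + c • (ρ u - 1) ^ 2 → S (b / a, c / a)) :
    cn (π u) ≤ Nat.card {x // S x} := by
  set N := ρ u - 1 with hN
  have hu : ρ u = 1 + N := by rw [hN, add_sub_cancel]
  have h4 : N ^ 2 * N ^ 2 = 0 := by rw [← pow_add, show 2 + 2 = 3 + 1 from rfl, pow_succ, h3, zero_mul]
  have key : ∀ y : Subgroup.centralizer ({π u} : Set T), ∃ (g : G) (a b c : K), π g = y ∧ a ≠ 0 ∧
      ρ g = a • 1 + b • N + c • N ^ 2 := fun y => by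
    obtain ⟨g, hg⟩ := hs y
    have e1 : π (g * u * g⁻¹ * u⁻¹) = 1 := by
      have := Subgroup.mem_centralizer_singleton_iff.1 y.2
      rw [map_mul, map_mul, map_mul, map_inv, map_inv, hg, this]
      group
    obtain ⟨z, hz⟩ := (hk _).1 e1
    have e2 : ρ (g * u * g⁻¹) = z • ρ u := by
      rw [← inv_mul_cancel_right (g * u * g⁻¹) u, map_mul, hz, smul_mul_assoc, one_mul]
    have e3 : ρ g * ρ g⁻¹ = 1 := by rw [← map_mul, mul_inv_cancel, map_one]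
    have e4 : ρ g⁻¹ * ρ g = 1 := by rw [← map_mul, inv_mul_cancel, map_one]
    have e5 : ρ g * N * ρ g⁻¹ = (z - 1) • 1 + z • N := by
      rw [hN, mul_sub, sub_mul, mul_one, e3, ← map_mul, ← map_mul, e2]
      module
    have e6 : ((z - 1) • (1 : Mt K) + z • N) ^ 3 = 0 := by
      have := Units.conj_pow (⟨ρ g, ρ g⁻¹, e3, e4⟩ : (Mt K)ˣ) N 3
      rw [h3, mul_zero, zero_mul] at this
      rw [← e5]
      exact this
    have e7 : (z - 1) ^ 3 = 0 := by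
      refine (nil_ind h3 h2 (b := 3 * (z - 1) ^ 2 * z) (c := 3 * (z - 1) * z ^ 2) ?_).1
      rw [← e6]
      simp only [pow_succ, pow_zero, one_mul, add_mul, mul_add, smul_mul_assoc, mul_smul_comm, mul_one] at h3 ⊢
      rw [h3]
      module
    have e8 : z = 1 := sub_eq_zero.1 (pow_eq_zero_iff three_ne_zero |>.1 e7)
    rw [e8, sub_self, zero_smul, zero_add, one_smul] at e5
    obtain ⟨a, b, c, h⟩ := nil_cent h3 h2 (M := ρ g) (by rw [← mul_one (ρ g * N), ← e4, ← mul_assoc, e5])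
    refine ⟨g, a, b, c, hg, fun e => h2 ?_, h⟩
    rw [← one_mul (N ^ 2), ← e4, mul_assoc, h, e, zero_smul, zero_add, add_mul, smul_mul_assoc, smul_mul_assoc, h4,
      ← pow_succ', h3, smul_zero, smul_zero, add_zero, mul_zero]
  choose g a b c h1 ha h using key
  refine Nat.card_le_card_of_injective (fun y => (⟨(b y / a y, c y / a y), hS _ _ _ _ (ha y) (h y)⟩ : {x // S x}))
    fun y y' e => Subtype.ext ?_
  obtain ⟨e1, e2⟩ := Prod.mk.inj (Subtype.mk.inj e)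
  have e3 : ρ (g y) = (a y / a y') • ρ (g y') := by
    have k1 := ha y
    have k2 := ha y'
    have k3 : b y = a y / a y' * b y' := by rw [div_eq_div_iff k1 k2] at e1; field_simp; linear_combination e1
    have k4 : c y = a y / a y' * c y' := by rw [div_eq_div_iff k1 k2] at e2; field_simp; linear_combination e2
    rw [h, h, smul_add, smul_add, smul_smul, smul_smul, smul_smul, ← k3, ← k4, div_mul_cancel₀ _ k2]
  have e4 : π (g y * (g y')⁻¹) = 1 := (hk _).2 ⟨_, by rw [map_mul, e3, smul_mul_assoc, ← map_mul, mul_inv_cancel, map_one]⟩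
  rwa [map_mul, map_inv, h1, h1, mul_inv_eq_one] at e4

end Cfsg.Agent.N2.L3
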