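import Cfsg.Agent.N2.L3U3.Defs
import Cfsg.Agent.H794.Full
import Cfsg.Agent.H680.Six.Card
import Cfsg.Agent.H127.PSUThreeEx
import Cfsg.Agent.S2476
import Cfsg.Agent.S0249
import Cfsg.Agent.S0283

/-!
# N2 (S3519), `PSL₃(q)` and `PSU₃(q)`: subgroups of type `L₃(q₀)` and `U₃(q₀)` (helper11)
-/

set_option autoImplicit false
set_option maxHeartbeats 400000
set_option linter.unusedSectionVars false

namespace Cfsg.Agent.N2.L3

open Matrix Subgroup

theorem noncomm_of {H : Type} [Group H] [Finite H] [IsSimpleGroup H] {a b : ℕ} (h : Nat.card H = a * b) (ha : 1 < a)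
    (hb : 1 < b) : ¬ IsMulCommutative H := fun k => by
  let _ : CommGroup H := { (inferInstance : Group H) with mul_comm := k.1.1 }
  have := IsSimpleGroup.prime_card (α := H)
  rw [h] at this
  exact Nat.not_prime_mul ha.ne' hb.ne' this

theorem perf_of {H : Type} [Group H] [IsSimpleGroup H] (h : ¬ IsMulCommutative H) : commutator H = ⊤ :=
  ((inferInstance : (commutator H).Normal).eq_bot_or_eq_top).resolve_left fun e =>
    h ⟨⟨fun a b => mem_center_iff.1 ((commutator_eq_bot_iff_center_eq_top H).1 e ▸ mem_top b) a⟩⟩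

theorem dat_of {H : Type} [Group H] [Finite H] [IsSimpleGroup H] {g : H} {k b s : ℕ} (h1 : orderOf g = k)
    (h2 : Nat.card H = k * b) (h3 : s.Prime) (h4 : s ∣ k) (h5 : ¬ s ∣ b) (h6 : 1 < b) : Dat H k s := by
  have k0 : k ≠ 0 := h1 ▸ (orderOf_pos g).ne'
  refine ⟨g, b, ⊤, h1, h2, h3, h4, h5, perf_congr topEquiv.symm (perf_of (noncomm_of h2
    (h3.one_lt.trans_le (Nat.le_of_dvd (Nat.pos_of_ne_zero k0) h4)) h6)), ?_⟩
  rw [index_top, Nat.dvd_one]
  exact h3.ne_one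

theorem arith3 {n : ℕ} (hn : 2 ≤ n) : ∃ k s, Nat.gcd 3 (n + 2) * k = n ^ 2 + n + 1 ∧ s.Prime ∧ s ∣ k ∧ s ≠ 3 ∧ ¬ s ∣ n ∧
    ¬ s ∣ n + 1 ∧ ¬ s ∣ n + 2 ∧ ¬ s ∣ n - 1 := by
  obtain ⟨k, h1, h2⟩ : ∃ k, Nat.gcd 3 (n + 2) * k = n ^ 2 + n + 1 ∧ k % 3 = 1 := by
    obtain ⟨u, rfl | rfl | rfl⟩ : ∃ u, n = 3 * u ∨ n = 3 * u + 1 ∨ n = 3 * u + 2 := ⟨n / 3, by omega⟩
    · exact ⟨3 * (3 * u ^ 2 + u) + 1, by rw [Nat.prime_three.coprime_iff_not_dvd.2 (by omega)]; ring, by omega⟩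
    · exact ⟨3 * (u ^ 2 + u) + 1, by rw [Nat.gcd_eq_left (by omega)]; ring, by omega⟩
    · exact ⟨3 * (3 * u ^ 2 + 5 * u + 2) + 1, by rw [Nat.prime_three.coprime_iff_not_dvd.2 (by omega)]; ring, by omega⟩
  have h3 : k ≠ 1 := by
    rintro rfl
    have := Nat.gcd_le_left (n + 2) three_pos
    nlinarith
  obtain ⟨s, hs, h4⟩ := Nat.exists_prime_and_dvd h3
  have h5 : s ≠ 3 := by
    rintro rfl
    omega
  have h6 : s ∣ n ^ 2 + n + 1 := h1 ▸ h4.mul_left _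
  have k1 : ∀ {a b}, s ∣ a → a * b + 1 = n ^ 2 + n + 1 → False := fun {a b} e e' =>
    hs.ne_one (Nat.dvd_one.1 ((Nat.dvd_add_right (e.mul_right b)).1 (e' ▸ h6)))
  have k3 : ∀ {a b}, s ∣ a → a * b + 3 = n ^ 2 + n + 1 → False := fun {a b} e e' =>
    h5 ((Nat.prime_dvd_prime_iff_eq hs Nat.prime_three).1 ((Nat.dvd_add_right (e.mul_right b)).1 (e' ▸ h6)))
  obtain ⟨n, rfl⟩ : ∃ j, n = j + 1 := ⟨n - 1, by omega⟩
  exact ⟨k, s, h1, hs, h4, h5, fun e => k1 e (b := n + 2) (by ring), fun e => k1 e (b := n + 1) (by ring),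
    fun e => k3 e (b := n) (by ring), fun e => k3 e (b := n + 3) (by rw [Nat.add_sub_cancel]; ring)⟩

theorem char_dvd (K : Type) [Field K] [Fintype K] (p : ℕ) [CharP K p] : p ∣ Fintype.card K :=
  (CharP.cast_eq_zero_iff K p _).1 (FiniteField.cast_card_eq_zero K)

theorem dat_l3 (K : Type) [Field K] [Fintype K] (p : ℕ) [Fact p.Prime] [CharP K p] {n : ℕ} (hK : Fintype.card K = n) :
    ∃ k s, Dat (ProjectiveSpecialLinearGroup (Fin 3) K) k s ∧ s ≠ p ∧ s ≠ 3 ∧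
      Nat.card (ProjectiveSpecialLinearGroup (Fin 3) K) ≤ Nat.gcd 3 (n - 1) ^ 2 * n ^ 2 * k ^ 3 ∧
      (n = 2 → Nat.card (ProjectiveSpecialLinearGroup (Fin 3) K) ≤ k ^ 3) := by
  have h2 : 2 ≤ n := hK ▸ Fintype.one_lt_card
  have := S0249.result (F := K) 3 le_rfl
  obtain ⟨k, s, h1, hs, h3, h4, h5, h6, -, h7⟩ := arith3 h2
  have hc := H680.Six.psl3_card (F := K)
  have hp := char_dvd K p
  have ho := S2476.result (F := K) p
  rw [hK] at hc hp ho
  obtain ⟨n, rfl⟩ : ∃ j, n = j + 1 := ⟨n - 1, by omega⟩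
  rw [show n + 1 + 2 = n + 3 from rfl, Nat.gcd_add_self_right] at h1
  rw [Nat.add_sub_cancel] at hc ho h7 ⊢
  have d0 : 0 < Nat.gcd 3 n := Nat.gcd_pos_of_pos_left _ three_pos
  obtain ⟨g, hg⟩ : k ∈ Set.range (orderOf : ProjectiveSpecialLinearGroup (Fin 3) K → ℕ) := by
    rw [ho]
    exact Or.inl (by rw [← h1, Nat.mul_div_cancel_left _ d0])
  have e1 : Nat.card (ProjectiveSpecialLinearGroup (Fin 3) K) = k * ((n + 1) ^ 3 * (n * n * (n + 2))) := by
    refine Nat.eq_of_mul_eq_mul_left d0 ?_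
    rw [hc, ← mul_assoc (Nat.gcd 3 n) k, h1, show (n + 1) ^ 2 - 1 = n * (n + 2) from Nat.sub_eq_of_eq_add (by ring),
      show (n + 1) ^ 3 - 1 = n * ((n + 1) ^ 2 + (n + 1) + 1) from Nat.sub_eq_of_eq_add (by ring)]
    ring
  refine ⟨k, s, dat_of hg e1 hs h3 (fun e => ?_) ?_, fun e => h5 (e ▸ hp), h4, ?_, fun e => ?_⟩
  · simp only [hs.dvd_mul, h6, h7, or_self, or_false] at e
    exact h5 (hs.dvd_of_dvd_pow e)
  · exact one_lt_mul_of_lt_of_le (Nat.one_lt_pow three_ne_zero h2) (Nat.mul_pos (Nat.mul_pos (by omega) (by omega)) (by omega))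
  · calc _ = k * (n + 1) ^ 2 * ((n + 1) * (n * n * (n + 2))) := by rw [e1]; ring
      _ ≤ k * (n + 1) ^ 2 * (Nat.gcd 3 n * k) ^ 2 := Nat.mul_le_mul_left _ (by rw [h1]; ring_nf; omega)
      _ = _ := by ring
  · obtain rfl : n = 1 := by omega
    obtain rfl : k = 7 := by simpa using h1
    rw [e1]
    norm_num

theorem dat_u3 (K : Type) [Field K] [Fintype K] (p : ℕ) [Fact p.Prime] [CharP K p] {n : ℕ} (hK : Fintype.card K = n ^ 2)
    (h2 : 3 ≤ n) : ∃ k s, Dat (PSU 3 K n) k s ∧ s ≠ p ∧ s ≠ 3 ∧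
      Nat.card (PSU 3 K n) ≤ 2 * Nat.gcd 3 (n + 1) ^ 2 * n ^ 2 * k ^ 3 := by
  have := S0283.result hK 3 le_rfl (by omega)
  have hc := H680.Six.psu3_card hK
  have hp := (Fact.out : p.Prime).dvd_of_dvd_pow (hK ▸ char_dvd K p)
  have ho := H127.PSUThreeEx.ex_four p hK
  obtain ⟨n, rfl⟩ : ∃ j, n = j + 1 := ⟨n - 1, by omega⟩
  obtain ⟨k, s, h1, hs, h3, h4, h5, h6, h7, -⟩ := arith3 (show 2 ≤ n by omega)
  have d0 : 0 < Nat.gcd 3 (n + 2) := Nat.gcd_pos_of_pos_left _ three_pos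
  obtain ⟨g, hg⟩ := ho k (by
    rw [show (n + 1) ^ 2 - (n + 1) = n ^ 2 + n from Nat.sub_eq_of_eq_add (by ring), ← h1, Nat.mul_div_cancel_left _ d0])
  have e1 : Nat.card (PSU 3 K (n + 1)) = k * ((n + 1) ^ 3 * (n * (n + 2) * (n + 2))) := by
    refine Nat.eq_of_mul_eq_mul_left d0 ?_
    rw [hc, ← mul_assoc (Nat.gcd 3 (n + 2)) k, h1, show (n + 1) ^ 2 - 1 = n * (n + 2) from Nat.sub_eq_of_eq_add (by ring)]
    ring
  refine ⟨k, s, dat_of hg e1 hs h3 (fun e => ?_) ?_, fun e => h6 (e ▸ hp), h4, ?_⟩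
  · simp only [hs.dvd_mul, h5, h7, or_self, or_false] at e
    exact h6 (hs.dvd_of_dvd_pow e)
  · exact one_lt_mul_of_lt_of_le (Nat.one_lt_pow three_ne_zero (by omega))
      (Nat.mul_pos (Nat.mul_pos (by omega) (by omega)) (by omega))
  · obtain ⟨n, rfl⟩ : ∃ j, n = j + 2 := ⟨n - 2, by omega⟩
    calc _ = k * (n + 3) ^ 2 * ((n + 3) * ((n + 2) * (n + 4) * (n + 4))) := by rw [e1]; ring
      _ ≤ k * (n + 3) ^ 2 * (2 * (Nat.gcd 3 (n + 2 + 2) * k) ^ 2) := Nat.mul_le_mul_left _ (by rw [h1]; ring_nf; omega)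
      _ = _ := by ring

variable {q c m D p : ℕ} {H : Type} [Group H] {L : Subgroup H}

theorem cy_of (h : Nm q c m D) {X : Type} [Group X] (e : L ≃* X) {k s κ n : ℕ} (h1 : Dat X k s) (h2 : s ≠ p) (h3 : s ≠ 3)
    (h4 : Nat.card X ≤ κ * n ^ 2 * k ^ 3) (hi : L.index = 1 ∨ L.index = 3) (hn : n ^ 2 ≤ q) (hq : L.index * κ + 6 < q + 1)
    (h0 : 6 < q) : Cy H p c D := by
  have hs : s.Prime := by
    obtain ⟨-, -, -, -, -, h, -⟩ := h1
    exact h
  refine ⟨k, s, h1.sub e ?_, h2, Or.inl ⟨h3, h.cmp (x := q * (q - 6)) (y := 1) (Nat.mul_pos (by omega) (by omega)) (by simpa using h.rq) ?_⟩⟩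
  · rcases hi with i | i <;> rw [i]
    · exact hs.not_dvd_one
    · exact fun k => h3 ((Nat.prime_dvd_prime_iff_eq hs Nat.prime_three).1 k)
  · rw [one_mul, ← L.index_mul_card, Nat.card_congr e.toEquiv]
    calc _ ≤ L.index * (κ * q * k ^ 3) :=
        Nat.mul_le_mul_left _ (h4.trans (Nat.mul_le_mul_right _ (Nat.mul_le_mul_left _ hn)))
      _ = q * (L.index * κ) * k ^ 3 := by ring
      _ ≤ _ := Nat.mul_le_mul_right _ (Nat.mul_le_mul_left _ (by omega))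

theorem gcd3 (a : ℕ) : Nat.gcd 3 a = 1 ∨ Nat.gcd 3 a = 3 ∧ 3 ∣ a :=
  ((Nat.dvd_prime Nat.prime_three).1 (Nat.gcd_dvd_left 3 a)).imp_right fun e => ⟨e, e ▸ Nat.gcd_dvd_right 3 a⟩

theorem cy_l3 (h : Nm q c m D) {K : Type} [Field K] [Fintype K] [Fact p.Prime] [CharP K p] {n : ℕ} (hK : Fintype.card K = n)
    (e : L ≃* ProjectiveSpecialLinearGroup (Fin 3) K)
    (hi : L.index = 1 ∧ n ^ 2 ≤ q ∨ L.index = 3 ∧ 3 ∣ n - 1 ∧ n ^ 3 ≤ q) : Cy H p c D := by
  have h2 : 2 ≤ n := hK ▸ Fintype.one_lt_card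
  obtain ⟨k, s, h1, h3, h4, h5, h6⟩ := dat_l3 K p hK
  rcases hi with ⟨i, hq⟩ | ⟨i, h7, hq⟩
  · by_cases c2 : n = 2
    · have hs : s.Prime := by
        obtain ⟨-, -, -, -, -, h, -⟩ := h1
        exact h
      refine ⟨k, s, h1.sub e (i ▸ hs.not_dvd_one), h3, Or.inl ⟨h4, h.cmp (by norm_num) (h.r3 (by subst c2; omega)) ?_⟩⟩
      have := h6 c2
      rw [← L.index_mul_card, Nat.card_congr e.toEquiv, i]
      omega
    · have h8 : 3 ^ 2 ≤ n ^ 2 := Nat.pow_le_pow_left (by omega) 2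
      refine cy_of h e h1 h3 h4 h5 (Or.inl i) hq ?_ (by omega)
      rcases gcd3 (n - 1) with d | ⟨d, d'⟩ <;> rw [i, d]
      · omega
      · have h9 : 4 ^ 2 ≤ n ^ 2 := Nat.pow_le_pow_left (by omega) 2
        omega
  · have h8 : 4 ^ 3 ≤ n ^ 3 := Nat.pow_le_pow_left (by omega) 3
    refine cy_of h e h1 h3 h4 h5 (Or.inr i) ((Nat.pow_le_pow_right (by omega) (by norm_num)).trans hq) ?_ (by omega)
    rw [i, Nat.gcd_eq_left h7]
    omega

theorem cy_u3 (h : Nm q c m D) {K : Type} [Field K] [Fintype K] [Fact p.Prime] [CharP K p] {n : ℕ}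
    (hK : Fintype.card K = n ^ 2) (h2 : 3 ≤ n) (e : L ≃* PSU 3 K n)
    (hi : L.index = 1 ∧ n ^ 2 ≤ q ∨ L.index = 3 ∧ 3 ∣ n + 1 ∧ n ^ 3 ≤ q) : Cy H p c D := by
  obtain ⟨k, s, h1, h3, h4, h5⟩ := dat_u3 K p hK h2
  rcases hi with ⟨i, hq⟩ | ⟨i, h7, hq⟩
  · have h8 : 3 ^ 2 ≤ n ^ 2 := Nat.pow_le_pow_left h2 2
    refine cy_of h e h1 h3 h4 h5 (Or.inl i) hq ?_ (by omega)
    rcases gcd3 (n + 1) with d | ⟨d, d'⟩ <;> rw [i, d]
    · omega
    · have h9 : 5 ^ 2 ≤ n ^ 2 := Nat.pow_le_pow_left (by omega) 2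
      omega
  · have h8 : 5 ^ 3 ≤ n ^ 3 := Nat.pow_le_pow_left (by omega) 3
    refine cy_of h e h1 h3 h4 h5 (Or.inr i) ((Nat.pow_le_pow_right (by omega) (by norm_num)).trans hq) ?_ (by omega)
    rw [i, Nat.gcd_eq_left h7]
    omega

/-- `L₃(q₀)` is no subgroup of a group whose Sylow subgroups intersect trivially -/
theorem no_l3 {T : Type} [Group T] [Finite T] [hp : Fact p.Prime] (h : H794.TI p T) {K : Type} [Field K] [CharP K p]
    (f : ProjectiveSpecialLinearGroup (Fin 3) K →* T) (hf : Function.Injective f) : False := by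
  let φ : SpecialLinearGroup (Fin 3) K →* T := f.comp (QuotientGroup.mk' _)
  have k1 : ∀ g, φ g = 1 → ∀ i j, (i ≠ j → g i j = 0) ∧ g i i = g j j := fun g hg i j => by
    obtain ⟨r, -, hr⟩ := Matrix.SpecialLinearGroup.mem_center_iff.1 ((QuotientGroup.eq_one_iff g).1 (hf (hg.trans (map_one f).symm)))
    exact ⟨fun e => by rw [← hr, scalar_apply, diagonal_apply_ne _ e], by rw [← hr, scalar_apply]; simp⟩
  let t : ∀ {i j : Fin 3}, i ≠ j → T := fun e => φ (SpecialLinearGroup.transvection e 1)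
  have k2 : ∀ {i j : Fin 3} (e : i ≠ j), IsPGroup p (zpowers (t e)) := fun {i j} e => by
    have e1 : ∀ n : ℕ, SpecialLinearGroup.transvection e (1 : K) ^ n = SpecialLinearGroup.transvection e (n : K) := fun n => by
      induction n with
      | zero => simp
      | succ n ih => exact Subtype.ext (by
          rw [pow_succ, ih, Nat.cast_succ]
          exact transvection_mul_transvection_same i j e _ _)
    rintro ⟨_, n, rfl⟩
    refine ⟨1, Subtype.ext ?_⟩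
    show (t e ^ n) ^ p ^ 1 = 1
    rw [← _root_.zpow_natCast, ← _root_.zpow_mul, mul_comm, _root_.zpow_mul, _root_.zpow_natCast, pow_one, ← map_pow, e1]
    simp
  have k3 : ∀ (P : Sylow p T) {i j k l : Fin 3} (e : i ≠ j) (e' : k ≠ l), j ≠ k → l ≠ i → t e ∈ P → t e' ∈ P :=
    fun P {i j k l} e e' a b hP => by
      have c : t e' * t e = t e * t e' := by
        rw [← map_mul, ← map_mul]
        refine congrArg φ (Subtype.ext ?_)
        simp [SpecialLinearGroup.transvection_coe, mul_add, add_mul, single_mul_single_of_ne _ _ _ _ a,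
          single_mul_single_of_ne _ _ _ _ b, add_right_comm]
      have e1 := h P (t e) hP (fun k => by simpa [SpecialLinearGroup.transvection_coe, e] using (k1 _ k i j).1 e) (t e')
        (by rwa [c, mul_inv_cancel_right])
      exact (((k2 e').inf_normalizer_sylow P).le ⟨mem_zpowers _, e1⟩).2
  obtain ⟨P, hP⟩ := (k2 (show (0 : Fin 3) ≠ 2 by decide)).exists_le_sylow
  have a1 := hP (mem_zpowers _)
  have a2 := k3 P _ (show (2 : Fin 3) ≠ 0 by decide) (by decide) (by decide)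
    (k3 P _ (show (2 : Fin 3) ≠ 1 by decide) (by decide) (by decide)
      (k3 P _ (show (0 : Fin 3) ≠ 1 by decide) (by decide) (by decide) a1))
  obtain ⟨n, hn⟩ := P.isPGroup' ⟨_, mul_mem (inv_mem a1) a2⟩
  obtain ⟨g, hg, e⟩ : ∃ g : SpecialLinearGroup (Fin 3) K, g.1 = !![0, 0, -1; 0, 1, 0; 1, 0, 1] ∧ φ g ^ p ^ n = 1 := by
    refine ⟨(SpecialLinearGroup.transvection (show (0 : Fin 3) ≠ 2 by decide) 1)⁻¹ *
      SpecialLinearGroup.transvection (show (2 : Fin 3) ≠ 0 by decide) 1, ?_,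
      by rw [map_mul, map_inv]; exact congrArg Subtype.val hn⟩
    rw [SpecialLinearGroup.transvection_inv]
    ext i j
    fin_cases i <;> fin_cases j <;>
      simp [SpecialLinearGroup.transvection_coe, mul_apply, Fin.sum_univ_three, one_apply, single_apply]
  have g2 : (g ^ 2).1 = !![-1, 0, -1; 0, 1, 0; 1, 0, 0] := by
    rw [pow_two, Matrix.SpecialLinearGroup.coe_mul, hg]
    simp
  have g3 : (g ^ 3).1 = !![-1, 0, 0; 0, 1, 0; 0, 0, -1] := by
    rw [pow_succ, Matrix.SpecialLinearGroup.coe_mul, g2, hg]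
    simp
  have g6 : φ g ^ (2 * 3) = 1 := by
    rw [mul_comm, pow_mul, ← map_pow, ← map_pow, show (g ^ 3) ^ 2 = 1 from Subtype.ext ?_, map_one]
    rw [pow_two, Matrix.SpecialLinearGroup.coe_mul, g3]
    simp [one_fin_three]
  by_cases c3 : p = 3
  · subst c3
    have e1 := pow_gcd_eq_one.2 ⟨e, g6⟩
    have e2 : φ (g ^ 3) = 1 := by
      rw [map_pow, ← orderOf_dvd_iff_pow_eq_one]
      exact ((Nat.Coprime.pow_left n (by norm_num : Nat.Coprime 3 2)).coprime_dvd_left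
        (orderOf_dvd_of_pow_eq_one e)).dvd_of_dvd_mul_left (orderOf_dvd_of_pow_eq_one g6)
    have e3 := (k1 _ e2 0 1).2
    have e4 : ((3 : ℕ) : K) = 0 := CharP.cast_eq_zero K 3
    simp only [g3, of_apply, cons_val', cons_val_zero, cons_val_one, cons_val_fin_one, Nat.cast_ofNat] at e3 e4
    exact one_ne_zero (α := K) (by linear_combination e4 + e3)
  · have e2 : φ (g ^ 2) = 1 := by
      rw [map_pow, ← orderOf_dvd_iff_pow_eq_one]
      exact ((((Nat.coprime_primes hp.out Nat.prime_three).2 c3).pow_left n).coprime_dvd_left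
        (orderOf_dvd_of_pow_eq_one e)).dvd_of_dvd_mul_right (orderOf_dvd_of_pow_eq_one g6)
    simpa [g2] using (k1 _ e2 0 2).1 (by decide)

end Cfsg.Agent.N2.L3
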