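import Cfsg.Agent.N2.L3U3.Defs
import Cfsg.Agent.H890.B3Main
import Cfsg.Agent.H890.B3Dick
import Cfsg.Agent.LieExceptional.PGLeqPSL
import Cfsg.Agent.S0252
import Cfsg.Agent.S0282
import Cfsg.Agent.S0799

/-!
# N2 (S3519): the subgroups of `PSL₃(2^a)` without non-trivial normal elementary abelian subgroups (helper97)

The proof is that of `H890.B3.bloom`, at the prime two.
-/

set_option autoImplicit false
set_option maxHeartbeats 400000
set_option linter.unusedSectionVars false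

namespace Cfsg.Agent.N2.L3

open Cfsg.Geo Cfsg.Agent.H907 Cfsg.Agent.H906 Cfsg.Agent.H890.B3
open Cfsg.Agent.ClassicalGeometry.PSL2Basic Cfsg.Agent.ClassicalGeometry.PSL2Solvable
open scoped Matrix MatrixGroups

namespace Hartley

theorem charTwo {F : Type*} [Field F] [Fintype F] {α : ℕ} (hF : Fintype.card F = 2 ^ α) : CharP F 2 := by
  obtain ⟨r, hr⟩ := CharP.exists F
  obtain ⟨n, hrp, hn⟩ := FiniteField.card F r
  have h1 : r ∣ 2 := by
    have : r ∣ 2 ^ α := by rw [← hF, hn]; exact dvd_pow_self r n.pos.ne'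
    exact hrp.dvd_of_dvd_pow this
  rwa [(Nat.prime_dvd_prime_iff_eq hrp Nat.prime_two).1 h1] at hr

theorem sq_all {F : Type*} [Field F] [Fintype F] {α : ℕ} (hF : Fintype.card F = 2 ^ α) (x : F) :
    ∃ r : F, x = r ^ 2 := by
  have := charTwo hF
  obtain ⟨r, hr⟩ := FiniteField.isSquare_of_char_two (ringChar.eq F 2) x
  exact ⟨r, by rw [hr, sq]⟩

/-- Dickson's theorem in characteristic two -/
theorem dick2 {F : Type} [Field F] [Fintype F] {α : ℕ} (hF : Fintype.card F = 2 ^ α) {H : Type} [Group H]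
    [Nontrivial H] (hN : NEA H) (f : H →* Matrix.ProjGenLinGroup (Fin 2) F) (hf : Function.Injective f) :
    ∃ (K : Type) (_ : Field K) (_ : Fintype K) (β : ℕ), Fintype.card K = 2 ^ β ∧ 2 ≤ β ∧
      Nonempty (H ≃* Matrix.ProjectiveSpecialLinearGroup (Fin 2) K) := by
  classical
  have hfinP : Finite (Matrix.ProjGenLinGroup (Fin 2) F) := by
    apply Nat.finite_of_card_ne_zero
    exact (Cfsg.Agent.H948.PSLMax.card_pgl_pos F).ne'
  have hfin : Finite H := Finite.of_injective f hf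
  have hns : ¬ Group.IsSolvable H := by
    intro hs
    have : Group.IsSolvable (⊤ : Subgroup H) :=
      Group.isSolvable_of_isSolvable_injective (f := (⊤ : Subgroup H).subtype)
        (Subgroup.subtype_injective _)
    exact top_ne_bot (hN.solvable ⊤ inferInstance this)
  have h72 : ¬ Nat.card H ∣ 72 := fun h =>
    hns (Cfsg.Agent.LieClassical.Order72.isSolvable_of_card_dvd h)
  have hch := charTwo hF
  obtain ⟨eM⟩ := Cfsg.Agent.LieExceptional.PGLeqPSL.nonempty_pgl_mulEquiv_psl F (sq_all hF)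
  let g : H →* Matrix.ProjectiveSpecialLinearGroup (Fin 2) F := eM.toMonoidHom.comp f
  have hg : Function.Injective g := eM.injective.comp hf
  let e : H ≃* g.range := MonoidHom.ofInjective hg
  rcases Cfsg.Agent.S0799.result (F := F) rfl 2 g.range with
    ⟨k, -, h | ⟨⟨e'⟩⟩⟩ | ⟨P, K, hK, ⟨e'⟩⟩ | ⟨⟨e'⟩⟩ | ⟨⟨e'⟩⟩ | ⟨⟨e'⟩⟩ | ⟨K, iK, iKf, m, hm, h⟩
  · exfalso
    apply hns
    have hc : IsCyclic g.range := h.1
    refine Group.isSolvable_of_comm fun x y => e.injective ?_
    rw [map_mul, map_mul]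
    exact hc.isMulCommutative.is_comm.comm _ _
  · exfalso
    apply hns
    have hsol := isSolvable_dihedral k
    exact Group.isSolvable_of_isSolvable_injective (f := e'.toMonoidHom.comp e.toMonoidHom)
      (e'.injective.comp e.injective)
  · exfalso
    apply hns
    have hsol := isSolvable_of_le_normalizer 2 P K hK
    exact Group.isSolvable_of_isSolvable_injective (f := e'.toMonoidHom.comp e.toMonoidHom)
      (e'.injective.comp e.injective)
  · exfalso
    apply h72
    rw [Nat.card_congr (e.trans e').toEquiv, Nat.card_eq_fintype_card,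
      show Fintype.card (alternatingGroup (Fin 4)) = 12 by decide +kernel]
    norm_num
  · exfalso
    apply h72
    rw [Nat.card_congr (e.trans e').toEquiv, Nat.card_eq_fintype_card,
      show Fintype.card (Equiv.Perm (Fin 4)) = 24 by decide +kernel]
    norm_num
  · let _ : Fintype (GaloisField 2 2) := Fintype.ofFinite _
    have hK4 : Fintype.card (GaloisField 2 2) = 2 ^ 2 := by
      rw [← Nat.card_eq_fintype_card]
      exact GaloisField.card 2 2 (by norm_num)
    obtain ⟨e4⟩ := Cfsg.Agent.S0252.result (F := GaloisField 2 2) (by rw [hK4]; norm_num)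
    exact ⟨GaloisField 2 2, inferInstance, inferInstance, 2, hK4, le_rfl, ⟨(e.trans e').trans e4.symm⟩⟩
  · obtain ⟨β, hβ⟩ : ∃ β, Fintype.card K = 2 ^ β := by
      have h1 : Fintype.card K ∣ 2 ^ α := by
        rw [← hF, ← hm]
        apply dvd_pow_self
        rintro rfl
        rw [pow_zero] at hm
        exact Fintype.one_lt_card.ne hm
      obtain ⟨β, -, hβ⟩ := (Nat.dvd_prime_pow Nat.prime_two).1 h1
      exact ⟨β, hβ⟩
    obtain ⟨eK⟩ := Cfsg.Agent.LieExceptional.PGLeqPSL.nonempty_pgl_mulEquiv_psl K (sq_all hβ)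
    have hiso : Nonempty (H ≃* Matrix.ProjectiveSpecialLinearGroup (Fin 2) K) := by
      rcases h with ⟨⟨e'⟩⟩ | ⟨⟨e'⟩⟩
      · exact ⟨e.trans e'⟩
      · exact ⟨(e.trans e').trans eK⟩
    refine ⟨K, iK, iKf, β, hβ, ?_, hiso⟩
    by_contra hlt
    have h1 : 1 < Fintype.card K := Fintype.one_lt_card
    have hβ1 : β = 1 := by
      rcases Nat.eq_zero_or_pos β with h0 | h0
      · rw [hβ, h0] at h1
        exact absurd h1 (by norm_num)
      · omega
    obtain ⟨e₁⟩ := hiso
    apply h72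
    rw [Nat.card_congr (e₁.trans eK.symm).toEquiv, card_PGL2, hβ, hβ1]
    norm_num

/-- in characteristic two and dimension three the polar form of a quadratic form is degenerate -/
theorem no_quad {F : Type*} [Field F] [CharP F 2] {Q : (Fin 3 → F) → F} (hQ : IsNondegenerateQuadraticForm Q) :
    False := by
  have h2 : (2 : F) = 0 := by exact_mod_cast CharP.cast_eq_zero F 2
  have hb := hQ.polar_bilinear
  set f := QuadraticMap.polar Q with hf
  have hsymm : ∀ x y, f x y = f y x := fun x y => QuadraticMap.polar_comm Q x y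
  have halt : ∀ v, f v v = 0 := by
    intro v
    have h1 : f v v = Q (v + v) - Q v - Q v := rfl
    rw [h1, ← two_smul F v, hQ.smul]
    linear_combination (Q v) * h2
  have hexp : ∀ x y : Fin 3 → F, f x y = x 0 * f (Pi.single 0 1) y + x 1 * f (Pi.single 1 1) y +
      x 2 * f (Pi.single 2 1) y := by
    intro x y
    have hx : x = x 0 • (Pi.single 0 1 : Fin 3 → F) + x 1 • (Pi.single 1 1 : Fin 3 → F) +
        x 2 • (Pi.single 2 1 : Fin 3 → F) := by
      funext i
      fin_cases i <;> simp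
    conv_lhs => rw [hx]
    rw [hb.add_left, hb.add_left, hb.smul_left, hb.smul_left, hb.smul_left]
  obtain ⟨a, ha⟩ : ∃ a, a = f (Pi.single 0 1) (Pi.single 1 1) := ⟨_, rfl⟩
  obtain ⟨b, hb'⟩ : ∃ b, b = f (Pi.single 0 1) (Pi.single 2 1) := ⟨_, rfl⟩
  obtain ⟨c, hc⟩ : ∃ c, c = f (Pi.single 1 1) (Pi.single 2 1) := ⟨_, rfl⟩
  have hkill : ∀ w : Fin 3 → F, w 1 * a + w 2 * b = 0 → w 0 * a + w 2 * c = 0 → w 0 * b + w 1 * c = 0 → w = 0 := by
    intro w k0 k1 k2
    by_contra hw
    obtain ⟨x, hx⟩ := (hQ.nondegenerate w hw).1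
    apply hx
    have e0 : f (Pi.single 0 1) w = 0 := by
      rw [hsymm, hexp, halt, hsymm (Pi.single 1 1), hsymm (Pi.single 2 1), ← ha, ← hb']
      linear_combination k0
    have e1 : f (Pi.single 1 1) w = 0 := by
      rw [hsymm, hexp, halt, hsymm (Pi.single 2 1), ← ha, ← hc]
      linear_combination k1
    have e2 : f (Pi.single 2 1) w = 0 := by
      rw [hsymm, hexp, halt, ← hb', ← hc]
      linear_combination k2
    show f x w = 0
    rw [hexp, e0, e1, e2]
    ring
  have h0 := hkill ![c, b, a] (by simp; linear_combination (a * b) * h2) (by simp; linear_combination (a * c) * h2)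
    (by simp; linear_combination (b * c) * h2)
  have hc0 : c = 0 := congrFun h0 0
  have hb0 : b = 0 := congrFun h0 1
  have ha0 : a = 0 := congrFun h0 2
  have h1 := hkill ![1, 0, 0] (by simp) (by simp [ha0]) (by simp [hb0])
  exact one_ne_zero (congrFun h1 0)

end Hartley

open Hartley in
/-- **The list in characteristic two.** -/
theorem hartley {F : Type} [Field F] [Fintype F] {α : ℕ} (hF : Fintype.card F = 2 ^ α) {H : Type} [Group H]
    [Nontrivial H] (hN : NEA H) {Hh : Subgroup (GL (Fin 3) F)} {π : Hh →* H} (hπ : Pres Hh π)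
    (hsl : Hh ≤ specialLinear (Fin 3) F) : Hart H α := by
  classical
  have hpp := Nat.prime_two
  have hfinH : Finite H := Finite.of_surjective _ hπ.surj
  by_cases hirr : ActsIrreducibly (matrixSet Hh)
  swap
  · obtain ⟨f, hf⟩ := exists_embed hπ hN hirr
    exact Or.inr (Or.inr (Or.inl (dick2 hF hN f hf)))
  obtain ⟨P, hP⟩ := exists_preCore hπ hN hirr
  obtain ⟨F₀, Hh₀, π₀, P₀, hπ₀, hC, hdet⟩ := exists_descent (by norm_num) hπ hsl hP
  have hC' := IsResidualCore.toPreCore hC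
  have hcharF : CharP F 2 := charTwo hF
  have hcharF₀ : CharP F₀ 2 := by
    refine ⟨fun n => ?_⟩
    rw [← CharP.cast_eq_zero_iff F 2 n]
    constructor
    · intro h
      have := congrArg (fun x : F₀ => (x : F)) h
      simpa using this
    · intro h
      apply Subtype.ext
      simpa using h
  have hfin₀ : Finite F₀ := inferInstance
  have := Fintype.ofFinite F₀
  obtain ⟨b, -, hb⟩ := FiniteField.card F₀ 2
  obtain ⟨β, hβdef⟩ : ∃ β : ℕ, β = (b : ℕ) := ⟨_, rfl⟩
  have hβ0 : 0 < β := by rw [hβdef]; exact b.pos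
  rw [← hβdef] at hb
  have hcard₀ : Nat.card F₀ = 2 ^ β := by rw [Nat.card_eq_fintype_card, hb]
  obtain ⟨k, hk⟩ : ∃ k, k = Module.finrank F₀ F := ⟨_, rfl⟩
  have hαβ : α = β * k := by
    have h1 := Module.natCard_eq_pow_finrank (K := F₀) (V := F)
    rw [Nat.card_eq_fintype_card, hF, hcard₀, ← pow_mul, ← hk] at h1
    exact Nat.pow_right_injective hpp.two_le h1
  have hβα : β ∣ α := ⟨k, hαβ⟩
  have hnum : ∀ r : ℕ, r.Prime → 2 ≠ r → (r : F₀) ≠ 0 := by
    intro r hr hpr h
    exact hpr ((Nat.prime_dvd_prime_iff_eq hpp hr).1 ((CharP.cast_eq_zero_iff F₀ 2 r).1 h))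
  have hKcard : Nat.card (GaloisField 2 β) = 2 ^ β := GaloisField.card 2 β hβ0.ne'
  have hthree : ∀ g ∈ Hh₀, (¬ ∃ c : F₀, (g : Matrix (Fin 3) (Fin 3) F₀).det = c ^ 3) → 3 ∣ k := by
    intro g hg hn
    obtain ⟨c, hc⟩ := hdet g hg
    rw [hk]
    exact cube_descent ((Matrix.isUnit_iff_isUnit_det _).1 g.isUnit).ne_zero hc hn
  obtain ⟨eL⟩ := coreSub_equiv hπ₀ hC'
  rcases core3 hC.absIrred hC.perfect hC.simple hC.nonabelian hC.no_subfield 2 with
    h | ⟨Q, hQ, -⟩ | ⟨K, iK, iKf, m, hKm, -, hm, hfix, hΦ⟩ | ⟨hp2, -⟩ | ⟨-, ⟨Φ⟩, -⟩ | ⟨hp5, -⟩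
  · -- linear
    let _ : Fintype (GaloisField 2 β) := Fintype.ofFinite _
    have hKc : Fintype.card (GaloisField 2 β) = 2 ^ β := by rw [← Nat.card_eq_fintype_card, hKcard]
    obtain ⟨Φ⟩ := exists_psl_equiv (GaloisField 2 β) (by rw [hcard₀, hKc]) h
    refine Or.inl ⟨GaloisField 2 β, inferInstance, inferInstance, β, hKc, coreSub π₀ hC', ?_, ⟨eL.trans Φ⟩⟩
    rcases exists_index hπ₀ hC' (fun g _ hg => lin_cube h hg) with htop | ⟨hidx, h3, g, hg, hng⟩
    · exact Or.inl ⟨by rw [htop, Subgroup.index_top], hβα⟩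
    · refine Or.inr ⟨hidx, by rwa [hcard₀] at h3, ?_⟩
      obtain ⟨j, hj⟩ := hthree g hg hng
      exact ⟨j, by rw [hαβ, hj]; ring⟩
  · exact (no_quad hQ).elim
  · -- unitary
    obtain ⟨γ, hγ⟩ : ∃ γ, m = 2 ^ γ := by
      have h1 : m ∣ 2 ^ β := by
        rw [← hcard₀, hm, sq]
        exact dvd_mul_right m m
      obtain ⟨γ, -, hγ⟩ := (Nat.dvd_prime_pow hpp).1 h1
      exact ⟨γ, hγ⟩
    subst hγ
    have hβγ : β = 2 * γ := by
      rw [hcard₀, ← pow_mul] at hm
      have := Nat.pow_right_injective hpp.two_le hm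
      rw [this, mul_comm]
    have hKm' : Fintype.card K = 2 ^ (2 * γ) := by rw [hKm, ← pow_mul, mul_comm]
    obtain ⟨hcube, hcop⟩ := uni_cube hm hC' hfix hKm hΦ
    obtain ⟨Φ⟩ := hΦ
    have hγ2 : 2 ≤ γ := by
      by_contra hlt
      have hγ1 : γ = 1 := by omega
      subst hγ1
      have hsol : Group.IsSolvable (Cfsg.PSU 3 K (2 ^ 1)) :=
        (Cfsg.Agent.S0282.result (F := K) (by rw [hKm]; norm_num)).2
      have hsol' := Group.isSolvable_of_isSolvable_injective (f := Φ.toMonoidHom) Φ.injective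
      have hs := hC.simple
      exact hC.nonabelian ⟨⟨IsSimpleGroup.comm_iff_isSolvable.2 hsol'⟩⟩
    refine Or.inr (Or.inl ⟨K, iK, iKf, γ, hKm', hγ2, coreSub π₀ hC', ?_, ⟨eL.trans Φ⟩⟩)
    rcases exists_index hπ₀ hC' hcube with htop | ⟨hidx, -, g, hg, hng⟩
    · exact Or.inl ⟨by rw [htop, Subgroup.index_top], hβγ ▸ hβα⟩
    · refine Or.inr ⟨hidx, ?_, ?_⟩
      · have h4 := hcop g hg hng
        rw [Nat.coprime_comm, Nat.Prime.coprime_iff_not_dvd Nat.prime_three, not_not] at h4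
        exact h4
      · obtain ⟨j, hj⟩ := hthree g hg hng
        exact ⟨j, by rw [hαβ, hj, hβγ]; ring⟩
  · exact absurd rfl hp2
  · exact Or.inr (Or.inr (Or.inr (six_ne_five hπ₀ hC' (by exact_mod_cast hnum 3 Nat.prime_three (by norm_num))
      (by exact_mod_cast hnum 5 (by norm_num) (by norm_num)) Φ)))
  · exact absurd hp5 (by norm_num)

end Cfsg.Agent.N2.L3
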