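import Cfsg.Agent.N2.L3U3.G2
import Cfsg.Agent.N2.L3U3.G3
import Cfsg.Agent.N2.L3U3.Hart
import Cfsg.Agent.H394.SqPsu3
import Cfsg.Agent.H322.Cent.Blocks

/-!
# N2 (S3519), `PSL₃(q)` and `PSU₃(q)`: the boxes `BoxL`, `BoxU` (helper11)
-/

set_option autoImplicit false
set_option maxHeartbeats 400000
set_option linter.unusedSectionVars false

namespace Cfsg.Agent.N2.L3

open Matrix Subgroup
open Cfsg.Agent.H890.B3 (NEA Pres Bloom bloom exists_pres)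

/-- the two lists together -/
theorem lists {F : Type} [Field F] [Fintype F] {p α a q c m D : ℕ} [hp : Fact p.Prime] (hF : Fintype.card F = p ^ α)
    (hN : Nm q c m D) (hq : 3 ≤ q) (ha : q = p ^ a) (hα : α ∣ 2 * a) {H : Type} [Group H] [Nontrivial H] (hH : NEA H)
    (f : H →* ProjectiveSpecialLinearGroup (Fin 3) F) (hf : Function.Injective f) (hD : Nat.card H ∣ D) :
    (∃ (K : Type) (_ : Field K) (_ : Fintype K) (β : ℕ) (L : Subgroup H), Fintype.card K = p ^ β ∧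
      (L.index = 1 ∧ β ∣ α ∨ L.index = 3 ∧ 3 ∣ p ^ β - 1 ∧ 3 * β ∣ α) ∧
        Nonempty (L ≃* ProjectiveSpecialLinearGroup (Fin 3) K)) ∨
    (∃ (K : Type) (_ : Field K) (_ : Fintype K) (β : ℕ) (L : Subgroup H), Fintype.card K = p ^ (2 * β) ∧ 3 ≤ p ^ β ∧
      (L.index = 1 ∧ 2 * β ∣ α ∨ L.index = 3 ∧ 3 ∣ p ^ β + 1 ∧ 6 * β ∣ α) ∧ Nonempty (L ≃* PSU 3 K (p ^ β))) ∨
    Cy H p c D ∨ (p = 5 ∧ Even α ∧ Four H) := by
  obtain ⟨Hh, π, hπ, hsl⟩ := exists_pres f.range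
  have hπ' : Pres Hh ((MonoidHom.ofInjective hf).symm.toMonoidHom.comp π) :=
    ⟨(MonoidHom.ofInjective hf).symm.surjective.comp hπ.surj, fun g =>
      (map_eq_one_iff _ (MonoidHom.ofInjective hf).symm.injective).trans (hπ.ker g)⟩
  have h1 : 1 ≤ α := Nat.pos_of_ne_zero fun e => by
    have := Fintype.one_lt_card (α := F)
    rw [hF, e, pow_zero] at this
    omega
  have h0 : p ∣ q := ha ▸ dvd_pow_self p fun e => by
    rw [e, pow_zero] at ha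
    omega
  have h2 : p ∣ p ^ α := dvd_pow_self p (by omega)
  by_cases c2 : p = 2
  · subst c2
    rcases hartley hF hH hπ' hsl with ⟨K, _, _, β, hK, L, hL⟩ | ⟨K, _, _, β, hK, hβ, L, hL⟩ | ⟨K, _, _, β, hK, hβ, ⟨e⟩⟩ | ⟨⟨e⟩⟩
    · exact Or.inl ⟨K, _, _, β, L, hK, hL⟩
    · exact Or.inr (Or.inl ⟨K, _, _, β, L, hK, le_trans (by norm_num) (Nat.pow_le_pow_right two_pos hβ), hL⟩)
    · exact Or.inr (Or.inr (Or.inl (cy_L2_even hN (by omega) hK hβ e)))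
    · exact Or.inr (Or.inr (Or.inl (cy_A6 hN (by omega) (by norm_num) e)))
  have h3 : ∀ (K : Type) [Field K] [Fintype K] (β : ℕ), Fintype.card K = p ^ (2 * β) → 3 ≤ p ^ β := fun K _ _ β hK => by
    have := Fintype.one_lt_card (α := K)
    have := hp.out.two_le
    refine le_trans (by omega) (Nat.le_self_pow (fun e => ?_) p)
    rw [e] at hK
    simp only [mul_zero, pow_zero] at hK
    omega
  rcases bloom c2 h1 hF hH hπ' hsl with ⟨K, _, _, β, hK, hβ, ⟨e⟩⟩ | ⟨K, _, _, β, hK, hβ, ⟨e⟩⟩ | ⟨K, _, _, β, hK, h4, hβ, L, hL, e⟩ |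
    ⟨K, _, _, β, hK, h4, hβ, L, hL, e⟩ | ⟨K, _, _, β, hK, hβ, h4, e⟩ | ⟨h4, K, _, _, hK, ⟨e⟩⟩ | ⟨h4, K, _, _, hK, ⟨e⟩⟩ |
    ⟨rfl, h4, ⟨⟨e⟩⟩ | ⟨⟨e⟩⟩ | ⟨L, hL, ⟨e⟩⟩⟩ | ⟨h4, ⟨e⟩⟩
  · exact Or.inl ⟨K, _, _, β, ⊤, hK, Or.inl ⟨index_top, hβ⟩, ⟨topEquiv.trans e⟩⟩
  · exact Or.inr (Or.inl ⟨K, _, _, β, ⊤, hK, h3 K β hK, Or.inl ⟨index_top, hβ⟩, ⟨topEquiv.trans e⟩⟩)
  · exact Or.inl ⟨K, _, _, β, L, hK, Or.inr ⟨hL, h4, hβ⟩, e⟩
  · exact Or.inr (Or.inl ⟨K, _, _, β, L, hK, h3 K β hK, Or.inr ⟨hL, h4, hβ⟩, e⟩)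
  · exact Or.inr (Or.inr (Or.inl (cy_L2_odd hN hq hp.out c2 hK h4 ha (hβ.trans hα) hD e)))
  · exact Or.inr (Or.inr (Or.inl (cy_L25 hN hq (by rintro rfl; omega) hK e)))
  · refine Or.inr (Or.inr (Or.inl (cy_L27 hN hq ?_ hK e)))
    rintro rfl
    have := h2.trans (dvd_pow_self _ three_ne_zero)
    omega
  · exact Or.inr (Or.inr (Or.inr ⟨rfl, h4, four_A6 ⊤ (Or.inl index_top) (topEquiv.trans e)⟩))
  · exact Or.inr (Or.inr (Or.inl (cy_A7 hN (by omega) (by norm_num) e)))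
  · exact Or.inr (Or.inr (Or.inr ⟨rfl, h4, four_A6 L (Or.inr hL) e⟩))
  · refine Or.inr (Or.inr (Or.inl (cy_A6 hN (lt_of_le_of_ne hq fun k => ?_) (by rintro rfl; omega) e)))
    obtain rfl := (Nat.prime_dvd_prime_iff_eq hp.out Nat.prime_three).1 (k ▸ h0)
    omega

theorem pow_le_of {p β a k : ℕ} (hp : 0 < p) (ha : a ≠ 0) (h : k * β ∣ a) : (p ^ β) ^ k ≤ p ^ a := by
  rw [← pow_mul, mul_comm]
  exact Nat.pow_le_pow_right hp (Nat.le_of_dvd (Nat.pos_of_ne_zero ha) h)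

theorem sq_le_of {p β a : ℕ} (hp : 0 < p) (ha : a ≠ 0) (h : β ∣ a) (h' : β ≠ a) : (p ^ β) ^ 2 ≤ p ^ a := by
  obtain ⟨k, rfl⟩ := h
  rw [← pow_mul]
  refine Nat.pow_le_pow_right hp (Nat.mul_le_mul_left _ ?_)
  by_contra e
  obtain rfl | rfl : k = 0 ∨ k = 1 := by omega
  · exact ha rfl
  · exact h' (mul_one β).symm

theorem top_of {T X : Type} [Group T] [Group X] [Finite T] {A : Subgroup T} {L : Subgroup A} (hL : L.index = 1) (e : L ≃* X)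
    {d : ℕ} (hd : 0 < d) (h : d * Nat.card X = d * Nat.card T) : A = ⊤ :=
  eq_top_of_card_eq A (by rw [← L.index_mul_card, hL, one_mul, Nat.card_congr e.toEquiv, Nat.eq_of_mul_eq_mul_left hd h])

theorem boxL : BoxL := fun F _ _ p q _ hF hq A h1 h2 hA => by
  obtain ⟨⟨a, a0⟩, hp, ha⟩ := FiniteField.card F p
  have : Fact p.Prime := ⟨hp⟩
  have := (nontrivial_iff_ne_bot A).2 h1
  have hc := H680.Six.psl3_card (F := F)
  have ha' : q = p ^ a := hF.symm.trans ha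
  have hN : Nm q (q ^ 2 + q + 1) (q - 1) (q ^ 3 * (q ^ 2 - 1) * (q ^ 3 - 1)) := Or.inl ⟨rfl, rfl, rfl⟩
  rw [hF, ← mul_assoc] at hc
  rcases lists (α := a) ha hN hq ha' (dvd_mul_left a 2) hA A.subtype A.subtype_injective
    (hc ▸ (card_subgroup_dvd_card A).mul_left _) with ⟨K, _, _, β, L, hK, hL, ⟨e⟩⟩ | ⟨K, _, _, β, L, hK, h3, hL, ⟨e⟩⟩ | h | ⟨rfl, h, h'⟩
  · have := charP_of_card_eq_prime_pow hK
    refine Or.inl (cy_l3 hN hK e (hL.imp (fun k => ⟨k.1, ha' ▸ sq_le_of hp.pos a0.ne' k.2 fun b => h2 ?_⟩)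
      fun k => ⟨k.1, k.2.1, ha' ▸ pow_le_of hp.pos a0.ne' k.2.2⟩))
    have h4 := H680.Six.psl3_card (F := K)
    rw [hK, b, ← ha', ← mul_assoc] at h4
    exact top_of k.1 e (Nat.gcd_pos_of_pos_left _ three_pos) (h4.trans hc.symm)
  · have := charP_of_card_eq_prime_pow hK
    exact Or.inl (cy_u3 hN (hK.trans (pow_mul' _ _ _)) h3 e (hL.imp (fun k => ⟨k.1, ha' ▸ pow_le_of hp.pos a0.ne' k.2⟩)
      fun k => ⟨k.1, k.2.1, ha' ▸ pow_le_of hp.pos a0.ne' ((mul_dvd_mul_right (by norm_num) β).trans k.2.2)⟩))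
  · exact Or.inl h
  · refine Or.inr ⟨rfl, ?_, h'⟩
    obtain ⟨b, hb⟩ := h
    exact ha' ▸ le_trans (by norm_num) (Nat.pow_le_pow_right (by norm_num) (show 2 ≤ a by omega))

theorem mem_centerU {F : Type} [Field F] [Fintype F] {q : ℕ} (hF : Fintype.card F = q ^ 2) (g : SU 3 F q) :
    g ∈ center (SU 3 F q) ↔ g.1 ∈ center (SpecialLinearGroup (Fin 3) F) := by
  refine ⟨fun h => mem_center_iff.2 fun x => Subtype.ext ?_, fun h => mem_center_iff.2 fun x =>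
    Subtype.ext (mem_center_iff.1 h x.1)⟩
  obtain ⟨c, hc⟩ := H322.Cent.scalar_of_centerU hF le_rfl h
  show x.1 * g.1.1 = g.1.1 * x.1
  rw [hc]
  exact (scalar_commute c (Commute.all c) x.1).symm

theorem boxU : BoxU := fun F _ _ p q _ hF hq A h1 h2 hA => by
  obtain ⟨n, hp, hn⟩ := FiniteField.card F p
  have : Fact p.Prime := ⟨hp⟩
  have := (nontrivial_iff_ne_bot A).2 h1
  obtain ⟨a, -, ha⟩ := (Nat.dvd_prime_pow hp).1 ((dvd_pow_self q two_ne_zero).trans (hF.symm.trans hn).dvd)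
  have a0 : a ≠ 0 := fun e => by
    rw [e, pow_zero] at ha
    omega
  have hc := H680.Six.psu3_card hF
  have hN : Nm q ((q + 1) ^ 2) (q + 1) (q ^ 3 * (q ^ 2 - 1) * (q ^ 3 + 1)) := Or.inr ⟨rfl, rfl, rfl⟩
  rw [← mul_assoc] at hc
  let f : PSU 3 F q →* ProjectiveSpecialLinearGroup (Fin 3) F :=
    QuotientGroup.map _ _ (SU 3 F q).subtype fun g hg => (mem_centerU hF g).1 hg
  have hf : Function.Injective f := (injective_iff_map_eq_one _).2 fun x hx => by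
    induction x using QuotientGroup.induction_on
    exact (QuotientGroup.eq_one_iff _).2 ((mem_centerU hF _).2 ((QuotientGroup.eq_one_iff _).1 hx))
  rcases lists (α := 2 * a) (hF.trans (by rw [ha, pow_mul'])) hN hq ha dvd_rfl hA (f.comp A.subtype) (hf.comp A.subtype_injective)
    (hc ▸ (card_subgroup_dvd_card A).mul_left _) with ⟨K, _, _, β, L, hK, -, ⟨e⟩⟩ | ⟨K, _, _, β, L, hK, h3, hL, ⟨e⟩⟩ | h | ⟨rfl, -, h⟩
  · have := charP_of_card_eq_prime_pow hK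
    exact (no_l3 (H394.SqPsu3.ti_psu3 (p := p) hF) ((A.subtype.comp L.subtype).comp e.symm.toMonoidHom)
      ((A.subtype_injective.comp L.subtype_injective).comp e.symm.injective)).elim
  · have := charP_of_card_eq_prime_pow hK
    have hK' := hK.trans (pow_mul' _ _ _)
    refine Or.inl (cy_u3 hN hK' h3 e (hL.imp
      (fun k => ⟨k.1, ha ▸ sq_le_of hp.pos a0 (Nat.dvd_of_mul_dvd_mul_left two_pos k.2) fun b => h2 ?_⟩)
      fun k => ⟨k.1, k.2.1, ha ▸ pow_le_of hp.pos a0 (Nat.dvd_of_mul_dvd_mul_left two_pos (by rw [← mul_assoc]; exact k.2.2))⟩))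
    have h4 := H680.Six.psu3_card hK'
    subst b
    rw [← mul_assoc] at h4
    refine top_of k.1 e (Nat.gcd_pos_of_pos_left (q + 1) three_pos) ?_
    rw [hc, ha, h4]
  · exact Or.inl h
  · exact Or.inr ⟨rfl, h⟩

end Cfsg.Agent.N2.L3
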