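import Cfsg.Agent.N2.L3U3.Defs
import Cfsg.Agent.S2475
import Cfsg.Agent.H368.PGLSpec
import Cfsg.Agent.H860.TS.Base
import Cfsg.Agent.H154.ASix
import Cfsg.Agent.ClassicalGeometry.PSL2Basic

/-!
# N2 (S3519), `PSL₃(q)` and `PSU₃(q)`: cyclic Sylow data for the small subgroups (helper82)
-/

set_option autoImplicit false
set_option linter.unusedSectionVars false

namespace Cfsg.Agent.N2.L3

open Matrix Cfsg.Agent.ClassicalGeometry.PSL2Basic Cfsg.Agent.H860.TS.Base

variable {H : Type} [Group H] {q c m D p : ℕ} {K : Type} [Field K] [Fintype K]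

namespace G2

theorem dat_top {k b s : ℕ} (hp : commutator H = ⊤) {g : H} (hg : orderOf g = k) (hc : Nat.card H = k * b) (hs : s.Prime)
    (h1 : s ∣ k) (h2 : ¬ s ∣ b) : Dat H k s :=
  ⟨g, b, ⊤, hg, hc, hs, h1, h2, perf_congr Subgroup.topEquiv.symm hp, by
    rw [Subgroup.index_top, Nat.dvd_one]; exact hs.ne_one⟩

theorem dat_prime {b s : ℕ} (hp : commutator H = ⊤) (hc : Nat.card H = s * b) (hs : s.Prime) (h2 : ¬ s ∣ b) :
    Dat H s s := by
  have : Fact s.Prime := ⟨hs⟩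
  have : Finite H := Nat.finite_of_card_ne_zero (by
    rw [hc]
    exact mul_ne_zero hs.ne_zero fun h => h2 (h ▸ dvd_zero s))
  obtain ⟨g, hg⟩ := exists_prime_orderOf_dvd_card' (G := H) s ⟨b, hc⟩
  exact dat_top hp hg hc hs dvd_rfl h2

theorem cy_prime {b s x y : ℕ} (h : Nm q c m D) (hp : commutator H = ⊤) (hc : Nat.card H = s * b) (hs : s.Prime)
    (h2 : ¬ s ∣ b) (h3 : s ≠ 3) (h4 : p ≠ s) (hx : 0 < x) (h5 : x * c ^ 3 ≤ y * D) (h6 : y * (s * b) ≤ x * s ^ 3) :
    Cy H p c D := ⟨s, s, dat_prime hp hc hs h2, h4.symm, Or.inl ⟨h3, hc ▸ h.cmp hx h5 h6⟩⟩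

theorem card_alt {n : ℕ} [Nontrivial (Fin n)] (e : H ≃* alternatingGroup (Fin n)) : Nat.card H = n.factorial / 2 := by
  rw [Nat.card_congr e.toEquiv, nat_card_alternatingGroup, Nat.card_eq_fintype_card, Fintype.card_fin]

theorem perf_alt {n : ℕ} (hn : 5 ≤ n) (e : H ≃* alternatingGroup (Fin n)) : commutator H = ⊤ :=
  perf_congr e.symm (commutator_alternatingGroup_eq_top (by simpa using hn))

theorem card_psl {l : ℕ} (hK : Fintype.card K = 2 * l + 1) :
    Nat.card (ProjectiveSpecialLinearGroup (Fin 2) K) = 2 * l * (l + 1) * (2 * l + 1) := by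
  have h := card_PSL2_odd K ⟨l, hK⟩
  rw [hK, show (2 * l + 1) ^ 2 - 1 = 2 * l * (l + 1) * 2 from Nat.sub_eq_of_eq_add (by ring)] at h
  exact Nat.eq_of_mul_eq_mul_right two_pos (h.trans (by ring))

theorem card_pgl {l : ℕ} (hK : Fintype.card K = 2 * l + 1) :
    Nat.card (GL (Fin 2) K ⧸ Subgroup.center (GL (Fin 2) K)) = 2 * l * (l + 1) * (2 * l + 1) * 2 := by
  have h := card_PGL2 K
  rw [hK, show (2 * l + 1) ^ 2 - 1 = 2 * l * (l + 1) * 2 from Nat.sub_eq_of_eq_add (by ring)] at h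
  exact h.trans (by ring)

theorem ord_psl (h4 : 4 ≤ Fintype.card K) {k : ℕ}
    (hk : k = (Fintype.card K - 1) / Nat.gcd 2 (Fintype.card K - 1) ∨
      k = (Fintype.card K + 1) / Nat.gcd 2 (Fintype.card K - 1)) :
    ∃ g : ProjectiveSpecialLinearGroup (Fin 2) K, orderOf g = k := by
  have : Fact (ringChar K).Prime := ⟨CharP.char_is_prime K _⟩
  have h := Cfsg.Agent.S2475.result (F := K) (ringChar K) h4
  refine (Set.ext_iff.1 h k).2 ?_
  rcases hk with rfl | rfl
  exacts [Or.inr (Or.inl dvd_rfl), Or.inr (Or.inr dvd_rfl)]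

/-- the two tori -/
theorem tor {l : ℕ} (hl : 2 ≤ l) : ∃ k b s : ℕ, (k = l ∨ k = l + 1) ∧ 2 * l * (l + 1) * (2 * l + 1) = k * b ∧ s.Prime ∧
    s ∣ k ∧ ¬ s ∣ b ∧ s ≠ 2 ∧ 2 * l + 1 ∣ b ∧ 3 * (k * b) ≤ 21 * k ^ 3 ∧ (l = 2 → k = 3) := by
  have odd : ∀ k : ℕ, k % 2 = 1 → k.minFac ≠ 2 := fun k hk h => by
    have := Nat.minFac_dvd k
    rw [h] at this
    omega
  rcases Nat.mod_two_eq_zero_or_one l with h | h
  · have hs := Nat.minFac_prime (show l + 1 ≠ 1 by omega)
    have h1 := Nat.minFac_dvd (l + 1)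
    have h2 := odd (l + 1) (by omega)
    refine ⟨l + 1, 2 * l * (2 * l + 1), _, Or.inr rfl, by ring, hs, h1, fun h3 => ?_, h2, Dvd.intro_left _ rfl, by
      nlinarith [Nat.zero_le (l ^ 3), Nat.zero_le (l ^ 2)], fun h => by rw [h]⟩
    rcases hs.dvd_mul.1 h3 with h3 | h3
    · rcases hs.dvd_mul.1 h3 with h3 | h3
      · exact h2 ((Nat.prime_dvd_prime_iff_eq hs Nat.prime_two).1 h3)
      · exact hs.not_dvd_one ((Nat.dvd_add_right h3).1 h1)
    · have h4 : (l + 1).minFac ∣ 2 * l + 1 + 1 := by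
        rw [show 2 * l + 1 + 1 = 2 * (l + 1) by ring]
        exact h1.mul_left 2
      exact hs.not_dvd_one ((Nat.dvd_add_right h3).1 h4)
  · have hs := Nat.minFac_prime (show l ≠ 1 by omega)
    have h1 := Nat.minFac_dvd l
    have h2 := odd l h
    refine ⟨l, 2 * (l + 1) * (2 * l + 1), _, Or.inl rfl, by ring, hs, h1, fun h3 => ?_, h2, Dvd.intro_left _ rfl, ?_,
      fun h => by omega⟩
    · rcases hs.dvd_mul.1 h3 with h3 | h3
      · rcases hs.dvd_mul.1 h3 with h3 | h3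
        · exact h2 ((Nat.prime_dvd_prime_iff_eq hs Nat.prime_two).1 h3)
        · exact hs.not_dvd_one ((Nat.dvd_add_right h1).1 h3)
      · exact hs.not_dvd_one ((Nat.dvd_add_right (h1.mul_left 2)).1 h3)
    · obtain ⟨j, rfl⟩ : ∃ j, l = j + 3 := ⟨l - 3, by omega⟩
      nlinarith [Nat.zero_le (j ^ 3), Nat.zero_le (j ^ 2)]

theorem dat_odd {l : ℕ} (hl : 2 ≤ l) (hK : Fintype.card K = 2 * l + 1)
    (e : Nonempty (H ≃* ProjectiveSpecialLinearGroup (Fin 2) K) ∨
      Nonempty (H ≃* GL (Fin 2) K ⧸ Subgroup.center (GL (Fin 2) K))) :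
    ∃ k s, Dat H k s ∧ ¬ s ∣ 2 * l + 1 ∧ 3 * Nat.card H ≤ 21 * k ^ 3 ∧ (l = 2 → 3 * Nat.card H ≤ 8 * k ^ 3) ∧
      l * (l + 1) ∣ Nat.card H := by
  obtain ⟨k, b, s, hk, hb, hs, h1, h2, h3, h4, h5, h6⟩ := tor hl
  have h7 : l * (l + 1) ∣ k * b := ⟨2 * (2 * l + 1), by rw [← hb]; ring⟩
  have h8 : l = 2 → k * b = 60 := fun h => by rw [← hb, h]
  have hp := psl_perfect (F := K) (by omega)
  rcases e with ⟨⟨e⟩⟩ | ⟨⟨e⟩⟩
  · have hc := (card_psl hK).trans hb
    obtain ⟨g, hg⟩ := ord_psl (K := K) (by omega) (k := k) (by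
      rw [hK, Nat.add_sub_cancel, Nat.gcd_mul_right_right]
      omega)
    rw [Nat.card_congr e.toEquiv, hc]
    exact ⟨k, s, (dat_top hp hg hc hs h1 h2).congr e, fun h => h2 (h.trans h4), h5, fun h => by
      rw [h8 h, h6 h]; norm_num, h7⟩
  · have hc := card_pgl hK
    have : Fact (ringChar K).Prime := ⟨CharP.char_is_prime K _⟩
    obtain ⟨g, hg⟩ : ∃ g : GL (Fin 2) K, orderOf (H368.PGLSpec.pr K g) = 2 * k := by
      rcases hk with rfl | rfl
      · exact (H368.PGLSpec.exists_sub (F := K)).imp fun g hg => by rw [hg, hK, Nat.add_sub_cancel]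
      · exact (H368.PGLSpec.exists_add (F := K) (ringChar K)).imp fun g hg => by rw [hg, hK]; ring
    let f : ProjectiveSpecialLinearGroup (Fin 2) K →* GL (Fin 2) K ⧸ Subgroup.center (GL (Fin 2) K) :=
      ProjectiveSpecialLinearGroup.toPGL
    have hf : Function.Injective f := ProjectiveSpecialLinearGroup.toPGL_injective
    have hi : f.range.index = 2 := by
      have h9 := f.range.card_mul_index
      rw [← Nat.card_congr (MonoidHom.ofInjective hf).toEquiv, card_psl hK, hc] at h9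
      exact Nat.eq_of_mul_eq_mul_left (by positivity) h9
    rw [hb] at hc
    rw [Nat.card_congr e.toEquiv, hc]
    refine ⟨2 * k, s, Dat.congr e ⟨_, b, f.range, hg, hc.trans (by ring), hs, h1.mul_left 2, h2,
      perf_congr (MonoidHom.ofInjective hf) hp, fun h => h3 ?_⟩, fun h => h2 (h.trans h4), by rw [mul_pow]; omega,
      fun h => by rw [h8 h, h6 h]; norm_num, h7.mul_right 2⟩
    rw [hi] at h
    exact (Nat.prime_dvd_prime_iff_eq hs Nat.prime_two).1 h

/-- an element of order four -/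
def a4 : alternatingGroup (Fin 6) := ⟨c[0, 1, 2, 3] * c[4, 5], Equiv.Perm.mem_alternatingGroup.2 (by decide)⟩

/-- an involution which inverts it -/
def n2 : alternatingGroup (Fin 6) := ⟨c[0, 2] * c[4, 5], Equiv.Perm.mem_alternatingGroup.2 (by decide)⟩

end G2

open G2

theorem cy_A5 (h : Nm q c m D) (hq : 3 ≤ q) (hp : p ≠ 5) (e : H ≃* alternatingGroup (Fin 5)) : Cy H p c D :=
  cy_prime (b := 12) h (perf_alt le_rfl e) (card_alt e) (by norm_num) (by norm_num) (by norm_num) hp (by norm_num) (h.r3 hq)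
    (by norm_num)

theorem cy_L25 (h : Nm q c m D) (hq : 3 ≤ q) (hp : p ≠ 5) (hK : Fintype.card K = 5)
    (e : H ≃* ProjectiveSpecialLinearGroup (Fin 2) K) : Cy H p c D :=
  cy_prime (b := 12) h (perf_congr e.symm (psl_perfect (by omega))) ((Nat.card_congr e.toEquiv).trans (card_psl (l := 2) hK))
    (by norm_num) (by norm_num) (by norm_num) hp (by norm_num) (h.r3 hq) (by norm_num)

theorem cy_L27 (h : Nm q c m D) (hq : 3 ≤ q) (hp : p ≠ 7) (hK : Fintype.card K = 7)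
    (e : H ≃* ProjectiveSpecialLinearGroup (Fin 2) K) : Cy H p c D :=
  cy_prime (b := 24) h (perf_congr e.symm (psl_perfect (by omega))) ((Nat.card_congr e.toEquiv).trans (card_psl (l := 3) hK))
    (by norm_num) (by norm_num) (by norm_num) hp (by norm_num) (h.r3 hq) (by norm_num)

theorem cy_A6 (h : Nm q c m D) (hq : 4 ≤ q) (hp : p ≠ 5) (e : H ≃* alternatingGroup (Fin 6)) : Cy H p c D :=
  cy_prime (b := 72) h (perf_alt (by norm_num) e) (card_alt e) (by norm_num) (by norm_num) (by norm_num) hp (by norm_num)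
    (h.r4 hq) (by norm_num)

theorem cy_A7 (h : Nm q c m D) (hq : 5 ≤ q) (hp : p ≠ 7) (e : H ≃* alternatingGroup (Fin 7)) : Cy H p c D :=
  cy_prime (b := 360) (y := 1) h (perf_alt (by norm_num) e) (card_alt e) (by norm_num) (by norm_num) (by norm_num) hp
    (by norm_num : 0 < 8) (by rw [one_mul]; exact h.r5 hq) (by norm_num)

theorem cy_L2_even (h : Nm q c m D) (hq : 4 ≤ q) {b : ℕ} (hK : Fintype.card K = 2 ^ b) (hb : 2 ≤ b)
    (e : H ≃* ProjectiveSpecialLinearGroup (Fin 2) K) : Cy H 2 c D := by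
  obtain ⟨l, hl, h4⟩ : ∃ l, Fintype.card K = 2 * l + 2 ∧ 1 ≤ l := by
    obtain ⟨j, rfl⟩ := Nat.exists_eq_add_of_le' hb
    have := Nat.one_le_two_pow (n := j)
    exact ⟨2 * 2 ^ j - 1, by rw [hK, pow_add]; omega, by omega⟩
  have hc : Nat.card (ProjectiveSpecialLinearGroup (Fin 2) K) = (2 * l + 3) * ((2 * l + 2) * (2 * l + 1)) := by
    rw [card_PSL2_even K ⟨l + 1, by omega⟩, hl,
      show (2 * l + 2) ^ 2 - 1 = (2 * l + 3) * (2 * l + 1) from Nat.sub_eq_of_eq_add (by ring)]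
    ring
  obtain ⟨g, hg⟩ := ord_psl (K := K) (by omega) (k := 2 * l + 3) (Or.inr (by
    rw [hl, show 2 * l + 2 - 1 = 1 + 2 * l by omega, Nat.gcd_add_mul_left_right]
    simp))
  have hs := Nat.minFac_prime (show 2 * l + 3 ≠ 1 by omega)
  have h1 := Nat.minFac_dvd (2 * l + 3)
  have h2 : (2 * l + 3).minFac ≠ 2 := fun h => by
    rw [h] at h1
    omega
  refine ⟨_, _, (dat_top (psl_perfect (by omega)) hg hc hs h1 fun h3 => ?_).congr e, h2, Or.inr ?_⟩
  · rcases hs.dvd_mul.1 h3 with h3 | h3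
    · exact hs.not_dvd_one ((Nat.dvd_add_right h3).1 h1)
    · exact h2 ((Nat.prime_dvd_prime_iff_eq hs Nat.prime_two).1 ((Nat.dvd_add_right h3).1 h1))
  · rw [Nat.card_congr e.toEquiv, hc, mul_left_comm]
    exact h.cmp (x := 39) (by norm_num) (h.r4 hq) (by nlinarith [Nat.zero_le (l ^ 3), Nat.zero_le (l ^ 2)])

theorem cy_L2_odd (h : Nm q c m D) (hq : 3 ≤ q) (hp : p.Prime) (h2 : p ≠ 2) {a b : ℕ} (hK : Fintype.card K = p ^ b)
    (h3 : p ^ b ≠ 3) (ha : q = p ^ a) (hb : b ∣ 2 * a) (hD : Nat.card H ∣ D)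
    (e : Nonempty (H ≃* ProjectiveSpecialLinearGroup (Fin 2) K) ∨
      Nonempty (H ≃* GL (Fin 2) K ⧸ Subgroup.center (GL (Fin 2) K))) : Cy H p c D := by
  obtain ⟨l, hl⟩ : Odd (p ^ b) := (hp.odd_of_ne_two h2).pow
  have h1 : 1 < Fintype.card K := Fintype.one_lt_card
  have hb0 : b ≠ 0 := by
    rintro rfl
    rw [hK, pow_zero] at h1
    omega
  obtain ⟨k, s, h4, h5, h6, h7, h8⟩ := dat_odd (l := l) (by omega) (hK.trans hl) e
  refine ⟨k, s, h4, fun h9 => h5 (by rw [h9, ← hl]; exact dvd_pow_self p hb0), Or.inr ?_⟩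
  rw [mul_left_comm]
  rcases Nat.lt_or_ge q 7 with h9 | h9
  swap
  · exact h.cmp (x := 21) (y := 1) (by norm_num) (by rw [one_mul]; exact h.r7 h9) (by rwa [one_mul])
  have ha0 : a ≠ 0 := by
    rintro rfl
    rw [pow_zero] at ha
    omega
  have hp3 : 3 ≤ p := by have := hp.two_le; omega
  obtain rfl : a = 1 := by
    by_contra h10
    have : 3 ^ 2 ≤ p ^ a := (Nat.pow_le_pow_left hp3 2).trans (Nat.pow_le_pow_right hp.pos (by omega))
    omega
  rw [pow_one] at ha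
  subst ha
  have h10 := h8.trans hD
  have h11 : b = 1 ∨ b = 2 := (Nat.dvd_prime Nat.prime_two).1 hb
  obtain rfl | rfl : q = 3 ∨ q = 5 := by
    have := hp.eq_two_or_odd
    omega
  · rcases h11 with rfl | rfl
    · exact absurd rfl h3
    · obtain rfl : l = 4 := by omega
      rcases h with ⟨-, -, rfl⟩ | ⟨-, -, rfl⟩ <;> norm_num at h10
  · rcases h11 with rfl | rfl
    · exact h.cmp (x := 8) (y := 1) (by norm_num) (by rw [one_mul]; exact h.r5 le_rfl) (by rw [one_mul]; exact h7 (by omega))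
    · obtain rfl : l = 12 := by omega
      rcases h with ⟨-, -, rfl⟩ | ⟨-, -, rfl⟩ <;> norm_num at h10

theorem four_A6 (L : Subgroup H) (hL : L.index = 1 ∨ L.index = 2) (e : L ≃* alternatingGroup (Fin 6)) : Four H := by
  let f : alternatingGroup (Fin 6) →* H := L.subtype.comp e.symm.toMonoidHom
  have hf : Function.Injective f := L.subtype_injective.comp e.symm.injective
  have h1 : orderOf a4 = 2 ^ (1 + 1) := orderOf_eq_prime_pow (by decide) (by decide)
  have h2 : orderOf n2 = 2 := orderOf_eq_prime (by decide) (by decide)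
  refine ⟨?_, f a4, f n2, f n2, by rw [orderOf_injective f hf, h1]; rfl, ?_, by rw [orderOf_injective f hf, h2], ?_, ?_,
    fun x hx => ?_⟩
  · rw [← L.card_mul_index, card_alt e]
    rcases hL with h | h <;> rw [h] <;> decide
  · rw [← map_inv, ← map_mul, ← map_mul, ← map_inv]
    exact congrArg f (by decide)
  · rw [← map_pow]
    exact fun h => absurd (hf h) (by decide)
  · rw [← map_pow, ← map_mul, ← map_mul]
    exact congrArg f (by decide)
  · have h3 : x ^ 2 ∈ L := hL.elim (fun h => by rw [Subgroup.index_eq_one.1 h]; trivial) fun h =>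
      Subgroup.sq_mem_of_index_two h x
    have h4 : f (e ⟨_, h3⟩) = x ^ 2 := congrArg Subtype.val (e.symm_apply_apply ⟨_, h3⟩)
    rw [← map_pow, ← h4]
    refine f.map_isConj ((H154.ASix.isConj_t0 _ (by decide) (by decide)).symm.trans
      (H154.ASix.isConj_t0 _ (fun h => ?_) (hf ?_)))
    · rw [h, map_one] at h4
      have := orderOf_dvd_of_pow_eq_one h4.symm
      rw [hx] at this
      omega
    · rw [map_mul, h4, map_one, ← pow_add, ← pow_orderOf_eq_one x, hx]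

end Cfsg.Agent.N2.L3
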