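import Cfsg.Agent.N2.L3U3.Ab2

/-!
# N2 (S3519), `PSL₃(q)` and `PSU₃(q)`: counting in the normaliser of a self-centralising group of order nine (helper11)
-/

set_option autoImplicit false
set_option maxHeartbeats 400000
set_option linter.unusedSectionVars false

namespace Cfsg.Agent.N2.L3

open Subgroup Cfsg.Agent.FP3

variable {T : Type} [Group T] [Finite T]

/-- the abstract setting -/
structure Hs (A E : Subgroup T) : Prop where
  le : E ≤ A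
  nrm : ∀ a ∈ A, ∀ e ∈ E, a * e * a⁻¹ ∈ E
  comm : ∀ a ∈ E, ∀ b ∈ E, a * b = b * a
  cube : ∀ a ∈ E, a ^ 3 = 1
  ex : ∀ x ∈ E, ∃ y ∈ E, y ∉ zpowers x
  cen : ∀ x ∈ E, x ≠ 1 → ∀ y ∈ E, y ∉ zpowers x → ∀ g, g * x = x * g → g * y = y * g → ∃ a b : ℕ, g = x ^ a * y ^ b
  form : ∀ x ∈ E, x ≠ 1 → ∀ h ∈ A, h * x = x * h → ∀ y ∈ E, h * y * h⁻¹ * y⁻¹ ∈ zpowers x

theorem zp3 {x c : T} (hx : x ^ 3 = 1) (h : c ∈ zpowers x) : c = 1 ∨ c = x ∨ c = x ^ 2 := by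
  obtain ⟨n, rfl⟩ := mem_powers_iff_mem_zpowers.2 h
  have e : x ^ n = x ^ (n % 3) := pow_eq_pow_mod n hx
  have k := Nat.mod_lt n three_pos
  simp only [e]
  generalize n % 3 = j at k
  interval_cases j <;> simp

theorem sq_inv {x : T} (hx : x ^ 3 = 1) : (x ^ 2) ^ 2 = x := by rw [← pow_mul, show 2 * 2 = 3 + 1 from rfl, pow_succ, hx, one_mul]

namespace Hs

variable {A E : Subgroup T} (h : Hs A E)
include h

theorem ord {x : T} (hx : x ∈ E) (h1 : x ≠ 1) : orderOf x = 3 := orderOf_eq_prime (h.cube x hx) h1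

theorem cen_le {x y g : T} (hx : x ∈ E) (h1 : x ≠ 1) (hy : y ∈ E) (h2 : y ∉ zpowers x) (e1 : g * x = x * g)
    (e2 : g * y = y * g) : g ∈ E := by
  obtain ⟨a, b, rfl⟩ := h.cen x hx h1 y hy h2 g e1 e2
  exact mul_mem (pow_mem hx a) (pow_mem hy b)

theorem card_E : Nat.card E = 9 := by
  obtain ⟨x, hx, h1⟩ := h.ex 1 (one_mem _)
  replace h1 : x ≠ 1 := fun e => h1 (by simp [e])
  obtain ⟨y, hy, h2⟩ := h.ex x hx
  have e1 : Nat.card E ≤ 9 := by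
    refine (Nat.card_le_card_of_surjective (fun a : Fin 3 × Fin 3 => (⟨x ^ a.1.1 * y ^ a.2.1,
      mul_mem (pow_mem hx _) (pow_mem hy _)⟩ : E)) fun e => ?_).trans (by simp)
    obtain ⟨a, b, e1⟩ := h.cen x hx h1 y hy h2 e (h.comm _ e.2 _ hx) (h.comm _ e.2 _ hy)
    exact ⟨(⟨a % 3, Nat.mod_lt _ three_pos⟩, ⟨b % 3, Nat.mod_lt _ three_pos⟩), Subtype.ext (by
      rw [e1, pow_eq_pow_mod a (h.cube x hx), pow_eq_pow_mod b (h.cube y hy)])⟩
  have e2 : IsPGroup 3 E := fun e => ⟨1, Subtype.ext (by simpa using h.cube e e.2)⟩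
  obtain ⟨n, hn⟩ := IsPGroup.iff_card.1 e2
  have e3 : Nat.card (zpowers x) < Nat.card E := by
    refine lt_of_le_of_ne (card_le_of_le (zpowers_le.2 hx)) fun e => h2 ?_
    rwa [eq_of_le_of_card_ge (zpowers_le.2 hx) e.ge]
  rw [Nat.card_zpowers, h.ord hx h1] at e3
  rw [hn] at e1 e3 ⊢
  rcases n with _ | _ | _ | n <;> omega

theorem card_ne : Nat.card {e : T // e ∈ E ∧ e ≠ 1} = 8 := by
  have e1 := card_split fun e : E => e.1 ≠ 1
  have e2 : Nat.card {e : E // ¬ e.1 ≠ 1} = 1 :=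
    Nat.card_eq_one_iff_exists.2 ⟨⟨1, by simp⟩, fun e => Subtype.ext (Subtype.ext (not_not.1 e.2))⟩
  rw [h.card_E, e2, Nat.card_congr (Equiv.subtypeSubtypeEquivSubtypeInter (· ∈ E) (· ≠ 1))] at e1
  omega

theorem card_C {x : T} (hx : x ∈ E) (h1 : x ≠ 1) : Nat.card ↥(centralizer {x} ⊓ A) ≤ 27 := by
  obtain ⟨y, hy, h2⟩ := h.ex x hx
  have c : ∀ g : ↥(centralizer {x} ⊓ A), g.1 * x = x * g := fun g => mem_centralizer_singleton_iff.1 g.2.1
  have e := card_le_two (β := zpowers x) (γ := E) (fun g : ↥(centralizer {x} ⊓ A) => ⟨_, h.form x hx h1 g g.2.2 (c g) y hy⟩)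
    (fun a b e => ⟨a.1⁻¹ * b, h.cen_le hx h1 hy h2 (c (a⁻¹ * b)) (by
      have e1 := mul_right_cancel (Subtype.mk.inj e)
      calc a.1⁻¹ * b * y = a.1⁻¹ * (b * y * b.1⁻¹) * b := by group
        _ = y * (a.1⁻¹ * b) := by rw [e1]; group)⟩)
    fun a b d _ _ e => Subtype.ext (mul_left_cancel (Subtype.mk.inj e))
  rwa [Nat.card_zpowers, h.ord hx h1, h.card_E] at e

theorem card_out {x : T} (hx : x ∈ E) (h1 : x ≠ 1) : Nat.card {g : T // (g * x = x * g ∧ g ∈ A) ∧ g ∉ E} ≤ 18 := by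
  have e1 := card_split fun g : ↥(centralizer {x} ⊓ A) => g.1 ∈ E
  have e2 : Nat.card E ≤ Nat.card {g : ↥(centralizer {x} ⊓ A) // g.1 ∈ E} :=
    Nat.card_le_card_of_injective (fun e => ⟨⟨e, mem_centralizer_singleton_iff.2 (h.comm _ e.2 _ hx), h.le e.2⟩, e.2⟩)
      fun a b e => Subtype.ext (congrArg (·.1.1) e)
  have e3 : Nat.card {g : T // (g * x = x * g ∧ g ∈ A) ∧ g ∉ E} ≤ Nat.card {g : ↥(centralizer {x} ⊓ A) // ¬ g.1 ∈ E} :=
    Nat.card_le_card_of_injective (fun g => ⟨⟨g, mem_centralizer_singleton_iff.2 g.2.1.1, g.2.1.2⟩, g.2.2⟩)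
      fun a b e => Subtype.ext (congrArg (·.1.1) e)
  have e4 := h.card_C hx h1
  rw [h.card_E] at e2
  omega

theorem fix {g : T} (hg : g ∈ A) (h3 : g ^ 3 = 1) : ∃ e ∈ E, e ≠ 1 ∧ g * e = e * g := by
  classical
  have := Fintype.ofFinite E
  let σ : Equiv.Perm E := Equiv.Perm.subtypePerm (MulAut.conj g).toEquiv fun e =>
    ⟨fun k => by simpa [mul_assoc] using h.nrm _ (inv_mem hg) _ k, h.nrm g hg e⟩
  obtain ⟨b, h1, h2⟩ := Equiv.Perm.exists_fixed_point_of_prime' (p := 3) (n := 1) (σ := σ)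
    (by rw [← Nat.card_eq_fintype_card, h.card_E]; norm_num) (Equiv.ext fun e => Subtype.ext (by
      show g * (g * (g * e * g⁻¹) * g⁻¹) * g⁻¹ = e
      calc _ = g ^ 3 * e * (g ^ 3)⁻¹ := by simp only [pow_three, mul_assoc, mul_inv_rev]
        _ = _ := by simp [h3])) (a := 1) (Subtype.ext (by simp [σ]))
  exact ⟨b, b.2, fun e => h2 (Subtype.ext e), mul_inv_eq_iff_eq_mul.1 (congrArg Subtype.val h1)⟩

theorem cc_E {x : T} (h1 : x ≠ 1) : Nat.card {g : {g : T // IsConj x g ∧ g ∈ A} // g.1 ∈ E} ≤ 8 :=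
  (Nat.card_le_card_of_injective (fun g => (⟨g.1.1, g.2, fun e => h1 (isConj_one_left.1 (e ▸ g.1.2.1))⟩ :
    {e : T // e ∈ E ∧ e ≠ 1})) fun _ _ e => Subtype.ext (Subtype.ext (congrArg (·.1) e))).trans h.card_ne.le

theorem cc_le8 {x : T} (hx : x ∈ E) (h1 : x ≠ 1) (k : ∀ e ∈ E, e ≠ 1 → ∀ g ∈ A, g * e = e * g → g ∈ E) : cc A x ≤ 8 := by
  refine (Nat.card_congr (Equiv.subtypeUnivEquiv fun g => ?_).symm).trans_le (h.cc_E h1)
  obtain ⟨e, e1, e2, e3⟩ := h.fix g.2.2 (isConj_one_right.1 (h.cube x hx ▸ g.2.1.pow 3))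
  exact k e e1 e2 _ g.2.2 e3

theorem cc_le79 {x t : T} (hx : x ∈ E) (h1 : x ≠ 1) (t1 : t ∈ A) (t2 : t * x = x * t) (t3 : t ∉ E) (t4 : ¬ IsConj x t) :
    cc A x ≤ 79 := by
  choose e e1 e2 e3 using fun g : {g : {g : T // IsConj x g ∧ g ∈ A} // ¬ g.1 ∈ E} =>
    h.fix g.1.2.2 (isConj_one_right.1 (h.cube x hx ▸ g.1.2.1.pow 3))
  let P := Σ u : {u : T // u ∈ E ∧ u ≠ 1}, {g : T // (g * u = u * g ∧ g ∈ A) ∧ g ∉ E}
  have p1 : Nat.card P ≤ 8 * 18 := by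
    have := Fintype.ofFinite {u : T // u ∈ E ∧ u ≠ 1}
    rw [Nat.card_sigma]
    refine (Finset.sum_le_card_nsmul _ _ 18 fun u _ => h.card_out u.2.1 u.2.2).trans ?_
    rw [Finset.card_univ, ← Nat.card_eq_fintype_card, h.card_ne]
    rfl
  let f : Option ({g : {g : T // IsConj x g ∧ g ∈ A} // ¬ g.1 ∈ E} × Bool) → P := fun a => match a with
    | none => ⟨⟨x, hx, h1⟩, t, ⟨t2, t1⟩, t3⟩
    | some (g, true) => ⟨⟨e g, e1 g, e2 g⟩, g.1.1, ⟨e3 g, g.1.2.2⟩, g.2⟩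
    | some (g, false) => ⟨⟨(e g)⁻¹, inv_mem (e1 g), inv_ne_one.2 (e2 g)⟩, g.1.1, ⟨Commute.inv_right (e3 g), g.1.2.2⟩, g.2⟩
  have ne : ∀ g, e g ≠ (e g)⁻¹ := fun g k => e2 g (by
    have := h.cube _ (e1 g)
    rwa [pow_succ, pow_two, eq_inv_iff_mul_eq_one.1 k, one_mul] at this)
  have hf : Function.Injective f := by
    rintro (_ | ⟨a, i⟩) (_ | ⟨b, j⟩) k
    · rfl
    · exact absurd ((show t = b.1.1 by cases j <;> exact congrArg (·.2.1) k) ▸ b.1.2.1) t4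
    · exact absurd ((show t = a.1.1 by cases i <;> exact congrArg (·.2.1) k.symm) ▸ a.1.2.1) t4
    · obtain rfl : a = b := Subtype.ext (Subtype.ext (by cases i <;> cases j <;> exact congrArg (·.2.1) k))
      cases i <;> cases j
      exacts [rfl, absurd (congrArg (·.1.1) k.symm) (ne a), absurd (congrArg (·.1.1) k) (ne a), rfl]
  have p2 := (Nat.card_le_card_of_injective f hf).trans p1
  have p3 := card_split fun g : {g : T // IsConj x g ∧ g ∈ A} => g.1 ∈ E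
  have p4 := h.cc_E (x := x) h1
  rw [Finite.card_option, Nat.card_prod, show Nat.card Bool = 2 by simp] at p2
  rw [cc]
  omega

theorem step {u t v : T} (hu : u ∈ E) (h1 : u ≠ 1) (t1 : t ∈ A) (t2 : t * u = u * t) (t3 : t ∉ E) (hv : v ∈ E)
    (h2 : v ∉ zpowers u) (k : ℕ) : ∃ a ∈ A, a * v * a⁻¹ = u ^ k * v := by
  have c1 := h.form u hu h1 t t1 t2 v hv
  have c2 : Commute t (t * v * t⁻¹ * v⁻¹) := by
    obtain ⟨n, hn⟩ := c1
    exact hn ▸ Commute.zpow_right t2 n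
  have c3 : ∀ n : ℕ, t ^ n * v * (t ^ n)⁻¹ = (t * v * t⁻¹ * v⁻¹) ^ n * v := fun n => by
    induction n with
    | zero => simp
    | succ n ih =>
      calc t ^ (n + 1) * v * (t ^ (n + 1))⁻¹ = t * (t ^ n * v * (t ^ n)⁻¹) * t⁻¹ := by group
        _ = (t * v * t⁻¹ * v⁻¹) ^ n * (t * v * t⁻¹ * v⁻¹) * v := by
          rw [ih, ← mul_assoc, (c2.pow_right n).eq]
          group
        _ = _ := by rw [pow_succ]
  rcases zp3 (h.cube u hu) c1 with e | e | e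
  · exact absurd (h.cen_le hu h1 hv h2 t2 (by rwa [mul_inv_eq_one, mul_inv_eq_iff_eq_mul] at e)) t3
  · exact ⟨t ^ k, pow_mem t1 k, by rw [c3, e]⟩
  · exact ⟨t ^ (2 * k), pow_mem t1 _, by rw [c3, e, pow_mul, sq_inv (h.cube u hu)]⟩

theorem card27 {x t : T} (hx : x ∈ E) (h1 : x ≠ 1) (t1 : t ∈ A) (t2 : t * x = x * t) (t3 : t ∉ E) :
    Nat.card ↥(centralizer {x} ⊓ A) = 27 := by
  have e0 : E ≤ centralizer {x} ⊓ A := fun e he => ⟨mem_centralizer_singleton_iff.2 (h.comm _ he _ hx), h.le he⟩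
  have e1 := rel_card E (centralizer {x} ⊓ A)
  have e2 := h.card_C hx h1
  have t0 : t ∈ centralizer {x} ⊓ A := ⟨mem_centralizer_singleton_iff.2 t2, t1⟩
  rw [inf_eq_left.2 e0, h.card_E] at e1
  have e3 : E.relIndex (centralizer {x} ⊓ A) ≠ 1 := fun e => t3 (relIndex_eq_one.1 e t0)
  have e4 : E.relIndex (centralizer {x} ⊓ A) ≠ 0 := index_ne_zero_of_finite
  have e5 : E.relIndex (centralizer {x} ⊓ A) ≠ 2 := fun e => by
    obtain ⟨y, hy, h2⟩ := h.ex x hx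
    have e6 : t ^ 2 ∈ E := sq_mem_of_index_two e ⟨t, t0⟩
    have e7 := h.comm _ e6 _ hy
    have c1 := h.form x hx h1 t t1 t2 y hy
    have c2 : Commute t (t * y * t⁻¹ * y⁻¹) := by
      obtain ⟨n, hn⟩ := c1
      exact hn ▸ Commute.zpow_right t2 n
    have c3 : (t * y * t⁻¹ * y⁻¹) ^ 2 = 1 :=
      calc _ = (t * y * t⁻¹ * y⁻¹) * t * y * t⁻¹ * y⁻¹ := by simp only [pow_two, mul_assoc]
        _ = t ^ 2 * y * (t ^ 2)⁻¹ * y⁻¹ := by rw [← c2.eq]; simp only [pow_two, mul_assoc, mul_inv_rev, inv_mul_cancel_left]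
        _ = 1 := by rw [e7]; group
    have c4 := h.cube _ (zpowers_le.2 hx c1)
    rw [pow_succ, c3, one_mul, mul_inv_eq_one, mul_inv_eq_iff_eq_mul] at c4
    exact t3 (h.cen_le hx h1 hy h2 t2 c4)
  omega

theorem card216 {x y t s : T} (hx : x ∈ E) (h1 : x ≠ 1) (t1 : t ∈ A) (t2 : t * x = x * t) (t3 : t ∉ E) (hy : y ∈ E)
    (h2 : y ∉ zpowers x) (s1 : s ∈ A) (s2 : s * y = y * s) (s3 : s ∉ E) : 216 ≤ Nat.card A := by
  have y1 : y ≠ 1 := fun e => h2 (e ▸ one_mem _)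
  have c : Commute x y := h.comm _ hx _ hy
  have nm : ∀ {u v : T}, v ^ 3 = 1 → v ∉ zpowers u → ∀ a b : ℕ, b = 1 ∨ b = 2 → u ^ a * v ^ b ∉ zpowers u := by
    rintro u v h3 k a b (rfl | rfl) e <;> rw [mul_mem_cancel_left (pow_mem (mem_zpowers u) a)] at e
    · exact k (pow_one v ▸ e)
    · exact k (sq_inv h3 ▸ pow_mem e 2)
  have h3 : x ∉ zpowers y := fun k => by
    rcases zp3 (h.cube y hy) k with e | e | e
    · exact h1 e
    · exact h2 (e ▸ mem_zpowers x)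
    · exact h2 (sq_inv (h.cube y hy) ▸ e ▸ pow_mem (mem_zpowers x) 2)
  let R : T → T → Prop := fun u v => ∃ a ∈ A, a * u * a⁻¹ = v
  have tr : ∀ {u v w}, R u v → R v w → R u w := fun ⟨a, ha, e⟩ ⟨b, hb, e'⟩ => ⟨b * a, mul_mem hb ha, by rw [← e', ← e]; group⟩
  have mm : ∀ a b : ℕ, x ^ a * y ^ b ∈ E := fun a b => mul_mem (pow_mem hx a) (pow_mem hy b)
  have sx : ∀ a b k : ℕ, b = 1 ∨ b = 2 → R (x ^ a * y ^ b) (x ^ (k + a) * y ^ b) := fun a b k hb => by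
    rw [pow_add, mul_assoc]
    exact h.step hx h1 t1 t2 t3 (mm a b) (nm (h.cube y hy) h2 a b hb) k
  have sy : ∀ a b k : ℕ, a = 1 ∨ a = 2 → R (x ^ a * y ^ b) (x ^ a * y ^ (k + b)) := fun a b k ha => by
    rw [pow_add, ← mul_assoc, (c.pow_pow a k).eq, mul_assoc]
    exact h.step hy y1 s1 s2 s3 (mm a b) ((c.pow_pow a b).eq ▸ nm (h.cube x hx) h3 b a ha) k
  have all : ∀ e : {e : T // e ∈ E ∧ e ≠ 1}, R x e := by
    rintro ⟨e, he, e1⟩
    obtain ⟨a, b, rfl⟩ := h.cen x hx h1 y hy h2 e (h.comm _ he _ hx) (h.comm _ he _ hy)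
    have r0 : R x (x ^ 1 * y ^ 0) := ⟨1, one_mem _, by simp⟩
    have r1 : ∀ a b : ℕ, b = 1 ∨ b = 2 → R x (x ^ a * y ^ b) := fun a b hb => by
      have := tr (tr r0 (sy 1 0 b (Or.inl rfl))) (sx 1 b (a + 2) hb)
      rwa [show a + 2 + 1 = a + 3 from rfl, pow_add, h.cube x hx, mul_one] at this
    show R x (x ^ a * y ^ b)
    rw [pow_eq_pow_mod a (h.cube x hx), pow_eq_pow_mod b (h.cube y hy)] at e1 ⊢
    have k1 := Nat.mod_lt a three_pos
    have k2 := Nat.mod_lt b three_pos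
    generalize a % 3 = i, b % 3 = j at *
    rcases j with _ | j
    · interval_cases i
      · simp at e1
      · exact r0
      · have := tr (r1 2 1 (Or.inl rfl)) (sy 2 1 2 (Or.inr rfl))
        rwa [h.cube y hy, ← pow_zero y] at this
    · exact r1 _ _ (by omega)
  choose a a1 a2 using all
  have e1 := rel_card (centralizer {x}) A
  have e2 : 8 ≤ (centralizer {x}).relIndex A := by
    rw [← h.card_ne]
    refine Nat.card_le_card_of_injective (fun e => ((⟨a e, a1 e⟩ : A) : A ⧸ (centralizer {x}).subgroupOf A)) fun u v e => ?_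
    have e3 := mem_centralizer_singleton_iff.1 (mem_subgroupOf.1 (QuotientGroup.eq.1 e))
    refine Subtype.ext ?_
    rw [← a2 u, ← a2 v]
    simp only [coe_mul, coe_inv] at e3
    calc a u * x * (a u)⁻¹ = a u * (x * ((a u)⁻¹ * a v)) * (a v)⁻¹ := by group
      _ = _ := by rw [← e3]; group
  rw [h.card27 hx h1 t1 t2 t3] at e1
  omega

end Hs

end Cfsg.Agent.N2.L3
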