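import Cfsg.Agent.N2.L3U3.Syl

/-!
# N2 (S3519), `PSL₃(q)` and `PSU₃(q)`: stabilisers of a decomposition, monomial groups (helper11)
-/

set_option autoImplicit false
set_option maxHeartbeats 400000
set_option linter.unusedSectionVars false

namespace Cfsg.Agent.N2.L3

open Matrix Subgroup Cfsg.Agent.FP3

theorem card_le_fib {α β : Type} [Finite α] [Finite β] (f : α → β) (c : ℕ) (h : ∀ b, Nat.card {a // f a = b} ≤ c) :
    Nat.card α ≤ Nat.card β * c := by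
  have := Fintype.ofFinite β
  rw [← Nat.card_congr (Equiv.sigmaFiberEquiv f), Nat.card_sigma, Nat.card_eq_fintype_card (α := β)]
  exact (Finset.sum_le_card_nsmul _ _ c fun b _ => h b).trans (by simp)

theorem card_split {α : Type} [Finite α] (p : α → Prop) : Nat.card α = Nat.card {a // p a} + Nat.card {a // ¬ p a} := by
  classical
  rw [← Nat.card_sum, Nat.card_congr (Equiv.sumCompl p)]

theorem perm_cases (w : Equiv.Perm (Fin 3)) :
    w = 1 ∨ (w ^ 2 = 1 ∧ ∃ j l, w j ≠ j ∧ w l = l ∧ ∀ i, w i = i → i = l) ∨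
      (w ^ 3 = 1 ∧ (∀ i, w i ≠ i) ∧ (∀ i j, i = j ∨ w i = j ∨ w j = i) ∧ ∀ i, i ≠ w (w i)) := by
  revert w
  decide

variable {K G T : Type} [Field K] [Group G] [Group T]

/-- monomial matrices -/
def Mon (ρ : G →* Mt K) (g : G) (w : Equiv.Perm (Fin 3)) : Prop := ∀ i j, ρ g i j ≠ 0 → i = w j

theorem Mon.mul {ρ : G →* Mt K} {g g' : G} {w w' : Equiv.Perm (Fin 3)} (h : Mon ρ g w) (h' : Mon ρ g' w') :
    Mon ρ (g * g') (w * w') := fun i j e => by
  rw [map_mul, mul_apply] at e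
  obtain ⟨k, -, hk⟩ := Finset.exists_ne_zero_of_sum_ne_zero e
  rw [h _ _ (left_ne_zero_of_mul hk), h' _ _ (right_ne_zero_of_mul hk), Equiv.Perm.mul_apply]

theorem mon_one {ρ : G →* Mt K} {g : G} : Mon ρ g 1 ↔ g ∈ dg ρ :=
  ⟨fun h i j hij => by_contra fun e => hij (h i j e), fun h _ _ e => by_contra fun hij => e (h hij)⟩

/-- the stabiliser of the decomposition into the `k`-th axis and the complementary plane -/
def Blk (ρ : G →* Mt K) (k : Fin 3) (g : G) : Prop := ∀ i, i ≠ k → ρ g i k = 0 ∧ ρ g k i = 0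

theorem others (k : Fin 3) : ∃ i j, i ≠ j ∧ i ≠ k ∧ j ≠ k ∧ ∀ l, l = i ∨ l = j ∨ l = k := by
  revert k
  decide

theorem plane {k : Fin 3} {ψ φ z v : Fin 3 → K} (h1 : ψ k = 0) (h2 : z k = 0) (h3 : v k = 0) (hψ : ψ ≠ 0) (hz : z ≠ 0)
    (e1 : ψ ⬝ᵥ z = 0) (e2 : ψ ⬝ᵥ v = 0) (e3 : φ ⬝ᵥ z = 0) : φ ⬝ᵥ v = 0 := by
  obtain ⟨i, j, hij, k1, k2, k3⟩ := others k
  have s : ∀ a b : Fin 3 → K, b k = 0 → a ⬝ᵥ b = a i * b i + a j * b j := fun a b hb => by
    have : (Finset.univ : Finset (Fin 3)) = {i, j, k} := by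
      ext l
      simpa using k3 l
    rw [dotProduct, this, Finset.sum_insert (by simp [hij, k1]), Finset.sum_pair k2, hb, mul_zero, add_zero]
  have n : ∀ a : Fin 3 → K, a k = 0 → a ≠ 0 → a i ≠ 0 ∨ a j ≠ 0 := fun a ha h0 => by
    by_contra e
    push Not at e
    refine h0 (funext fun l => ?_)
    rcases k3 l with rfl | rfl | rfl
    exacts [e.1, e.2, ha]
  rw [s _ _ h2] at e1 e3
  rw [s _ _ h3] at e2 ⊢
  have d : z i * v j - z j * v i = 0 := by
    rcases n ψ h1 hψ with e | e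
    · exact (mul_eq_zero.1 (by linear_combination v j * e1 - z j * e2)).resolve_left e
    · exact (mul_eq_zero.1 (by linear_combination z i * e2 - v i * e1)).resolve_left e
  rcases n z h2 hz with e | e
  · exact (mul_eq_zero.1 (by linear_combination v i * e3 + φ j * d)).resolve_left e
  · exact (mul_eq_zero.1 (by linear_combination v j * e3 - φ i * d)).resolve_left e

/-- eigenvectors of a homology times a transvection -/
theorem eig {k : Fin 3} {l μ ν : K} {ψ z v : Fin 3 → K} (h0 : l ≠ 0) (hl : l ≠ μ) (h1 : ψ k = 0) (h2 : z k = 0)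
    (e1 : ψ ⬝ᵥ z = 0) (hz : z ≠ 0) (hv : v ≠ 0)
    (e : l • v + ((μ - l) * v k) • (Pi.single k 1 : Fin 3 → K) + (l * (ψ ⬝ᵥ v)) • z = ν • v) :
    (ν = μ ∧ ∀ i, i ≠ k → v i = 0) ∨ (ν = l ∧ v k = 0 ∧ ψ ⬝ᵥ v = 0) := by
  have e2 := congrArg (ψ ⬝ᵥ ·) e
  simp only [dotProduct_add, dotProduct_smul, dotProduct_single, h1, e1, smul_eq_mul, mul_zero, zero_mul, add_zero] at e2
  have e3 := congrFun e k
  simp only [Pi.add_apply, Pi.smul_apply, Pi.single_eq_same, h2, smul_eq_mul, mul_zero, mul_one, add_zero] at e3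
  by_cases c : ν = l
  · subst c
    have e4 : v k = 0 := (mul_eq_zero.1 (by linear_combination e3)).resolve_left (sub_ne_zero.2 hl.symm)
    rw [e4, mul_zero, zero_smul, add_zero, add_eq_left, smul_eq_zero, mul_eq_zero] at e
    exact Or.inr ⟨rfl, e4, (e.resolve_right hz).resolve_left h0⟩
  · have e4 : ψ ⬝ᵥ v = 0 := (mul_eq_zero.1 (by linear_combination -e2)).resolve_left (sub_ne_zero.2 c)
    have e5 : ∀ i, i ≠ k → v i = 0 := fun i hi => by
      have e6 := congrFun e i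
      simp only [Pi.add_apply, Pi.smul_apply, Pi.single_eq_of_ne hi, e4, smul_eq_mul, mul_zero, zero_mul, add_zero] at e6
      exact (mul_eq_zero.1 (by linear_combination -e6)).resolve_left (sub_ne_zero.2 c)
    refine Or.inl ⟨?_, e5⟩
    have e6 : v k ≠ 0 := fun e7 => hv (funext fun i => by
      by_cases hi : i = k
      exacts [hi ▸ e7, e5 i hi])
    exact mul_right_cancel₀ e6 (by linear_combination -e3)

namespace Ax

variable {q c m : ℕ} {ρ : G →* Mt K} {π : G →* T} (h : Ax q c m ρ π)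
include h

theorem mi (g : G) : ρ g * ρ g⁻¹ = 1 := by rw [← map_mul, mul_inv_cancel, map_one]

theorem im (g : G) : ρ g⁻¹ * ρ g = 1 := by rw [← map_mul, inv_mul_cancel, map_one]

/-- **the stabiliser of a point and a line** -/
theorem good_blk [Finite G] {B : Subgroup G} {k : Fin 3} (hB : ∀ g, g ∈ B ↔ Blk ρ k g) {x : G} {l μ : K} (hl : l ≠ μ)
    (hx : x ∈ dg ρ) (h1 : ∀ i, i ≠ k → ρ x i i = l) (h2 : ρ x k k = μ) : Good B := by
  have e0 : ρ x = l • 1 + (μ - l) • vecMulVec (Pi.single k 1) (Pi.single k 1) := by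
    ext i j
    by_cases hij : i = j
    · subst hij
      by_cases hi : i = k
      · subst hi
        simp [vecMulVec_apply, h2]
      · simp [vecMulVec_apply, h1 i hi, hi]
    · rw [hx hij]
      by_cases hi : i = k
      · subst hi
        simp [vecMulVec_apply, hij, Ne.symm hij]
      · simp [vecMulVec_apply, hij, hi]
  have l0 : l ≠ 0 := by
    obtain ⟨i, hi⟩ := exists_ne k
    exact h1 i hi ▸ h.dg_ne hx i
  obtain ⟨u, z, ψ, hz, hψ, e1, e2, e3, e4⟩ := h.hom x l μ _ _ (by simp) hl e0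
  rw [dotProduct_single, mul_one] at e2
  rw [single_dotProduct, one_mul] at e3
  have ea : ρ (x * u) = l • 1 + (μ - l) • vecMulVec (Pi.single k 1) (Pi.single k 1) + l • vecMulVec z ψ := by
    rw [map_mul, e4, mul_add, mul_one, e0, add_mul, smul_mul_assoc, one_mul, smul_mul_assoc, vecMulVec_mul_vecMulVec,
      single_dotProduct, e3]
    simp
  refine good_of_one (a := x * u) ((hB _).2 fun i hi => ?_) (fx_le_one fun t ht => (hB _).2 ?_)
  · simp [ea, vecMulVec_apply, hi, hi.symm, e2, e3]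
  have hy := (hB _).1 ht
  have k1 : ρ (t⁻¹ * (x * u) * t) *ᵥ Pi.single k 1 = ρ (t⁻¹ * (x * u) * t) k k • (Pi.single k 1 : Fin 3 → K) := by
    ext i
    by_cases hi : i = k
    · subst hi
      simp
    · simp [-map_mul, hi, (hy i hi).1]
  have k2 : Pi.single k 1 ᵥ* ρ (t⁻¹ * (x * u) * t) = ρ (t⁻¹ * (x * u) * t) k k • (Pi.single k 1 : Fin 3 → K) := by
    ext i
    by_cases hi : i = k
    · subst hi
      simp
    · simp [-map_mul, hi, (hy i hi).2]
  generalize ρ (t⁻¹ * (x * u) * t) k k = ν at k1 k2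
  have k3 : (Pi.single k 1 ᵥ* ρ t⁻¹) ⬝ᵥ (ρ t *ᵥ Pi.single k 1) = 1 := by
    rw [← dotProduct_mulVec, mulVec_mulVec, h.im, one_mulVec]
    simp
  have k4 : ρ (x * u) *ᵥ (ρ t *ᵥ Pi.single k 1) = ν • (ρ t *ᵥ Pi.single k 1) := by
    rw [← mulVec_smul, ← k1, mulVec_mulVec, mulVec_mulVec, ← map_mul, ← map_mul]
    congr 2
    group
  have k5 : (Pi.single k 1 ᵥ* ρ t⁻¹) ᵥ* ρ (x * u) = ν • (Pi.single k 1 ᵥ* ρ t⁻¹) := by
    rw [← smul_vecMul, ← k2, vecMul_vecMul, vecMul_vecMul, ← map_mul, ← map_mul]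
    congr 2
    group
  have k6 : (Pi.single k 1 ᵥ* ρ t⁻¹) ᵥ* ρ t = Pi.single k 1 := by rw [vecMul_vecMul, h.im, vecMul_one]
  have k7 : ∀ i, ρ t i k = (ρ t *ᵥ Pi.single k 1) i := fun i => by simp
  generalize ρ t *ᵥ Pi.single k 1 = v at *
  generalize Pi.single k 1 ᵥ* ρ t⁻¹ = φ at *
  have v0 : v ≠ 0 := fun e => by simp [e] at k3
  have φ0 : φ ≠ 0 := fun e => by simp [e] at k3
  have c1 := eig (ν := ν) l0 hl e2 e3 e1 hz v0 (by
    rw [← k4, ea, add_mulVec, add_mulVec, smul_mulVec, smul_mulVec, smul_mulVec, one_mulVec, vecMulVec_mulVec,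
      vecMulVec_mulVec, single_dotProduct, one_mul]
    simp [smul_smul])
  have c2 := eig (ν := ν) l0 hl e3 e2 (by rw [dotProduct_comm, e1]) hψ φ0 (by
    rw [← k5, ea, vecMul_add, vecMul_add, vecMul_smul, vecMul_smul, vecMul_smul, vecMul_one, vecMul_vecMulVec,
      vecMul_vecMulVec, dotProduct_single, mul_one, dotProduct_comm z]
    simp [smul_smul])
  rcases c1 with ⟨a1, a2⟩ | ⟨a1, a2, a3⟩ <;> rcases c2 with ⟨b1, b2⟩ | ⟨b1, b2, b3⟩
  · intro i hi
    refine ⟨(k7 i).trans (a2 i hi), ?_⟩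
    have e5 : φ = φ k • (Pi.single k 1 : Fin 3 → K) := funext fun j => by
      by_cases hj : j = k
      · simp [hj]
      · simp [hj, b2 j hj]
    have e6 := congrFun k6 i
    rw [e5, smul_vecMul] at e6
    have e7 : φ k ≠ 0 := fun e => φ0 (by rw [e5, e, zero_smul])
    simpa [hi, e7] using e6
  · exact absurd (b1.symm.trans a1) hl
  · exact absurd (a1.symm.trans b1) hl
  · rw [plane e2 e3 a2 hψ hz e1 a3 (by rw [dotProduct_comm, b3])] at k3
    exact absurd k3 zero_ne_one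

theorem mon_ne {g : G} {w : Equiv.Perm (Fin 3)} (hg : Mon ρ g w) (j : Fin 3) : ρ g (w j) j ≠ 0 := by
  obtain ⟨u, hu⟩ := exists_perm (A := ρ g) (by rw [h.det]; exact one_ne_zero)
  exact hg _ _ (hu j) ▸ hu j

theorem exists_W {B : Subgroup G} (hB : ∀ g ∈ B, ∃ w, Mon ρ g w) :
    ∃ W : B →* Equiv.Perm (Fin 3), (∀ g : B, Mon ρ g (W g)) ∧ W.ker = (dg ρ).subgroupOf B := by
  have u : ∀ {g w w'}, Mon ρ g w → Mon ρ g w' → w = w' := fun e e' => Equiv.ext fun j => e' _ _ (h.mon_ne e j)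
  choose w hw using fun g : B => hB g g.2
  refine ⟨MonoidHom.mk' w fun a b => u (hw _) ((hw a).mul (hw b)), hw, ?_⟩
  ext g
  exact ⟨fun e => mon_one.1 ((show w g = 1 from e) ▸ hw g), fun e => u (hw g) (mon_one.2 e)⟩

theorem mon_pow {g : G} {w : Equiv.Perm (Fin 3)} (hg : Mon ρ g w) {n : ℕ} (hn : g ^ n ∈ dg ρ) (j : Fin 3) :
    ρ (g ^ n) (w j) (w j) = ρ (g ^ n) j j :=
  dg_conj hn hn (by rw [← pow_succ', pow_succ, mul_inv_cancel_right]) (h.mon_ne hg j)

theorem rg_conj {x y : G} (hx : Rg ρ x) (hy : y ∈ dg ρ) (e : IsConj x y) : Rg ρ y := by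
  obtain ⟨t, ht⟩ := isConj_iff.1 e
  obtain ⟨w, hw⟩ := h.conj_perm hx.1 hy ht
  refine ⟨hy, fun i j hij => ?_⟩
  obtain ⟨i, rfl⟩ := w.surjective i
  obtain ⟨j, rfl⟩ := w.surjective j
  rw [hw, hw] at hij
  rw [hx.2 _ _ hij]

variable [Finite G] {B : Subgroup G}

theorem cc_dg {x : G} (hx : x ∈ dg ρ) : Nat.card {g : {g : G // IsConj x g ∧ g ∈ B} // g.1 ∈ dg ρ} ≤ 6 := by
  have key : ∀ g : {g : {g : G // IsConj x g ∧ g ∈ B} // g.1 ∈ dg ρ}, ∃ w : Equiv.Perm (Fin 3),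
      ∀ i, ρ g.1.1 (w i) (w i) = ρ x i i := fun g => by
    obtain ⟨t, ht⟩ := isConj_iff.1 g.1.2.1
    exact h.conj_perm hx g.2 ht
  choose w hw using key
  refine (Nat.card_le_card_of_injective w fun a b e => Subtype.ext (Subtype.ext (h.dg_ext a.2 b.2 fun i => ?_))).trans
    (by simp [Fintype.card_perm, Nat.factorial])
  obtain ⟨i, rfl⟩ := (w a).surjective i
  rw [hw, e, hw]

theorem fx_rg {x : G} (hx : Rg ρ x) (hB : dg ρ ≤ B) : fx B x * (dg ρ).relIndex B = cc B x := by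
  have e1 := fx_mul B x
  have e2 := rel_card (dg ρ) B
  rw [inf_eq_left.2 hB] at e2
  rw [cn, h.cent_rg hx, ← e2, ← mul_assoc, mul_comm] at e1
  exact Nat.eq_of_mul_eq_mul_left Nat.card_pos e1

/-- **version A**: all conjugates in `B` are diagonal -/
theorem good_A {W : B →* Equiv.Perm (Fin 3)} (hW : ∀ g : B, Mon ρ g (W g)) (hB : dg ρ ≤ B) {x : G} (hx : x ∈ dg ρ)
    (h2 : Rg ρ (x ^ 2)) (h3 : π (x ^ 3) ≠ 1 ∨ ∀ g, W g ^ 2 = 1) (hc : 216 * c ≤ Nat.card G) : Good B := by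
  have h1 : Rg ρ x := ⟨hx, fun i j e => h2.2 i j (by rw [dg_pow hx, dg_pow hx, e])⟩
  have pw : ∀ (g : B) (n : ℕ), W g ^ n = 1 → g.1 ^ n ∈ dg ρ := fun g n e => by
    have := hW (g ^ n)
    rwa [map_pow, e, mon_one] at this
  have k1 : ∀ g : {g : G // IsConj x g ∧ g ∈ B}, g.1 ∈ dg ρ := by
    rintro ⟨g, hg, hg'⟩
    rcases perm_cases (W ⟨g, hg'⟩) with e | ⟨e, j, -, e1, -⟩ | ⟨e, e0, e1, -⟩
    · exact mon_one.1 (e ▸ hW ⟨g, hg'⟩)
    · exact absurd ((h.rg_conj h2 (pw _ _ e) (hg.pow 2)).2 _ _ (h.mon_pow (hW ⟨g, hg'⟩) (pw _ _ e) j)) e1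
    · rcases h3 with h3 | h3
      · refine absurd (isConj_one_left.1 ?_) h3
        rw [← h.ker_of (pw _ _ e) fun i j => ?_]
        · exact π.map_isConj (hg.pow 3)
        · rcases e1 i j with rfl | rfl | rfl
          exacts [rfl, (h.mon_pow (hW ⟨g, hg'⟩) (pw _ _ e) i).symm, h.mon_pow (hW ⟨g, hg'⟩) (pw _ _ e) j]
      · rw [pow_succ, h3, one_mul] at e
        exact absurd (by rw [e]; rfl) (e0 0)
  have k2 : cc B x ≤ 6 := (Nat.card_congr (Equiv.subtypeUnivEquiv k1).symm).trans_le (h.cc_dg hx)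
  have k3 := h.fx_rg h1 hB
  have k4 := rel_card (dg ρ) B
  have k5 : (dg ρ).relIndex B ≠ 0 := index_ne_zero_of_finite
  rw [inf_eq_left.2 hB] at k4
  refine good_of_le (hB hx) le_rfl (le_trans ?_ ((Nat.mul_le_mul_left _ h.tor').trans hc))
  rw [← k4, ← mul_assoc]
  refine Nat.mul_le_mul_right _ ?_
  rw [← k3] at k2
  generalize fx B x = f, (dg ρ).relIndex B = i at *
  have k6 : f ≤ 6 := le_trans (Nat.le_mul_of_pos_right _ (Nat.pos_of_ne_zero k5)) k2
  calc f ^ 3 * i = f * f * (f * i) := by ring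
    _ ≤ 6 * 6 * 6 := Nat.mul_le_mul (Nat.mul_le_mul k6 k6) k2

end Ax

end Cfsg.Agent.N2.L3
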