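import Cfsg.Agent.N2.L3U3.Ax

/-!
# N2 (S3519), `PSL₃(q)` and `PSU₃(q)`: regular semisimple elements, cyclic Sylow subgroups (helper11)
-/

set_option autoImplicit false
set_option maxHeartbeats 400000
set_option linter.unusedSectionVars false

namespace Cfsg.Agent.N2.L3

open Matrix Subgroup Cfsg.Agent.FP3

section grp

variable {T : Type} [Group T] [Finite T]

theorem rel_card (H L : Subgroup T) : H.relIndex L * Nat.card ↥(H ⊓ L) = Nat.card L := by
  rw [← inf_relIndex_right, ← Nat.card_congr (subgroupOfEquivOfLe (inf_le_right : H ⊓ L ≤ L)).toEquiv]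
  exact index_mul_card _

/-- Burnside's transfer theorem against a perfect subgroup -/
theorem burn {A R L : Subgroup T} {s : ℕ} (hs : s.Prime) (hR : R ≤ A) (hP : IsPGroup s R) (hi : ¬ s ∣ R.relIndex A)
    (h1 : R ≠ ⊥) (hL : L ≤ A) (hp : commutator L = ⊤) (hLi : ¬ s ∣ L.relIndex A) :
    ¬ normalizer (R : Set T) ⊓ A ≤ centralizer (R : Set T) := by
  intro h
  have : Fact s.Prime := ⟨hs⟩
  obtain ⟨P, hP'⟩ : ∃ P : Sylow s A, (P : Subgroup A) = R.subgroupOf A :=
    ⟨(hP.of_equiv (subgroupOfEquivOfLe hR).symm).toSylow hi, rfl⟩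
  have h2 : normalizer (P : Set A) ≤ centralizer (P : Set A) := fun n hn x hx => by
    have h3 : n ∈ (normalizer (R : Set T)).subgroupOf A := by
      rw [subgroupOf_normalizer_eq hR, ← hP']
      exact hn
    have h4 : x ∈ R.subgroupOf A := hP' ▸ hx
    exact Subtype.ext (h ⟨h3, n.2⟩ x h4)
  have h3 := (MonoidHom.ker_transferSylow_isComplement' P h2).symm.index_eq_card
  have c : ∀ a b : (P : Subgroup A), a * b = b * a := fun a b => Subtype.ext (h2 (le_normalizer b.2) a a.2)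
  generalize MonoidHom.transferSylow P h2 = f at h3
  have h4 : L.subgroupOf A ≤ f.ker := fun x hx => by
    have h5 : commutator L ≤ (f.comp (inclusion hL)).ker := by
      rw [commutator_def, commutator_le]
      intro a _ b _
      rw [MonoidHom.mem_ker, map_commutatorElement, commutatorElement_eq_one_iff_mul_comm, c]
    rw [hp] at h5
    exact h5 (mem_top (⟨x, hx⟩ : L))
  obtain ⟨n, hn⟩ := IsPGroup.iff_card.1 hP
  have h5 : n ≠ 0 := fun e => h1 (card_eq_one.1 (by rw [hn, e, pow_zero]))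
  refine hLi (Dvd.dvd.trans ?_ (index_dvd_of_le h4))
  rw [h3, hP', Nat.card_congr (subgroupOfEquivOfLe hR).toEquiv, hn]
  exact dvd_pow_self s h5

theorem cent_zp (a : T) : centralizer (zpowers a : Set T) = centralizer {a} := by rw [zpowers_eq_closure, centralizer_closure]

theorem norm_pow {a n : T} (h : n ∈ normalizer (zpowers a : Set T)) : ∃ i : ℕ, n * a * n⁻¹ = a ^ i := by
  obtain ⟨i, hi⟩ := mem_powers_iff_mem_zpowers.2 ((mem_normalizer_iff.1 h a).1 (mem_zpowers a))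
  exact ⟨i, hi.symm⟩

end grp

variable {K G T : Type} [Field K] [Group G] [Group T]

theorem exists_dg [IsAlgClosed K] {B : Type} (f : B → Mt K) (hc : ∀ a b, f a * f b = f b * f a) {n : ℕ}
    (hn : (n : K) ≠ 0) (h : ∀ b, f b ^ n = 1) : ∃ P : GL (Fin 3) K, ∀ b, (P⁻¹.1 * f b * P.1).IsDiag := by
  have h1 := Module.End.iSup_iInf_maxGenEigenspace_eq_top_of_iSup_maxGenEigenspace_eq_top_of_commute
    (fun b => toLin' (f b)) (fun a b _ => by
      show toLin' (f a) * toLin' (f b) = toLin' (f b) * toLin' (f a)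
      rw [Module.End.mul_eq_comp, Module.End.mul_eq_comp, ← toLin'_mul, ← toLin'_mul, hc])
    fun b => Module.End.iSup_maxGenEigenspace_eq_top _
  have h2 : ∀ b, Module.End.IsSemisimple (toLin' (f b)) := fun b =>
    Module.End.isSemisimple_of_squarefree_aeval_eq_zero (Polynomial.separable_X_pow_sub_C 1 hn one_ne_zero).squarefree (by
      rw [map_sub, map_pow, Polynomial.aeval_X, Polynomial.aeval_C, map_one, ← toLin'_pow, h, toLin'_one]
      exact sub_self _)
  simp only [(h2 _).isFinitelySemisimple.maxGenEigenspace_eq_eigenspace] at h1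
  have h3 : Submodule.span K {v : Fin 3 → K | ∀ b, ∃ c : K, f b *ᵥ v = c • v} = ⊤ := by
    rw [eq_top_iff, ← h1]
    exact iSup_le fun χ v hv => Submodule.subset_span fun b =>
      ⟨χ b, Module.End.mem_eigenspace_iff.1 ((Submodule.mem_iInf _).1 hv b)⟩
  obtain ⟨g, h4, -, h5⟩ := Submodule.exists_fun_fin_finrank_span_eq K {v : Fin 3 → K | ∀ b, ∃ c : K, f b *ᵥ v = c • v}
  let e := Fintype.equivFinOfCardEq (α := Fin 3) (n := Module.finrank K (Submodule.span K
    {v : Fin 3 → K | ∀ b, ∃ c : K, f b *ᵥ v = c • v})) (by rw [h3, finrank_top, Module.finrank_fintype_fun_eq_card])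
  obtain ⟨P, hP⟩ := (linearIndependent_cols_iff_isUnit (A := Matrix.of fun i j => g (e j) i)).1 (h5.comp e e.injective)
  refine ⟨P, fun b => ?_⟩
  choose c hc using fun j => h4 (e j) b
  have h6 : f b * P.1 = P.1 * diagonal c := by
    ext i j
    rw [mul_diagonal, hP, mul_comm]
    exact congrFun (hc j) i
  rw [mul_assoc, h6, Units.inv_mul_cancel_left]
  exact isDiag_diagonal c

/-- diagonal with three different entries -/
def Rg (ρ : G →* Mt K) (x : G) : Prop := x ∈ dg ρ ∧ ∀ i j, ρ x i i = ρ x j j → i = j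

theorem dg_pow {ρ : G →* Mt K} {x : G} (h : x ∈ dg ρ) (n : ℕ) (i : Fin 3) : ρ (x ^ n) i i = ρ x i i ^ n := by
  rw [map_pow, dg_eq h, diagonal_pow, diagonal_apply_eq, diagonal_apply_eq, Pi.pow_apply]

theorem dg_conj {ρ : G →* Mt K} {x y g : G} (hx : x ∈ dg ρ) (hy : y ∈ dg ρ) (e : g * x * g⁻¹ = y) {i j : Fin 3}
    (h : ρ g i j ≠ 0) : ρ y i i = ρ x j j := by
  have e1 : ρ g * ρ x = ρ y * ρ g := by rw [← map_mul, ← map_mul, ← e, inv_mul_cancel_right]
  have e2 := congrFun (congrFun e1 i) j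
  rw [muld hx, dmul hy, mul_comm] at e2
  exact (mul_right_cancel₀ h e2).symm

namespace Ax

variable {q c m : ℕ} {ρ : G →* Mt K} {π : G →* T} (h : Ax q c m ρ π)
include h

theorem frame [IsAlgClosed K] {B : Type} (f : B → G) (hc : ∀ a b, f a * f b = f b * f a) {n : ℕ} (hn : (n : K) ≠ 0)
    (hp : ∀ b, f b ^ n = 1) : ∃ θ : G →* Mt K, Ax q c m θ π ∧ ∀ b, f b ∈ dg θ := by
  obtain ⟨P, hP⟩ := exists_dg (fun b => ρ (f b)) (fun a b => by rw [← map_mul, hc, map_mul]) hn
    fun b => by rw [← map_pow, hp, map_one]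
  exact ⟨_, h.fr P, hP⟩

theorem tor' : Nat.card (dg ρ) ≤ c := by
  have := h.tor 1
  rwa [fr_one] at this

theorem split' (hs : ∀ i j, i ≠ j → ∃ g ∈ dg ρ, ρ g i i ≠ ρ g j j ∧ ∀ k, ρ g k k ^ m = 1) (t : Fin 3 → K) :
    (∃ g, ρ g = diagonal t) ↔ (∀ k, t k ^ m = 1) ∧ t 0 * t 1 * t 2 = 1 := by
  have := h.split 1
  rw [fr_one] at this
  exact this hs t

theorem prod {x : G} (hx : x ∈ dg ρ) : ρ x 0 0 * ρ x 1 1 * ρ x 2 2 = 1 := by
  rw [← det_dg fun i => ρ x i i, ← dg_eq hx, h.det]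

theorem dg_ne {x : G} (hx : x ∈ dg ρ) (i : Fin 3) : ρ x i i ≠ 0 := ne0 (t := fun i => ρ x i i) (h.prod hx) i

theorem dg_ext {x y : G} (hx : x ∈ dg ρ) (hy : y ∈ dg ρ) (e : ∀ i, ρ x i i = ρ y i i) : x = y :=
  h.inj (by rw [dg_eq hx, dg_eq hy, funext e])

theorem dg_comm {x y : G} (hx : x ∈ dg ρ) (hy : y ∈ dg ρ) : x * y = y * x :=
  h.dg_ext (mul_mem hx hy) (mul_mem hy hx) fun i => by rw [map_mul, map_mul, dmul hx, dmul hy, mul_comm]

theorem sc_cube {g : G} {a : K} (e : ρ g = a • 1) : a ^ 3 = 1 := by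
  have := h.det g
  rwa [e, det_smul, det_one, mul_one, Fintype.card_fin] at this

theorem ker_comm {z : G} (hz : π z = 1) (x : G) : z * x = x * z := by
  obtain ⟨a, e⟩ := (h.ker z).1 hz
  exact h.inj (by rw [map_mul, map_mul, e, smul_mul_assoc, mul_smul_comm, one_mul, mul_one])

theorem ker_cube {z : G} (hz : π z = 1) : z ^ 3 = 1 := by
  obtain ⟨a, e⟩ := (h.ker z).1 hz
  exact h.inj (by rw [map_pow, e, smul_pow, h.sc_cube e, one_pow, one_smul, map_one])

theorem ker_dg {z : G} (hz : π z = 1) : z ∈ dg ρ := by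
  obtain ⟨a, e⟩ := (h.ker z).1 hz
  rw [mem_dg, e]
  exact isDiag_smul_one _ _

theorem ker_of {x : G} (hx : x ∈ dg ρ) (e : ∀ i j, ρ x i i = ρ x j j) : π x = 1 :=
  (h.ker x).2 ⟨ρ x 0 0, by rw [dg_eq hx, smul_one_eq_diagonal, diagonal_apply_eq, funext fun i => e i 0]⟩

theorem lift {x : T} {n : ℕ} (hx : x ^ n = 1) (hn : n.Coprime 3) : ∃ g, π g = x ∧ g ^ n = 1 := by
  obtain ⟨g, rfl⟩ := h.surj x
  obtain ⟨k, k1, k2⟩ := Nat.chineseRemainder hn 1 0
  obtain ⟨j, rfl⟩ := (Nat.modEq_zero_iff_dvd).1 k2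
  refine ⟨g ^ (3 * j), ?_, ?_⟩
  · rw [map_pow, pow_eq_pow_iff_modEq.2 (k1.of_dvd (orderOf_dvd_of_pow_eq_one hx)), pow_one]
  · rw [← pow_mul, show 3 * j * n = n * 3 * j by ring, pow_mul, pow_mul, h.ker_cube (by rw [map_pow, hx]), one_pow]

theorem uniq {a b : G} {n : ℕ} (e : π a = π b) (ha : a ^ n = 1) (hb : b ^ n = 1) (hn : n.Coprime 3) : a = b := by
  have e1 : π (a * b⁻¹) = 1 := by rw [map_mul, map_inv, e, mul_inv_cancel]
  have e2 : (a * b⁻¹) ^ n = 1 := by
    have := (show Commute (a * b⁻¹) b from h.ker_comm e1 b).mul_pow n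
    rwa [inv_mul_cancel_right, ha, hb, mul_one, eq_comm] at this
  have e3 := pow_gcd_eq_one.2 ⟨e2, h.ker_cube e1⟩
  rwa [hn, pow_one, mul_inv_eq_one] at e3

theorem card_ker_le : Nat.card π.ker ≤ 3 := by
  obtain ⟨f, k⟩ := card_root (K := K) three_pos 1
  choose a ha using fun z : π.ker => (h.ker z).1 z.2
  exact (Nat.card_le_card_of_injective (fun z => (⟨a z, h.sc_cube (ha z)⟩ : {x : K // x ^ 3 = 1})) fun z w e =>
    Subtype.ext (h.inj (by rw [ha, ha, Subtype.mk.inj e]))).trans k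

theorem cent_rg {x : G} (hx : Rg ρ x) : centralizer {x} = dg ρ := by
  ext g
  rw [mem_centralizer_singleton_iff]
  refine ⟨fun e i j hij => ?_, fun hg => h.dg_comm hg hx.1⟩
  by_contra k
  exact hij (hx.2 _ _ (dg_conj hx.1 hx.1 (mul_inv_eq_of_eq_mul e) k))

theorem conj_perm {x y g : G} (hx : x ∈ dg ρ) (hy : y ∈ dg ρ) (e : g * x * g⁻¹ = y) :
    ∃ w : Equiv.Perm (Fin 3), ∀ i, ρ y (w i) (w i) = ρ x i i := by
  obtain ⟨w, hw⟩ := exists_perm (A := ρ g) (by rw [h.det]; exact one_ne_zero)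
  exact ⟨w, fun i => dg_conj hx hy e (hw i)⟩

theorem rg_of_pow {x g : G} (hx : x ∈ dg ρ) {k : ℕ} (e : g * x * g⁻¹ = x ^ k) (hk : x ^ k ≠ x) : Rg ρ x := by
  refine ⟨hx, fun i j hij => ?_⟩
  by_contra hne
  obtain ⟨l, l1, l2, l3⟩ := third hne
  obtain ⟨w, hw⟩ := h.conj_perm hx (pow_mem hx k) e
  by_cases e1 : ρ x l l = ρ x i i
  · refine hk ?_
    rw [← e, ← h.ker_comm (h.ker_of hx fun a b => ?_) g, mul_inv_cancel_right]
    rcases l3 a with rfl | rfl | rfl <;> rcases l3 b with rfl | rfl | rfl <;> simp only [hij, e1]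
  · simp only [dg_pow hx] at hw
    have e2 : ∀ a, a ≠ l → ρ x a a = ρ x i i := fun a ha => by
      rcases l3 a with rfl | rfl | rfl
      exacts [rfl, hij.symm, absurd rfl ha]
    have e3 : w l = l := by
      by_contra e4
      obtain ⟨a, a1, a2⟩ : ∃ a, a ≠ l ∧ w a ≠ l := by
        by_cases e5 : w i = l
        · exact ⟨j, l2, fun e6 => hne (w.injective (e5.trans e6.symm))⟩
        · exact ⟨i, l1, e5⟩
      have e5 := hw l
      have e6 := hw a
      rw [e2 _ e4] at e5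
      rw [e2 _ a2, e2 _ a1] at e6
      exact e1 (e5.symm.trans e6)
    refine hk (h.dg_ext (pow_mem hx k) hx fun a => ?_)
    obtain ⟨a, rfl⟩ := w.surjective a
    rw [dg_pow hx, hw]
    by_cases e4 : a = l
    · rw [e4, e3]
    · rw [e2 _ e4, e2 _ fun e5 => e4 (w.injective (e5.trans e3.symm))]

variable [Finite G]

theorem fin : Finite T := Finite.of_surjective π h.surj

theorem card_comap (A : Subgroup T) : Nat.card (A.comap π) = Nat.card π.ker * Nat.card A := by
  have := h.fin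
  have e1 := (A.comap π).index_mul_card
  have e2 := π.ker.index_mul_card
  rw [index_ker, MonoidHom.range_eq_top.2 h.surj, card_top, ← A.index_mul_card, ← e1, index_comap_of_surjective A h.surj,
    mul_assoc] at e2
  rw [mul_comm]
  exact (Nat.eq_of_mul_eq_mul_left (Nat.pos_of_ne_zero index_ne_zero_of_finite) e2).symm

theorem card_top' : Nat.card G = Nat.card π.ker * Nat.card T := by
  have := h.card_comap ⊤
  rwa [comap_top, card_top, card_top] at this

theorem cn_rg {x : G} (hx : Rg ρ x) {n : ℕ} (e : x ^ n = 1) (hn : n.Coprime 3) : Nat.card π.ker * cn (π x) ≤ c := by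
  have e1 : (centralizer {π x}).comap π = dg ρ := by
    rw [← h.cent_rg hx]
    ext g
    rw [mem_comap, mem_centralizer_singleton_iff, mem_centralizer_singleton_iff]
    refine ⟨fun k => mul_inv_eq_iff_eq_mul.1 (h.uniq ?_ (by rw [conj_pow, e, mul_one, mul_inv_cancel]) e hn), fun k => ?_⟩
    · rw [map_mul, map_mul, k, map_inv, mul_inv_cancel_right]
    · rw [← map_mul, k, map_mul]
  rw [cn, ← h.card_comap, e1]
  exact h.tor'

theorem autz {x : G} (hx : x ∈ dg ρ) {s j : ℕ} (hs : s.Prime) (h3 : s ≠ 3) (e : x ^ s ^ j = 1) (ho : orderOf (π x) = s ^ j) :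
    (centralizer {π x}).relIndex (normalizer (zpowers (π x) : Set T)) ≤ 3 := by
  have := h.fin
  have : Fact s.Prime := ⟨hs⟩
  have hn : (s ^ j).Coprime 3 := ((Nat.coprime_primes hs Nat.prime_three).2 h3).pow_left _
  obtain ⟨i, hi⟩ : ∃ i, orderOf (ρ x i i) = s ^ j := by
    have e1 : ∀ i, ρ x i i ^ s ^ j = 1 := fun i => by rw [← dg_pow hx, e, map_one, one_apply_eq]
    rcases j with _ | j
    · exact ⟨0, orderOf_eq_one_iff.2 (by simpa using e1 0)⟩
    · by_contra k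
      push Not at k
      have e2 : x ^ s ^ j = 1 := h.dg_ext (pow_mem hx _) (one_mem _) fun i => by
        rw [dg_pow hx, map_one, one_apply_eq]
        by_contra e3
        exact k i (orderOf_eq_prime_pow e3 (e1 i))
      have e3 := orderOf_dvd_of_pow_eq_one (x := π x) (n := s ^ j) (by rw [← map_pow, e2, map_one])
      rw [ho, Nat.pow_dvd_pow_iff_le_right hs.one_lt] at e3
      omega
  have key : ∀ n : normalizer (zpowers (π x) : Set T), ∃ (k : ℕ) (l : Fin 3), n.1 * π x * n.1⁻¹ = π x ^ k ∧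
      ρ x i i ^ k = ρ x l l := fun n => by
    obtain ⟨k, hk⟩ := norm_pow n.2
    obtain ⟨g, hg⟩ := h.surj n
    obtain ⟨w, hw⟩ := h.conj_perm hx (pow_mem hx k) (h.uniq (a := g * x * g⁻¹)
      (by rw [map_mul, map_mul, map_inv, hg, hk, map_pow]) (by rw [conj_pow, e, mul_one, mul_inv_cancel])
      (by rw [← pow_mul, mul_comm, pow_mul, e, one_pow]) hn)
    exact ⟨k, w.symm i, hk, by rw [← hw (w.symm i), Equiv.apply_symm_apply, dg_pow hx]⟩
  choose k l h1 h2 using key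
  refine (Nat.card_le_card_of_injective (fun y : normalizer (zpowers (π x) : Set T) ⧸
    (centralizer {π x}).subgroupOf (normalizer (zpowers (π x) : Set T)) => l y.out) fun a b e => ?_).trans (by simp)
  have e1 : ρ x i i ^ k a.out = ρ x i i ^ k b.out := by rw [h2, h2, show l a.out = l b.out from e]
  have e2 : π x ^ k a.out = π x ^ k b.out := by
    rw [pow_eq_pow_iff_modEq, ho, ← hi]
    exact (isOfFinOrder_iff_pow_eq_one.2 ⟨_, pow_pos hs.pos j, hi ▸ pow_orderOf_eq_one _⟩).pow_eq_pow_iff_modEq.1 e1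
  rw [← h1, ← h1] at e2
  rw [← a.out_eq', ← b.out_eq', QuotientGroup.eq, mem_subgroupOf, mem_centralizer_singleton_iff, coe_mul, coe_inv]
  generalize (a.out : T) = u, (b.out : T) = v at e2
  calc u⁻¹ * v * π x = u⁻¹ * (v * π x * v⁻¹) * v := by group
    _ = π x * (u⁻¹ * v) := by rw [← e2]; group

/-- **cyclic Sylow subgroups** -/
theorem syl [IsAlgClosed K] {A L : Subgroup T} {y : T} (hy : y ∈ A) {k b s : ℕ} (ho : orderOf y = k) (hA : Nat.card A = k * b)
    (hs : s.Prime) (hsk : s ∣ k) (hsb : ¬ s ∣ b) (h3 : s ≠ 3) (hp : (s : K) ≠ 0) (hL : L ≤ A) (hc : commutator L = ⊤)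
    (hLi : ¬ s ∣ L.relIndex A) (hX : c ^ 3 * Nat.card A ≤ k ^ 3 * Nat.card G) : Good A := by
  have := h.fin
  have : Fact s.Prime := ⟨hs⟩
  have k0 : k ≠ 0 := ho ▸ (orderOf_pos y).ne'
  obtain ⟨j, k', hk', e⟩ := Nat.exists_eq_pow_mul_and_not_dvd k0 s hs.ne_one
  have k1 : k' ≠ 0 := fun e1 => hk' (e1 ▸ dvd_zero s)
  have hn : (s ^ j).Coprime 3 := ((Nat.coprime_primes hs Nat.prime_three).2 h3).pow_left _
  have o1 : orderOf (y ^ k') = s ^ j := by
    rw [orderOf_pow_of_dvd k1 (ho ▸ e ▸ Dvd.intro_left _ rfl), ho, e, Nat.mul_div_cancel _ (Nat.pos_of_ne_zero k1)]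
  have hc1 : Commute y (y ^ k') := Commute.self_pow y k'
  have ha : y ^ k' ∈ A := pow_mem hy _
  obtain ⟨x₀, e0, e1⟩ := h.lift (o1 ▸ pow_orderOf_eq_one (y ^ k')) hn
  obtain ⟨θ, g, hx⟩ := h.frame (fun _ : Unit => x₀) (fun _ _ => rfl) (n := s ^ j) (by simpa using fun k => absurd k hp)
    fun _ => e1
  replace hx := hx ()
  rw [← e0] at o1 hc1 ha
  have hR : zpowers (π x₀) ≤ A := zpowers_le.2 ha
  have c1 : Nat.card (zpowers (π x₀)) = s ^ j := by rw [Nat.card_zpowers, o1]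
  have hP : IsPGroup s (zpowers (π x₀)) := IsPGroup.of_card c1
  have hi : ¬ s ∣ (zpowers (π x₀)).relIndex A := by
    have e2 := rel_card (zpowers (π x₀)) A
    rw [inf_eq_left.2 hR, c1, hA, e, mul_assoc, mul_comm] at e2
    rw [Nat.eq_of_mul_eq_mul_left (pow_pos hs.pos j) e2, hs.dvd_mul]
    exact fun k => k.elim hk' hsb
  have h1 : zpowers (π x₀) ≠ ⊥ := fun e2 => by
    rw [e2, card_bot] at c1
    rw [← c1, one_mul] at e
    exact hk' (e ▸ hsk)
  have hb := burn hs hR hP hi h1 hL hc hLi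
  rw [cent_zp] at hb
  obtain ⟨n, hn1, hn2⟩ := SetLike.not_le_iff_exists.1 hb
  obtain ⟨i, hi'⟩ := norm_pow hn1.1
  obtain ⟨n', rfl⟩ := h.surj n
  have rg : Rg θ x₀ := g.rg_of_pow hx (g.uniq (a := n' * x₀ * n'⁻¹) (by rw [map_mul, map_mul, map_inv, hi', map_pow])
    (by rw [conj_pow, e1, mul_one, mul_inv_cancel]) (by rw [← pow_mul, mul_comm, pow_mul, e1, one_pow]) hn) fun e2 =>
      hn2 (mem_centralizer_singleton_iff.2 (by rw [← map_pow, e2] at hi'; exact mul_inv_eq_iff_eq_mul.1 hi'))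
  have b1 := g.cn_rg rg e1 hn
  have b2 := g.autz hx hs h3 e1 o1
  have b3 := fs_sylow hs hR hP hi
  have b4 := fx_le_fs A (le_refl (zpowers (π x₀)))
  have hCN : centralizer {π x₀} ≤ normalizer (zpowers (π x₀) : Set T) := cent_zp (π x₀) ▸ centralizer_le_normalizer _
  have hno : ((centralizer {π x₀}).subgroupOf (normalizer (zpowers (π x₀) : Set T))).Normal :=
    cent_zp (π x₀) ▸ normal_subgroupOf_centralizer_normalizer _
  have b5 : k ≤ Nat.card ↥(centralizer {π x₀} ⊓ (normalizer (zpowers (π x₀) : Set T) ⊓ A)) := by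
    have e2 : y ∈ centralizer {π x₀} := mem_centralizer_singleton_iff.2 hc1
    rw [← ho, ← Nat.card_zpowers]
    exact card_le_of_le (zpowers_le.2 ⟨e2, hCN e2, hy⟩)
  generalize normalizer (zpowers (π x₀) : Set T) = N at *
  have b6 := rel_card (centralizer {π x₀}) N
  have b7 := rel_card (centralizer {π x₀}) (N ⊓ A)
  have b8 : (centralizer {π x₀}).relIndex (N ⊓ A) ∣ (centralizer {π x₀}).relIndex N := by
    rw [← relIndex_subgroupOf (inf_le_left : N ⊓ A ≤ N)]
    exact relIndex_dvd_index_of_normal _ _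
  have b9 : (centralizer {π x₀}).relIndex (N ⊓ A) ≠ 1 := fun e2 => hb (relIndex_eq_one.1 e2)
  have b10 : (centralizer {π x₀}).relIndex N ≠ 0 := index_ne_zero_of_finite
  rw [inf_eq_left.2 hCN] at b6
  have b11 : (centralizer {π x₀}).relIndex (N ⊓ A) = (centralizer {π x₀}).relIndex N := by
    generalize (centralizer {π x₀}).relIndex (N ⊓ A) = u, (centralizer {π x₀}).relIndex N = v at *
    have := Nat.le_of_dvd (by omega) b8
    interval_cases v <;> interval_cases u <;> simp at b8 b9 b10 ⊢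
  rw [← b6, ← b7, b11, mul_left_comm] at b3
  have b12 := Nat.eq_of_mul_eq_mul_left (Nat.pos_of_ne_zero b10) b3
  refine good_of_le ha b4 ?_
  have d0 : 0 < Nat.card π.ker := Nat.card_pos
  rw [h.card_top'] at hX
  have b13 : Nat.card π.ker * (fs A (zpowers (π x₀)) * k) ≤ c :=
    (Nat.mul_le_mul_left _ ((Nat.mul_le_mul_left _ b5).trans b12.le)).trans b1
  generalize Nat.card π.ker = d, fs A (zpowers (π x₀)) = f at *
  refine Nat.le_of_mul_le_mul_left (a := _) ?_ (Nat.mul_pos (pow_pos (Nat.pos_of_ne_zero k0) 3) d0)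
  calc k ^ 3 * d * (f ^ 3 * Nat.card A) ≤ k ^ 3 * d ^ 3 * (f ^ 3 * Nat.card A) :=
      Nat.mul_le_mul_right _ (Nat.mul_le_mul_left _ (Nat.le_self_pow three_ne_zero d))
    _ = (d * (f * k)) ^ 3 * Nat.card A := by ring
    _ ≤ c ^ 3 * Nat.card A := Nat.mul_le_mul_right _ (Nat.pow_le_pow_left b13 3)
    _ ≤ _ := by rwa [mul_assoc]

end Ax

end Cfsg.Agent.N2.L3
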